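import Groth.Agent.Lib.EtPic3.PushPoint
import Groth.Agent.Lib.FieldH25.Transfer

/-!
# Vanishing of cohomology from the cohomology of the higher direct images
-/

set_option autoImplicit false
set_option linter.style.haveILetI false
set_option backward.isDefEq.respectTransparency false
set_option backward.isDefEq.respectTransparency.types false
set_option maxHeartbeats 1000000

universe u

open CategoryTheory CategoryTheory.Limits AlgebraicGeometry Opposite CategoryTheory.Abelian
open Groth.Agent.EtStalk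

namespace Groth.Agent.CdField3

variable {X Y : Scheme.{u}} (f : X ⟶ Y) [PreservesFiniteLimits (EtCoh.pull f)]

/-- The degree zero edge map is surjective. -/
theorem surjective_HofPush_zero (A : EtCoh.Ab X) : Function.Surjective (EtLim.HofPush f A 0) := fun y => by
  obtain ⟨b, rfl⟩ := (Ext.mk₀_bijective _ _).2 y
  refine ⟨Ext.mk₀ ((EtCoh.pullPushAdj f).homEquiv _ _ ((EtCore.pullConst f ℤ).hom ≫ b)), ?_⟩
  rw [HofPush_apply, Ext.mapExactFunctor_mk₀, Ext.mk₀_comp_mk₀, Ext.mk₀_comp_mk₀]
  congr 1
  try rw [Category.assoc]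
  erw [← Adjunction.homEquiv_counit, Equiv.symm_apply_apply, Iso.inv_hom_id_assoc]

/-- If every `H^p(Y, R^i f_* G)` with `p + i = q` vanishes, then so does `H^q(X, G)`. -/
theorem subsingleton_H_compose : ∀ (q : ℕ) (G : EtCoh.Ab X),
    (∀ i p, p + i = q → Subsingleton (EtCoh.H Y ((EtCoh.Rpush f i).obj G) p)) →
    Subsingleton (EtCoh.H X G q) := by
  intro q
  induction q with
  | zero =>
    intro G hR
    haveI := hR 0 0 rfl
    haveI : Subsingleton (EtCoh.H Y ((EtCoh.push f).obj G) 0) := by
      refine subsingleton_of_forall_eq 0 fun z => ?_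
      exact FieldH25.eq_zero_of_comp_iso z ((EtCoh.push f).rightDerivedZeroIsoSelf.app G).symm
        (Subsingleton.elim (α := EtCoh.H Y ((EtCoh.Rpush f 0).obj G) 0) _ _)
    exact (surjective_HofPush_zero f G).subsingleton
  | succ q ih =>
    intro G hR
    let S := ShortComplex.mk (Injective.ι G) (cokernel.π (Injective.ι G)) (cokernel.condition _)
    have hS : S.ShortExact := { exact := ShortComplex.exact_cokernel (Injective.ι G) }
    haveI : Injective S.X₂ := inferInstanceAs (Injective (Injective.under G))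
    haveI : (EtCoh.push f).IsRightAdjoint := (EtCoh.pullPushAdj f).isRightAdjoint
    haveI := hS.mono_f
    let a := (EtCoh.push f).map S.f
    haveI : Mono a := inferInstance
    let T := ShortComplex.mk a (cokernel.π a) (cokernel.condition _)
    have hT : T.ShortExact := { exact := ShortComplex.exact_cokernel a }
    haveI : Injective T.X₂ := injective_push f S.X₂
    haveI : PreservesLimitsOfSize.{0, 0} (EtCoh.push f) := (EtCoh.pullPushAdj f).rightAdjoint_preservesLimits
    haveI : PreservesFiniteLimits (EtCoh.push f) := PreservesLimitsOfSize.preservesFiniteLimits _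
    let κ : T.X₃ ⟶ (EtCoh.push f).obj S.X₃ := cokernel.desc a ((EtCoh.push f).map S.g)
      (by rw [← Functor.map_comp, S.zero, Functor.map_zero])
    haveI : Mono κ := (hS.exact.map_of_mono_of_preservesKernel (EtCoh.push f) hS.mono_f inferInstance).mono_cokernelDesc
    obtain ⟨R⟩ := RDerLES.exists_sesRes hS
    have hI : ∀ m, IsZero ((EtCoh.Rpush f (m + 1)).obj S.X₂) := fun m =>
      (EtCoh.push f).isZero_rightDerived_obj_injective_succ m S.X₂
    obtain ⟨-, ⟨w, hw⟩, w', hw'⟩ := RDerLES.exact_sequences (EtCoh.push f) R 0 1 rfl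
    haveI : Epi (R.delta (EtCoh.push f) 0 1 rfl) := hw'.epi_f ((hI 0).eq_of_tgt _ _)
    let e0 := (EtCoh.push f).rightDerivedZeroIsoSelf
    let d : (EtCoh.push f).obj S.X₃ ⟶ (EtCoh.Rpush f 1).obj S.X₁ :=
      e0.inv.app S.X₃ ≫ R.delta (EtCoh.push f) 0 1 rfl
    haveI : Epi d := epi_comp _ _
    have hgd : (EtCoh.push f).map S.g ≫ d = 0 := by
      show (EtCoh.push f).map S.g ≫ e0.inv.app S.X₃ ≫ _ = 0
      rw [← Category.assoc, e0.inv.naturality S.g, Category.assoc]
      erw [w]
      exact comp_zero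
    have hgd' : (ShortComplex.mk _ _ hgd).Exact := by
      refine ShortComplex.exact_of_iso (S₁ := ShortComplex.mk _ _ w)
        (ShortComplex.isoMk (e0.app S.X₂) (e0.app S.X₃) (Iso.refl _) ?_ ?_) hw
      · exact (e0.hom.naturality S.g).symm
      · show e0.hom.app S.X₃ ≫ e0.inv.app S.X₃ ≫ _ = _ ≫ 𝟙 _
        rw [Iso.hom_inv_id_app_assoc, Category.comp_id]
    have hκd : κ ≫ d = 0 := by
      rw [← cancel_epi (cokernel.π a), cokernel.π_desc_assoc, comp_zero]
      exact hgd
    let Q := ShortComplex.mk κ d hκd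
    let φ : ShortComplex.mk _ _ hgd ⟶ Q :=
      { τ₁ := T.g, τ₂ := 𝟙 _, τ₃ := 𝟙 _
        comm₁₂ := by
          show T.g ≫ κ = (EtCoh.push f).map S.g ≫ 𝟙 _
          rw [Category.comp_id]
          exact cokernel.π_desc _ _ _
        comm₂₃ := by simp [Q] }
    haveI : Epi φ.τ₁ := inferInstanceAs (Epi (cokernel.π a))
    haveI : IsIso φ.τ₂ := inferInstanceAs (IsIso (𝟙 _))
    haveI : Mono φ.τ₃ := inferInstanceAs (Mono (𝟙 _))
    have hQ : Q.ShortExact :=
      { exact := (ShortComplex.exact_iff_of_epi_of_isIso_of_mono φ).1 hgd' }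
    -- every class of the pushed cokernel comes from the pushed injective
    have hlift : ∀ z' : EtCoh.H Y ((EtCoh.push f).obj S.X₃) q, ∃ b : EtCoh.H Y ((EtCoh.push f).obj S.X₂) q,
        b.comp (Ext.mk₀ ((EtCoh.push f).map S.g)) (add_zero q) = z' := by
      intro z'
      haveI := hR 1 q rfl
      obtain ⟨c, hc⟩ := Ext.covariant_sequence_exact₂ _ hQ z'
        (Subsingleton.elim (α := EtCoh.H Y ((EtCoh.Rpush f 1).obj G) q) _ 0)
      have hc0 : c.comp hT.extClass rfl = 0 := by
        haveI := hR 0 (q + 1) rfl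
        exact FieldH25.eq_zero_of_comp_iso _ (e0.app G).symm
          (Subsingleton.elim (α := EtCoh.H Y ((EtCoh.Rpush f 0).obj G) (q + 1)) _ _)
      obtain ⟨b, hb⟩ := Ext.covariant_sequence_exact₃ _ hT c rfl hc0
      refine ⟨b, ?_⟩
      rw [← hc, ← hb, Ext.comp_assoc_of_third_deg_zero, Ext.mk₀_comp_mk₀]
      congr 2
      exact (cokernel.π_desc _ _ _).symm
    -- hence the connecting map vanishes
    have hδ : ∀ z : EtCoh.H X S.X₃ q, z.comp hS.extClass rfl = 0 := by
      intro z
      rcases q with _ | q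
      · obtain ⟨z', rfl⟩ := surjective_HofPush_zero f S.X₃ z
        obtain ⟨b, rfl⟩ := hlift z'
        erw [HofPush_comp f S.g 0 b]
        exact (Ext.comp_assoc_of_second_deg_zero _ _ _ _).trans (by erw [hS.comp_extClass, Ext.comp_zero])
      · haveI : Subsingleton (EtCoh.H X S.X₃ (q + 1)) := by
          refine ih S.X₃ fun i p hpi => ?_
          rcases i with _ | i
          · obtain rfl : p = q + 1 := by omega
            refine subsingleton_of_forall_eq 0 fun z'' => ?_
            refine FieldH25.eq_zero_of_comp_iso z'' (e0.app S.X₃) ?_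
            obtain ⟨b, hb⟩ := hlift (z''.comp (Ext.mk₀ (e0.app S.X₃).hom) (add_zero _))
            rw [← hb, show b = 0 from Ext.eq_zero_of_injective (I := T.X₂) b, Ext.zero_comp]
          · obtain ⟨-, ⟨v, hv⟩, v', hv'⟩ := RDerLES.exact_sequences (EtCoh.push f) R (i + 1) (i + 1 + 1) rfl
            haveI : Mono (R.delta (EtCoh.push f) (i + 1) (i + 1 + 1) rfl) := hv.mono_g ((hI i).eq_of_src _ _)
            haveI := hR (i + 1 + 1) p (by omega)
            refine subsingleton_of_forall_eq 0 fun z'' => ?_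
            haveI : Epi (R.delta (EtCoh.push f) (i + 1) (i + 1 + 1) rfl) := hv'.epi_f ((hI (i + 1)).eq_of_tgt _ _)
            haveI := isIso_of_mono_of_epi (R.delta (EtCoh.push f) (i + 1) (i + 1 + 1) rfl)
            exact FieldH25.eq_zero_of_comp_iso z'' (asIso (R.delta (EtCoh.push f) (i + 1) (i + 1 + 1) rfl))
              (Subsingleton.elim (α := EtCoh.H Y ((EtCoh.Rpush f (i + 1 + 1)).obj G) p) _ _)
        rw [show z = 0 from Subsingleton.elim (α := EtCoh.H X S.X₃ (q + 1)) z 0, Ext.zero_comp]
    refine subsingleton_of_forall_eq 0 fun x => ?_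
    obtain ⟨z, rfl⟩ := Ext.covariant_sequence_exact₁ _ hS x (Ext.eq_zero_of_injective _) (n₀ := q) rfl
    exact hδ z

end Groth.Agent.CdField3
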