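import Groth.Agent.Lib.CdField3.Finite
import Groth.Agent.Lib.FibRank28.Main
import Groth.Agent.Lib.GrpdDim19.Basic
import Groth.Agent.Lib.EtPic3.MaxPoint
import Groth.Agent.S0149

/-!
# Higher direct images between schemes of finite type over a field
-/

set_option autoImplicit false
set_option linter.style.haveILetI false
set_option backward.isDefEq.respectTransparency false
set_option backward.isDefEq.respectTransparency.types false
set_option maxHeartbeats 1000000

universe u

open CategoryTheory CategoryTheory.Limits AlgebraicGeometry Opposite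

namespace Groth.Agent.CdField3

/-- The strict henselization of a field is a separably closed field, algebraic over it. -/
theorem strictHenselization_field (A R : Type u) [CommRing A] [IsLocalRing A] (hA : IsField A) [CommRing R]
    [IsLocalRing R] [Algebra A R] [IsLocalHom (algebraMap A R)] [Hensel.IsStrictHenselization A R] :
    IsField R ∧ Algebra.IsIntegral A R ∧ ∀ _ : Field R, IsSepClosed (IsLocalRing.ResidueField R) := by
  have hmax : IsLocalRing.maximalIdeal R = ⊥ := by
    rw [← Hens.strictHenselization_map_maximalIdeal (R := A) (S := R),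
      IsLocalRing.isField_iff_maximalIdeal_eq.1 hA, Ideal.map_bot]
  have hR : IsField R := IsLocalRing.isField_iff_maximalIdeal_eq.2 hmax
  haveI := Hensel.IsStrictHenselization.isSepClosure (R := A) (S := R)
  refine ⟨hR, ⟨fun r => ?_⟩, fun _ => IsSepClosure.sep_closed (IsLocalRing.ResidueField A)⟩
  have hinj : Function.Injective (IsLocalRing.residue R) := by
    rw [injective_iff_map_eq_zero]
    intro a ha
    rwa [IsLocalRing.residue_eq_zero_iff, hmax, Ideal.mem_bot] at ha
  haveI : Algebra.IsSeparable (IsLocalRing.ResidueField A) (IsLocalRing.ResidueField R) :=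
    IsSepClosure.separable
  haveI : Algebra.IsIntegral A (IsLocalRing.ResidueField A) :=
    Algebra.IsIntegral.of_surjective (Algebra.ofId A (IsLocalRing.ResidueField A)) IsLocalRing.residue_surjective
  haveI : Algebra.IsIntegral A (IsLocalRing.ResidueField R) := Algebra.IsIntegral.trans (IsLocalRing.ResidueField A)
  exact (isIntegral_algHom_iff (IsScalarTower.toAlgHom A R (IsLocalRing.ResidueField R)) hinj).1
    (Algebra.IsIntegral.isIntegral _)

/-- The base field extends to a separably closed field mapping to any strictly henselian ring over it. -/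
theorem exists_sepClosed_factor {K R : Type u} [Field K] [CommRing R] [HenselianLocalRing R]
    [IsSepClosed (IsLocalRing.ResidueField R)] (φ : K →+* R) :
    ∃ (Ks : Type u) (_ : Field Ks) (_ : IsSepClosed Ks) (ι : K →+* Ks) (ρ : Ks →+* R),
      ι.IsIntegral ∧ ρ.comp ι = φ := by
  let S := Hens.Hsh K
  obtain ⟨hS, hint, hsc⟩ := strictHenselization_field K S (Field.toIsField K)
  letI : Field S := hS.toField
  haveI hk := hsc ‹Field S›
  haveI := Hensel.IsStrictHenselization.isSepClosure (R := K) (S := S)
  haveI : Algebra.IsSeparable (IsLocalRing.ResidueField K) (IsLocalRing.ResidueField S) := IsSepClosure.separable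
  haveI : IsLocalHom φ := ⟨fun a ha => isUnit_iff_ne_zero.2 fun h => by
    rw [h, map_zero] at ha
    exact not_isUnit_zero ha⟩
  letI : Algebra (IsLocalRing.ResidueField K) (IsLocalRing.ResidueField R) :=
    (IsLocalRing.ResidueField.map φ).toAlgebra
  let τ : IsLocalRing.ResidueField S →ₐ[IsLocalRing.ResidueField K] IsLocalRing.ResidueField R := IsSepClosed.lift
  obtain ⟨g, ⟨hg, -⟩, -⟩ := Hensel.IsStrictHenselization.universal (R := K) (S := S) R φ τ.toRingHom
    τ.comp_algebraMap
  refine ⟨S, inferInstance, ?_, algebraMap K S, g, algebraMap_isIntegral_iff.2 hint, hg⟩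
  have hres : Function.Bijective (IsLocalRing.residue S) :=
    ⟨RingHom.injective _, IsLocalRing.residue_surjective⟩
  exact EtPic3.isSepClosed_of_ringEquiv (RingEquiv.ofBijective _ hres).symm

variable {K : Type u} [Field K] {X Y : Scheme.{u}} (a : X ⟶ Spec (CommRingCat.of K))
  (b : Y ⟶ Spec (CommRingCat.of K)) [LocallyOfFiniteType a] [QuasiCompact a]

/-- Over a separably closed extension the sdim of the base change is bounded. -/
theorem exists_bound : ∃ n : ℕ, ∀ (Ks : Type u) [Field Ks] (ι : K →+* Ks), ι.IsIntegral →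
    ∀ z : ↥(pullback a (Spec.map (CommRingCat.ofHom ι))),
      VarDim.sdim (pullback.snd a (Spec.map (CommRingCat.ofHom ι))) z ≤ n := by
  obtain ⟨n, hn⟩ := exists_sdim_le a
  refine ⟨n, fun Ks _ ι hι z => ?_⟩
  let e := Spec.map (CommRingCat.ofHom ι)
  let π := pullback.fst a e
  let h := pullback.snd a e
  haveI : LocallyOfFiniteType h := MorphismProperty.pullback_snd _ _ inferInstance
  haveI : IsIntegralHom π := MorphismProperty.pullback_fst _ _ (by
    show IsIntegralHom e
    rwa [IsIntegralHom.SpecMap_iff])
  have hle : topologicalKrullDim ↥(pullback a e) ≤ topologicalKrullDim X :=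
    GrpdDim19.dim_le_of_isIntegralHom π
  have h1 : ((VarDim.sdim h z : ℕ) : WithBot ℕ∞) ≤ (n : ℕ) :=
    ((le_iSup (fun y => ((VarDim.sdim h y : ℕ) : WithBot ℕ∞)) z).trans (VarDim.dim_eq_iSup_sdim h).ge).trans
      (hle.trans ((VarDim.dim_eq_iSup_sdim a).le.trans (iSup_le fun x => by exact_mod_cast hn x)))
  exact_mod_cast h1

variable [LocallyOfFiniteType b] [QuasiCompact b] (f : X ⟶ Y)

/-- Stalks of higher direct images between schemes of finite type over a field vanish in high degrees. -/
theorem exists_isZero_Rpush (w : f ≫ b = a) : ∃ d : ℕ, ∀ (F : EtCoh.Ab X), EtCoh.IsTorsion F →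
    ∀ q, d < q → IsZero ((EtCoh.Rpush f q).obj F) := by
  obtain ⟨n, hn⟩ := exists_bound a
  refine ⟨bound 0 n, fun F hF q hq => ?_⟩
  haveI : IsLocallyNoetherian Y := LocallyOfFiniteType.isLocallyNoetherian b
  haveI : CompactSpace X := QuasiCompact.compactSpace_of_compactSpace a
  haveI : IsLocallyNoetherian X := LocallyOfFiniteType.isLocallyNoetherian a
  haveI : QuasiCompact f := quasiCompact_of_compactSpace f
  haveI : QuasiSeparated f := inferInstance
  refine (EtStalk.isZero_iff_stalk _).2 fun Ω _ _ ξ => ?_
  let s : Y := ξ (default : Spec (CommRingCat.of Ω))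
  let A := Y.presheaf.stalk s
  let R := Hens.Hsh A
  haveI := Hensel.IsStrictHenselization.isSepClosure (R := A) (S := R)
  haveI : IsSepClosed (IsLocalRing.ResidueField R) :=
    IsSepClosure.sep_closed (IsLocalRing.ResidueField A)
  haveI : HenselianLocalRing R := Hensel.IsStrictHenselization.henselian (R := A)
  obtain ⟨e₀⟩ := S0620.result f F s R q
  let σ : Spec (CommRingCat.of R) ⟶ Y := Hens2.specOf Y s R
  obtain ⟨T⟩ := StrictLim24.nonempty_strictSys Y s R
  let φ : CommRingCat.of K ⟶ CommRingCat.of R := Spec.preimage (σ ≫ b)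
  obtain ⟨Ks, _, _, ι, ρ, hι, hρ⟩ := exists_sepClosed_factor φ.hom
  let e := Spec.map (CommRingCat.ofHom ι)
  haveI : IsIntegralHom e := by rw [IsIntegralHom.SpecMap_iff]; exact hι
  let Xs := pullback a e
  let πs : Xs ⟶ X := pullback.fst a e
  let as : Xs ⟶ Spec (CommRingCat.of Ks) := pullback.snd a e
  haveI : LocallyOfFiniteType as := MorphismProperty.pullback_snd _ _ inferInstance
  haveI : IsIntegralHom πs := MorphismProperty.pullback_fst _ _ inferInstance
  -- the system over the separably closed field
  let tb : T.Xs f ⟶ (Functor.const T.ιᵒᵖ).obj X := Descend.pbFst T.D T.t f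
  let D₂ := Descend.pbDiagram (T.Xs f) tb πs
  let Z := pullback f σ
  let p : Z ⟶ X := pullback.fst f σ
  let c₂ : Cone D₂ := Descend.pbCone (T.Xs f) tb πs (T.cone f) (q := p)
    (fun i => T.hb' f i.unop) (IsPullback.of_hasPullback πs p)
  have hc₂ : IsLimit c₂ := Descend.pbIsLimit (T.Xs f) tb πs (T.cone f) (q := p)
    (fun i => T.hb' f i.unop) (IsPullback.of_hasPullback πs p) (T.isLimit_cone f)
  haveI : ∀ {i j : T.ιᵒᵖ} (h : i ⟶ j), IsAffineHom (D₂.map h) := fun h =>
    MorphismProperty.of_isPullback (P := @IsAffineHom) (Descend.pbMap_isPullback (T.Xs f) tb πs h).flip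
      (T.isAffineHom_map f h)
  haveI hsnd : ∀ i, IsAffineHom (pullback.snd πs (tb.app i)) := fun i =>
    MorphismProperty.pullback_snd (P := @IsAffineHom) πs (tb.app i) inferInstance
  haveI : ∀ i, CompactSpace (D₂.obj i) := fun i =>
    haveI : CompactSpace ↥((T.Xs f).obj i) := inferInstanceAs (CompactSpace ↥((T.Xs f).obj (op i.unop)))
    QuasiCompact.compactSpace_of_compactSpace (pullback.snd πs (tb.app i))
  haveI : ∀ i, QuasiSeparatedSpace (D₂.obj i) := fun i =>
    haveI : QuasiSeparatedSpace ↥((T.Xs f).obj i) :=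
      inferInstanceAs (QuasiSeparatedSpace ↥((T.Xs f).obj (op i.unop)))
    quasiSeparatedSpace_of_quasiSeparated (pullback.snd πs (tb.app i))
  have hstage : ∀ i, EtCoh.CohDimLE (D₂.obj i) (bound 0 n) := fun i => by
    let h' : D₂.obj i ⟶ Xs := pullback.fst πs (tb.app i)
    haveI : AlgebraicGeometry.Etale (tb.app i) := inferInstanceAs (AlgebraicGeometry.Etale (T.b f i.unop))
    haveI : AlgebraicGeometry.Etale h' := MorphismProperty.pullback_fst _ _ inferInstance
    haveI : LocallyQuasiFinite h' := FiniteSplit.locallyQuasiFinite_of_etale h'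
    haveI : QuasiCompact (h' ≫ as) := quasiCompact_of_compactSpace _
    refine cdL_univ_iff.1 (cdL_finiteType (h' ≫ as) (L := Set.univ) (e := 0)
      (fun G _ r hr => EtPic3.subsingleton_H_sepClosed Ks G hr) n fun z => ?_)
    rw [FibRank28.sdim_comp_of_quasiFiniteAt as h' (h'.quasiFiniteAt z)]
    exact hn Ks ι hι (h' z)
  have hP : CdL Set.univ c₂.pt (bound 0 n) := cdL_univ_iff.2 (S0149.result D₂ c₂ hc₂ _ hstage)
  -- the strict localization is a closed subscheme
  let l : Z ⟶ Xs := pullback.lift p (pullback.snd f σ ≫ Spec.map (CommRingCat.ofHom ρ)) (by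
    have h1 : Spec.map (CommRingCat.ofHom ρ) ≫ e = σ ≫ b := by
      rw [← Spec.map_preimage (σ ≫ b), ← Spec.map_comp, ← CommRingCat.ofHom_comp, hρ]
      rfl
    rw [Category.assoc, h1, ← pullback.condition_assoc, w])
  let j : Z ⟶ pullback πs p := pullback.lift l (𝟙 Z) (by rw [pullback.lift_fst, Category.id_comp])
  haveI : IsClosedImmersion j := by
    haveI : IsClosedImmersion (j ≫ pullback.snd πs p) := by
      rw [pullback.lift_snd]
      infer_instance
    exact IsClosedImmersion.of_comp j (pullback.snd πs p)
  haveI : Subsingleton (EtCoh.H Z ((EtCoh.pull p).obj F) q) :=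
    cdL_integral j hP _ (PBC24.isLTorsion_univ (FieldBr3.isTorsion_pull' p hF)) q hq
  haveI : Subsingleton ((EtCoh.stalk (Hens2.geomPt Y s R)).obj ((EtCoh.Rpush f q).obj F)) :=
    AddCommGrpCat.subsingleton_of_isZero ((AddCommGrpCat.isZero_of_subsingleton _).of_iso e₀)
  have hpt : ξ default = Hens2.geomPt Y s R default := by
    show s = (Hens2.specOf Y s R) ((Spec.map (CommRingCat.ofHom (IsLocalRing.residue R))) default)
    rw [show (Spec.map (CommRingCat.ofHom (IsLocalRing.residue R))) default = IsLocalRing.closedPoint R from ?_]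
    · exact LocAcyc24.specOf_closedPoint.symm
    · exact (congrArg (Spec.map (CommRingCat.ofHom (IsLocalRing.residue R)))
        (Subsingleton.elim (default : Spec (CommRingCat.of (IsLocalRing.ResidueField R)))
          (IsLocalRing.closedPoint (IsLocalRing.ResidueField R)))).trans
        (IsLocalRing.comap_closedPoint (IsLocalRing.residue R))
  haveI := DimFn3.subsingleton_stalk_congr (F := (EtCoh.Rpush f q).obj F) ξ (Hens2.geomPt Y s R) hpt inferInstance
  exact AddCommGrpCat.isZero_of_subsingleton _

end Groth.Agent.CdField3
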