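import Groth.Agent.Lib.CdField3.AffineCd
import Groth.Agent.Lib.CdField3.Relative
import Groth.Agent.Lib.CdField3.Compose
import Groth.Agent.Lib.EtColim.Torsion
import Groth.Agent.S0101

/-!
# Passing to separably closed fields
-/

set_option autoImplicit false
set_option linter.style.haveILetI false
set_option linter.unusedSectionVars false
set_option maxHeartbeats 1000000
set_option backward.isDefEq.respectTransparency false
set_option backward.isDefEq.respectTransparency.types false

universe u

open CategoryTheory CategoryTheory.Limits AlgebraicGeometry Opposite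

noncomputable section

namespace Groth.Agent.CdField3

open Groth.Agent

/-- Higher direct images vanish if the cohomology of all strictly local fibres does. -/
theorem isZero_Rpush_of_strict {X Y : Scheme.{u}} (f : X ⟶ Y) [QuasiCompact f] [QuasiSeparated f]
    (F : EtCoh.Ab X) (q : ℕ)
    (h : ∀ (s : Y) (R : Type u) [CommRing R] [IsLocalRing R] [Algebra (Y.presheaf.stalk s) R]
      [IsLocalHom (algebraMap (Y.presheaf.stalk s) R)] [Hensel.IsStrictHenselization (Y.presheaf.stalk s) R],
      Subsingleton (EtCoh.H (pullback f (Hens2.specOf Y s R))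
        ((EtCoh.pull (pullback.fst f (Hens2.specOf Y s R))).obj F) q)) :
    IsZero ((EtCoh.Rpush f q).obj F) := by
  refine (EtStalk.isZero_iff_stalk _).2 fun Ω _ _ ξ => ?_
  let s : Y := ξ (default : Spec (CommRingCat.of Ω))
  let A := Y.presheaf.stalk s
  let R := Hens.Hsh A
  haveI := Hensel.IsStrictHenselization.isSepClosure (R := A) (S := R)
  haveI : IsSepClosed (IsLocalRing.ResidueField R) :=
    IsSepClosure.sep_closed (IsLocalRing.ResidueField A)
  obtain ⟨e₀⟩ := S0620.result f F s R q
  haveI : Subsingleton (EtCoh.H (pullback f (Hens2.specOf Y s R))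
      ((EtCoh.pull (pullback.fst f (Hens2.specOf Y s R))).obj F) q) := h s R
  haveI : Subsingleton ((EtCoh.stalk (Hens2.geomPt Y s R)).obj ((EtCoh.Rpush f q).obj F)) :=
    AddCommGrpCat.subsingleton_of_isZero ((AddCommGrpCat.isZero_of_subsingleton _).of_iso e₀)
  have hpt : ξ default = Hens2.geomPt Y s R default := by
    show s = (Hens2.specOf Y s R) ((Spec.map (CommRingCat.ofHom (IsLocalRing.residue R))) default)
    rw [show (Spec.map (CommRingCat.ofHom (IsLocalRing.residue R))) default = IsLocalRing.closedPoint R from ?_]
    · exact LocAcyc24.specOf_closedPoint.symm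
    · exact (congrArg (Spec.map (CommRingCat.ofHom (IsLocalRing.residue R)))
        (Subsingleton.elim (default : Spec (CommRingCat.of (IsLocalRing.ResidueField R)))
          (IsLocalRing.closedPoint (IsLocalRing.ResidueField R)))).trans
        (IsLocalRing.comap_closedPoint (IsLocalRing.residue R))
  haveI := DimFn3.subsingleton_stalk_congr (F := (EtCoh.Rpush f q).obj F) ξ (Hens2.geomPt Y s R) hpt inferInstance
  exact AddCommGrpCat.isZero_of_subsingleton _

/-- If the bound `d` holds for sheaves pulled back to separably closed fields, then the bound `d + e`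
holds over a field of cohomological dimension `e`. -/
theorem subsingleton_H_of_sepClosed {K : Type u} [Field K] {X : Scheme.{u}}
    (f : X ⟶ Spec (CommRingCat.of K)) [LocallyOfFiniteType f] [QuasiCompact f] [QuasiSeparated f] (d e : ℕ)
    (hK : EtCoh.CohDimLE (Spec (CommRingCat.of K)) e) (F : EtCoh.Ab X) (hF : EtCoh.IsTorsion F)
    (h : ∀ (Ks : Type u) [Field Ks] [IsSepClosed Ks] (ι : K →+* Ks), ι.IsIntegral → ∀ q, d < q →
      Subsingleton (EtCoh.H (pullback f (Spec.map (CommRingCat.ofHom ι)))
        ((EtCoh.pull (pullback.fst f (Spec.map (CommRingCat.ofHom ι)))).obj F) q))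
    (b : ℕ) (hb : d + e < b) : Subsingleton (EtCoh.H X F b) := by
  haveI : PreservesFiniteLimits (EtCoh.pull f) := S0101.result f
  refine subsingleton_H_compose f b F fun i p hip => ?_
  rcases Nat.lt_or_ge d i with hi | hi
  · have hz : IsZero ((EtCoh.Rpush f i).obj F) := isZero_Rpush_of_strict f F i fun s R _ _ _ _ _ => by
      let φ : CommRingCat.of K ⟶ CommRingCat.of R := Spec.preimage (Hens2.specOf (Spec (CommRingCat.of K)) s R)
      have hA : IsField ((Spec (CommRingCat.of K)).presheaf.stalk s) := by
        haveI : Subsingleton (Spec (CommRingCat.of K)) := inferInstanceAs (Subsingleton (PrimeSpectrum K))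
        haveI := EtPic3.isIso_fromSpecStalk_of_subsingleton s
        haveI : IsIso (Spec.preimage ((Spec (CommRingCat.of K)).fromSpecStalk s)) := by
          haveI : IsIso (Scheme.Spec.map (Spec.preimage ((Spec (CommRingCat.of K)).fromSpecStalk s)).op) := by
            show IsIso (Spec.map (Spec.preimage ((Spec (CommRingCat.of K)).fromSpecStalk s)))
            rw [Spec.map_preimage]; infer_instance
          haveI := isIso_of_fully_faithful Scheme.Spec (Spec.preimage ((Spec (CommRingCat.of K)).fromSpecStalk s)).op
          exact isIso_of_op _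
        exact (asIso (Spec.preimage ((Spec (CommRingCat.of K)).fromSpecStalk s))).commRingCatIsoToRingEquiv.toMulEquiv.symm.isField
          (Field.toIsField K)
      obtain ⟨hR, hint, hsc⟩ := strictHenselization_field _ R hA
      letI : Field R := hR.toField
      haveI := hsc ‹Field R›
      have hres : Function.Bijective (IsLocalRing.residue R) :=
        ⟨RingHom.injective _, IsLocalRing.residue_surjective⟩
      haveI : IsSepClosed R := EtPic3.isSepClosed_of_ringEquiv (RingEquiv.ofBijective _ hres).symm
      have hsp : Spec.map (CommRingCat.ofHom φ.hom) = Hens2.specOf (Spec (CommRingCat.of K)) s R :=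
        Spec.map_preimage _
      have hi' : φ.hom.IsIntegral := by
        have h1 : IsIntegralHom (Spec.map (CommRingCat.ofHom φ.hom)) := by
          rw [hsp]
          haveI : IsIntegralHom (Spec.map (CommRingCat.ofHom
              (algebraMap ((Spec (CommRingCat.of K)).presheaf.stalk s) R))) := by
            rw [IsIntegralHom.SpecMap_iff]; exact algebraMap_isIntegral_iff.2 hint
          haveI : IsIntegralHom ((Spec (CommRingCat.of K)).fromSpecStalk s) := by
            haveI : Subsingleton (Spec (CommRingCat.of K)) := inferInstanceAs (Subsingleton (PrimeSpectrum K))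
            haveI := EtPic3.isIso_fromSpecStalk_of_subsingleton s
            infer_instance
          show IsIntegralHom (Spec.map _ ≫ _)
          infer_instance
        rwa [IsIntegralHom.SpecMap_iff] at h1
      have := h R φ.hom hi' i hi
      rw [hsp] at this
      exact this
    exact subsingleton_of_forall_eq 0 fun x => by
      rw [← Sheaf.H.map_id_apply x, hz.eq_of_src (𝟙 _) 0]
      show x.comp (Abelian.Ext.mk₀ 0) (add_zero p) = 0
      rw [Abelian.Ext.mk₀_zero, Abelian.Ext.comp_zero]
  · exact hK _ (EtColim.isTorsion_Rpush f hF i) p (by omega)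

/-- Affine curves over a field. -/
theorem cohDimLE_affineCurve_field {K : Type u} [Field K] {X : Scheme.{u}} [IsAffine X]
    (f : X ⟶ Spec (CommRingCat.of K)) [LocallyOfFiniteType f] (e : ℕ) (hd : topologicalKrullDim X ≤ 1)
    (hK : EtCoh.CohDimLE (Spec (CommRingCat.of K)) e) : EtCoh.CohDimLE X (1 + e) := fun F hF b hb => by
  refine subsingleton_H_of_sepClosed f 1 e hK F hF (fun Ks _ _ ι hι q hq => ?_) b hb
  let σ := Spec.map (CommRingCat.ofHom ι)
  haveI : IsIntegralHom σ := by rw [IsIntegralHom.SpecMap_iff]; exact hι
  let π := pullback.fst f σ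
  haveI : IsIntegralHom π := MorphismProperty.pullback_fst _ _ inferInstance
  haveI : IsAffine (pullback f σ) := isAffine_of_isAffineHom π
  haveI : LocallyOfFiniteType (pullback.snd f σ) := MorphismProperty.pullback_snd _ _ inferInstance
  exact cohDimLE_affineCurve_sepClosed (pullback.snd f σ) ((GrpdDim19.dim_le_of_isIntegralHom π).trans hd) _
    (FieldBr3.isTorsion_pull' π hF) q hq

end Groth.Agent.CdField3
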