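import Groth.Agent.Lib.CdField3.Fields
import Groth.Agent.Lib.FieldH25.Primary
import Groth.Agent.Lib.EtPic3.Killed

/-!
# From primary torsion to torsion
-/

set_option autoImplicit false
set_option linter.style.haveILetI false
set_option backward.isDefEq.respectTransparency false
set_option backward.isDefEq.respectTransparency.types false

universe u

open CategoryTheory CategoryTheory.Limits AlgebraicGeometry Opposite CategoryTheory.Abelian

namespace Groth.Agent.CdField3

variable {X : Scheme.{u}}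

theorem isLTorsion_mono {L L' : Set ℕ} (h : L ⊆ L') {F : EtCoh.Ab X} (hF : EtAcyc.IsLTorsion L F) :
    EtAcyc.IsLTorsion L' F := by
  intro U s x
  obtain ⟨V, g, m, hv, ⟨hm, hp⟩, h0⟩ := hF U s x
  exact ⟨V, g, m, hv, ⟨hm, fun p hp' hd => h (hp p hp' hd)⟩, h0⟩

theorem cdL_of_subset {L L' : Set ℕ} (h : L ⊆ L') {d : ℕ} (hX : CdL L' X d) : CdL L X d :=
  fun F hF => hX F (isLTorsion_mono h hF)

theorem isPrimaryTorsion_of_nsmul_id {ℓ : ℕ} {F : EtCoh.Ab X} (h : ℓ • 𝟙 F = 0) : Dix.IsPrimaryTorsion ℓ F := by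
  intro U s x
  refine ⟨U, 𝟙 U, ⟨x, rfl⟩, 1, ?_⟩
  have h1 : ((sheafToPresheaf _ _ ⋙ (evaluation _ _).obj (op U)).map (ℓ • 𝟙 F) : F.obj.obj (op U) ⟶ _) = 0 := by
    rw [h, Functor.map_zero]
  rw [Functor.map_nsmul, CategoryTheory.Functor.map_id] at h1
  rw [pow_one]
  exact ConcreteCategory.congr_hom h1 (F.obj.map (𝟙 U).op s)

/-- Sheaves killed by `a` have no cohomology in degree `q` if primary torsion sheaves do not. -/
theorem subsingleton_H_of_killed (L : Set ℕ) (q : ℕ)
    (h : ∀ p : ℕ, p.Prime → p ∈ L → ∀ G : EtCoh.Ab X, Dix.IsPrimaryTorsion p G → Subsingleton (EtCoh.H X G q)) :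
    ∀ (a : ℕ) (G : EtCoh.Ab X), EtAcyc.PrimesIn L a → a • 𝟙 G = 0 → Subsingleton (EtCoh.H X G q) := by
  intro a
  induction a using Nat.recOnMul with
  | zero => exact fun G hL _ => absurd hL.1 (lt_irrefl 0)
  | one =>
    intro G _ hG
    refine subsingleton_of_forall_eq 0 fun c => ?_
    rw [one_nsmul] at hG
    rw [← Ext.comp_mk₀_id c, hG, Ext.mk₀_zero, Ext.comp_zero]
  | prime p hp =>
    exact fun G hL hG => h p hp (hL.2 p hp dvd_rfl) G (isPrimaryTorsion_of_nsmul_id hG)
  | mul b c hb hc =>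
    intro G hL hG
    have hb0 : 0 < b := Nat.pos_of_ne_zero fun h0 => by have := hL.1; simp [h0] at this
    have hc0 : 0 < c := Nat.pos_of_ne_zero fun h0 => by have := hL.1; simp [h0] at this
    have hLb : EtAcyc.PrimesIn L b := ⟨hb0, fun p hp hd => hL.2 p hp (hd.mul_right c)⟩
    have hLc : EtAcyc.PrimesIn L c := ⟨hc0, fun p hp hd => hL.2 p hp (hd.mul_left b)⟩
    let f : G ⟶ G := b • 𝟙 G
    let π := cokernel.π (kernel.ι f)
    let j : cokernel (kernel.ι f) ⟶ G := cokernel.desc _ f (kernel.condition f)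
    haveI : Mono j := by
      show Mono (Abelian.factorThruCoimage f)
      infer_instance
    let S : ShortComplex (EtCoh.Ab X) := ShortComplex.mk (kernel.ι f) π (cokernel.condition _)
    have hS : S.ShortExact := { exact := ShortComplex.exact_cokernel _ }
    have hK : b • 𝟙 (kernel f) = 0 := by
      rw [← cancel_mono (kernel.ι f), Preadditive.nsmul_comp, Category.id_comp, zero_comp]
      calc b • kernel.ι f = kernel.ι f ≫ f := by simp only [f, Preadditive.comp_nsmul, Category.comp_id]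
        _ = 0 := kernel.condition f
    have hC : c • 𝟙 (cokernel (kernel.ι f)) = 0 := by
      rw [← cancel_mono j, ← cancel_epi π]
      rw [Preadditive.nsmul_comp, Category.id_comp, zero_comp, comp_zero, Preadditive.comp_nsmul]
      rw [show π ≫ j = f from cokernel.π_desc _ _ _]
      show c • (b • 𝟙 G) = 0
      rw [smul_smul, mul_comm]
      exact hG
    haveI hKs : Subsingleton (EtCoh.H X S.X₁ q) := hb _ hLb hK
    haveI hCs : Subsingleton (EtCoh.H X S.X₃ q) := hc _ hLc hC
    refine subsingleton_of_forall_eq 0 fun x => ?_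
    obtain ⟨w, hw⟩ := Ext.covariant_sequence_exact₂ _ hS x (Subsingleton.elim (α := EtCoh.H X S.X₃ q) _ 0)
    rw [← hw, show w = 0 from Subsingleton.elim (α := EtCoh.H X S.X₁ q) w 0, Ext.zero_comp]

/-- `L`-torsion sheaves have no cohomology in degree `q` if `p`-primary ones (`p ∈ L`) do not. -/
theorem subsingleton_H_of_primary [CompactSpace X] [QuasiSeparatedSpace X] (L : Set ℕ) (q : ℕ)
    (h : ∀ p : ℕ, p.Prime → p ∈ L → ∀ G : EtCoh.Ab X, Dix.IsPrimaryTorsion p G → Subsingleton (EtCoh.H X G q))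
    (F : EtCoh.Ab X) (hF : EtAcyc.IsLTorsion L F) : Subsingleton (EtCoh.H X F q) := by
  haveI : IsFiltered (ULift.{u + 1} ℕ) := isFiltered_of_directed_le_nonempty _
  let hcc : IsColimit (EtColim.torCocone F) :=
    @IsColimit.ofPointIso _ _ _ _ _ _ _ (colimit.isColimit (EtColim.torDiag F))
      (EtColim.isIso_desc F (PBC24.isTorsion_of_isLTorsion hF))
  haveI := EtColim.preservesColimitsOfShape_HF X q (ULift.{u + 1} ℕ)
  refine subsingleton_of_forall_eq 0 fun x => ?_
  obtain ⟨k, (xk : EtCoh.H X ((EtColim.torDiag F).obj k) q), hxk⟩ := Concrete.isColimit_exists_rep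
    (EtColim.torDiag F ⋙ EtCoh.HF X q) (isColimitOfPreserves (EtCoh.HF X q) hcc) x
  obtain ⟨a, ha, ha0⟩ := EtAcyc24.exists_killed L hF k
  haveI := subsingleton_H_of_killed L q h a _ ha ha0
  rw [← hxk, show xk = 0 from Subsingleton.elim _ _]
  exact map_zero _

end Groth.Agent.CdField3
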