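import Groth.Agent.Lib.CdField3.CurveConst
import Groth.Agent.Lib.CdField3.Primary
import Groth.Agent.Lib.CdpDim3.Main
import Groth.Agent.Lib.PBC24.Torsion
import Groth.Agent.Lib.EtAcyc24.IntegralBase
import Groth.Agent.S0205

/-!
# Cohomological dimension of affine curves over separably closed fields
-/

set_option autoImplicit false
set_option linter.style.haveILetI false
set_option linter.unusedSectionVars false
set_option maxHeartbeats 2000000
set_option synthInstance.maxHeartbeats 200000
set_option backward.isDefEq.respectTransparency.types false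

universe u

open CategoryTheory CategoryTheory.Limits AlgebraicGeometry TopologicalSpace

noncomputable section

namespace Groth.Agent.CdField3

open Groth.Agent

/-- An affine scheme of finite type and dimension at most one over `k`. -/
def AffineCurveLike (k : Type u) [Field k] (X : Scheme.{u}) : Prop :=
  IsAffine X ∧ ∃ f : X ⟶ Spec (CommRingCat.of k), LocallyOfFiniteType f ∧ topologicalKrullDim X ≤ 1

variable {k : Type u} [Field k] [IsAlgClosed k]

theorem AffineCurveLike.isNoetherian {X : Scheme.{u}} (h : AffineCurveLike k X) : IsNoetherian X := by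
  obtain ⟨hA, f, hf, -⟩ := h
  haveI : IsLocallyNoetherian X := LocallyOfFiniteType.isLocallyNoetherian f
  exact ⟨⟩

theorem subsingleton_H2_const {X : Scheme.{u}} (h : AffineCurveLike k X) {ℓ : ℕ} (hℓ : ℓ.Prime)
    (hk : (ℓ : k) ≠ 0) : Subsingleton (EtCoh.H X (EtCoh.const X (ZMod ℓ)) 2) := by
  obtain ⟨hA, f, hf, hd⟩ := h
  haveI := hA
  let A : Type u := Γ(X, ⊤)
  letI : Algebra k A := (f.appTop.hom.comp (Scheme.ΓSpecIso (CommRingCat.of k)).inv.hom).toAlgebra
  haveI : Algebra.FiniteType k A := by
    show (f.appTop.hom.comp (Scheme.ΓSpecIso (CommRingCat.of k)).inv.hom).FiniteType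
    refine RingHom.FiniteType.comp ((HasRingHomProperty.iff_of_isAffine (P := @LocallyOfFiniteType)).1 hf)
      (RingHom.FiniteType.of_surjective _ (Scheme.ΓSpecIso (CommRingCat.of k)).symm.commRingCatIsoToRingEquiv.surjective)
  have hA1 : ringKrullDim A ≤ 1 := by
    rw [← PrimeSpectrum.topologicalKrullDim_eq_ringKrullDim]
    exact (IsHomeomorph.topologicalKrullDim_eq _ X.isoSpec.hom.homeomorph.isHomeomorph).ge.trans hd
  haveI := subsingleton_H2_const_Spec (A := A) hℓ hk hA1 1
  obtain ⟨e⟩ := LocAcyc24.nonempty_H_const_addEquiv X.isoSpec.hom (ZMod (ℓ ^ 1)) 2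
  have h1 : Subsingleton (EtCoh.H X (EtCoh.const X (ZMod (ℓ ^ 1))) 2) := e.symm.injective.subsingleton
  revert h1
  rw [pow_one]
  exact id

/-- Affine curves allow dévissage for sheaves of order prime to the characteristic. -/
theorem cls_affineCurveLike {ℓ : ℕ} (hℓ : ℓ.Prime) (hk : (ℓ : k) ≠ 0) :
    CdP3.Cls ℓ 0 (AffineCurveLike k) where
  compact h := haveI := h.1; inferInstance
  van_const {X} h q hq := by
    rcases eq_or_lt_of_le (show 2 ≤ q by omega) with rfl | hq3
    · exact subsingleton_H2_const h hℓ hk
    · obtain ⟨hA, f, hf, hd⟩ := h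
      haveI := hA
      haveI := hf
      refine FieldBr3.subsingleton_H_curve f hd _ (PBC24.isTorsion_of_isLTorsion (L := Set.univ) ?_) hq3
      exact EtAcyc24.isLTorsion_of_nsmul Set.univ ⟨hℓ.pos, fun _ _ _ => Set.mem_univ _⟩
        (EtAcyc24.nsmul_id_const X ℓ)
  of_integral {X P} h π hπ hft := by
    haveI := h.1
    obtain ⟨f, hf, hd⟩ := h.2
    haveI := hf
    haveI := hπ
    haveI := hft inferInstance
    haveI : IsFinite π := (IsFinite.iff_isIntegralHom_and_locallyOfFiniteType π).2 ⟨hπ, inferInstance⟩
    exact ⟨isAffine_of_isAffineHom π, π ≫ f, inferInstance,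
      (AlgSpDecent.topologicalKrullDim_le_of_lqf π).trans hd⟩
  extend {X U W} h j hj hjc c hc := by
    haveI := h.isNoetherian
    haveI := h.1
    obtain ⟨f, hf, hd⟩ := h.2
    haveI := hf
    haveI := hj
    haveI := hc
    obtain ⟨X', π, hπ, j', hj', hjc', hpb⟩ := CdpDim3.exists_finite_extension j c
    haveI := hπ
    exact ⟨X', π, inferInstance, j', hj', hjc', hpb, isAffine_of_isAffineHom π, π ≫ f, inferInstance,
      (AlgSpDecent.topologicalKrullDim_le_of_lqf π).trans hd⟩

/-- Affine curves over algebraically closed fields have cohomological dimension at most one. -/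
theorem cohDimLE_affineCurve {X : Scheme.{u}} [IsAffine X] (f : X ⟶ Spec (CommRingCat.of k))
    [LocallyOfFiniteType f] (hd : topologicalKrullDim X ≤ 1) : EtCoh.CohDimLE X 1 := by
  intro F hF q hq
  have hC : AffineCurveLike k X := ⟨inferInstance, f, inferInstance, hd⟩
  haveI := hC.isNoetherian
  refine subsingleton_H_of_primary Set.univ q (fun ℓ hℓ _ G hG => ?_) F (PBC24.isLTorsion_univ hF)
  haveI : Fact ℓ.Prime := ⟨hℓ⟩
  by_cases hk : (ℓ : k) = 0
  · haveI : CharP k ℓ := (CharP.charP_iff_prime_eq_zero hℓ).2 hk
    exact Groth.Agent.S0205.result k ℓ X f hd G hG q hq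
  · exact CdP3.van_primary (cls_affineCurveLike hℓ hk) hC hG q hq

/-- Affine curves over separably closed fields have cohomological dimension at most one. -/
theorem cohDimLE_affineCurve_sepClosed {k : Type u} [Field k] [IsSepClosed k] {X : Scheme.{u}} [IsAffine X]
    (f : X ⟶ Spec (CommRingCat.of k)) [LocallyOfFiniteType f] (hdim : topologicalKrullDim X ≤ 1) :
    EtCoh.CohDimLE X 1 := by
  intro F hF q hq
  let kb := AlgebraicClosure k
  haveI : IsPurelyInseparable k kb := inferInstance
  let σ := Spec.map (CommRingCat.ofHom (algebraMap k kb))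
  haveI : IsIntegralHom σ := by
    rw [IsIntegralHom.SpecMap_iff]
    exact algebraMap_isIntegral_iff.mpr (inferInstance : Algebra.IsIntegral k kb)
  haveI : UniversallyInjective σ := RelCyc15.universallyInjective_spec k kb
  haveI : Surjective σ := RelCyc15.surjective_spec k kb
  let π := pullback.fst f σ
  haveI : IsIntegralHom π := MorphismProperty.pullback_fst _ _ inferInstance
  haveI : UniversallyInjective π := MorphismProperty.pullback_fst _ _ inferInstance
  haveI : Surjective π := MorphismProperty.pullback_fst _ _ inferInstance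
  have hh : IsHomeomorph π :=
    isHomeomorph_iff_isEmbedding_surjective.2
      ⟨(Topology.IsClosedEmbedding.of_continuous_injective_isClosedMap π.continuous π.injective
        π.isClosedMap).isEmbedding, π.surjective⟩
  haveI : IsAffine (pullback f σ) := isAffine_of_isAffineHom π
  haveI : LocallyOfFiniteType (pullback.snd f σ) := MorphismProperty.pullback_snd _ _ inferInstance
  exact PBC24.subsingleton_H_of_univHomeo π F q (cohDimLE_affineCurve (pullback.snd f σ)
    ((IsHomeomorph.topologicalKrullDim_eq _ hh).trans_le hdim) _ (FieldBr3.isTorsion_pull' π hF) q hq)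

end Groth.Agent.CdField3
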