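import Groth.Agent.Lib.CdField3.PicAffine
import Groth.Agent.Lib.CurveNF.Complete
import Groth.Agent.Lib.RegSmooth17.Scheme
import Groth.Agent.Lib.WDiv3.Basic
import Groth.Agent.Lib.PBC24.Kummer
import Groth.Agent.Lib.PBC24.CurveVan
import Groth.Agent.Lib.EtPic3.Compare
import Groth.Agent.Lib.PicH1_21.Natural

/-!
# Normal affine curves over algebraically closed fields
-/

set_option autoImplicit false
set_option linter.style.haveILetI false
set_option linter.unusedSectionVars false
set_option maxHeartbeats 2000000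
set_option synthInstance.maxHeartbeats 200000
set_option backward.isDefEq.respectTransparency.types false

universe u

open CategoryTheory CategoryTheory.Limits AlgebraicGeometry TopologicalSpace CategoryTheory.Abelian Polynomial

noncomputable section

namespace Groth.Agent.CdField3

open Groth.Agent

noncomputable local instance instLawAffineCurve (Y : Scheme.{u}) : PicGrp.Law Y := M2.law Y

variable {k : Type u} [Field k] [IsAlgClosed k] {U : Scheme.{u}} [IsAffine U] [IsIntegral U]
  (p : U ⟶ Spec (CommRingCat.of k)) [LocallyOfFiniteType p]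

include p in
/-- The Picard group of a normal affine curve is divisible. -/
theorem exists_pow_eq_pic_affine (hN : Pi1.IsNormalScheme U) (hd : topologicalKrullDim U = 1) {n : ℕ}
    (hn : 0 < n) (c : PicLoc.PicSet U) : ∃ b : PicLoc.PicSet U, b ^ n = c := by
  classical
  haveI : IsLocallyNoetherian U := LocallyOfFiniteType.isLocallyNoetherian p
  haveI : IsNoetherian U := ⟨⟩
  refine exists_pow_eq_pic hN hd hn (fun x hx => ?_) c
  haveI : IsSeparated p := inferInstance
  haveI : QuasiCompact p := inferInstance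
  have hU1 : ∀ y : U, IsClosed ({y} : Set U) → ringKrullDim (U.presheaf.stalk y) = 1 :=
    fun y hy => Curve17.ringKrullDim_stalk hd hy
  obtain ⟨Y, hY, q, j, hq, hj, hjq, hYN, hYX⟩ := CurveNF.exists_completion_integral p hU1 hN
  haveI : IsLocallyNoetherian Y := LocallyOfFiniteType.isLocallyNoetherian q
  haveI : CompactSpace Y := QuasiCompact.compactSpace_of_compactSpace q
  haveI : IsNoetherian Y := ⟨⟩
  haveI : LocallyOfFinitePresentation q := inferInstance
  haveI hsm : Smooth q := RegSmooth17.smooth_of_regular_of_perfectField q fun y => by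
    haveI := (hYN y).1
    haveI := (hYN y).2
    exact DVRVal.isRegularLocalRing_of_normal _ (DVRVal.ringKrullDim_stalk_le_one q hYX y)
  have hdY : topologicalKrullDim Y = 1 := by
    rw [VarDim.topologicalKrullDim_eq_height_genericPoint, VarDim.height_eq_sdim q,
      (CurveNF.curve_iff_sdim_genericPoint q).1 hYX]
    rfl
  obtain ⟨x₀, hx₀⟩ : ∃ x₀ : Y, x₀ ∉ Set.range j := by
    by_contra hall
    push Not at hall
    haveI : Surjective j := ⟨fun y => hall y⟩
    haveI : IsIso j := isIso_of_isOpenImmersion_of_opensRange_eq_top j (by ext y; simp [hall y])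
    haveI : IsProper p := by rw [← hjq]; infer_instance
    haveI : IsFinite p := IsFinite.iff_isProper_and_isAffineHom.2 ⟨inferInstance, inferInstance⟩
    have h1 := AlgSpDecent.topologicalKrullDim_le_of_lqf p
    have h2 : topologicalKrullDim (Spec (CommRingCat.of k)) = 0 :=
      (PrimeSpectrum.topologicalKrullDim_eq_ringKrullDim k).trans (ringKrullDim_eq_zero_of_field k)
    rw [hd, h2] at h1
    exact absurd h1 (by decide)
  have hηU : j (genericPoint U) = genericPoint Y := genericPoint_eq_of_isOpenImmersion j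
  letI : Y.Over (Spec (CommRingCat.of k)) := ⟨q⟩
  haveI : IsProper (Y ↘ Spec (CommRingCat.of k)) := hq
  haveI : Smooth (Y ↘ Spec (CommRingCat.of k)) := hsm
  have hne : ∀ y : U, y ≠ genericPoint U → j y ≠ genericPoint Y := fun y hy h =>
    hy (j.isOpenEmbedding.injective (h.trans hηU.symm))
  obtain ⟨g, hg, hgd⟩ := exists_function_divisor_mod (k := k) hdY hn (j x) x₀ (hne x hx)
    (fun h => hx₀ ⟨_, hηU.trans h.symm⟩)
  refine ⟨(WDiv3.ffIso j).hom g, fun h0 => hg ?_, fun y hy => ?_⟩
  · exact (ConcreteCategory.bijective_of_isIso (WDiv3.ffIso j).hom).1 (h0.trans (map_zero _).symm)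
  · have h1 := hgd (j y) (hne y hy)
    rw [if_neg (show j y ≠ x₀ from fun h => hx₀ ⟨y, h⟩), sub_zero] at h1
    rw [WDiv3.ord_ffIso]
    convert h1 using 2
    exact if_congr ⟨fun h => congrArg j h, fun h => j.isOpenEmbedding.injective h⟩ rfl rfl

include p in
/-- On a normal affine curve the constant sheaf `ℤ/ℓ^e` has no second cohomology for `ℓ` invertible. -/
theorem subsingleton_H2_const_affine (hN : Pi1.IsNormalScheme U) (hd : topologicalKrullDim U = 1) {ℓ : ℕ}
    (hℓ : ℓ.Prime) (hk : (ℓ : k) ≠ 0) (e : ℕ) :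
    Subsingleton (EtCoh.H U (EtCoh.const U (ZMod (ℓ ^ e))) 2) := by
  have hn : 1 ≤ ℓ ^ e := pow_pos hℓ.pos e
  have hnk : ((ℓ ^ e : ℕ) : k) ≠ 0 := by rw [Nat.cast_pow]; exact pow_ne_zero _ hk
  obtain ⟨z, hz⟩ := IsAlgClosed.exists_root (cyclotomic (ℓ ^ e) k)
    (by rw [degree_cyclotomic]; exact_mod_cast (Nat.totient_pos.2 hn).ne')
  let φ : k →+* Γ(U, ⊤) := p.appTop.hom.comp (Scheme.ΓSpecIso (CommRingCat.of k)).inv.hom
  have hunit : IsUnit ((ℓ ^ e : ℕ) : Γ(U, ⊤)) := by
    rw [← map_natCast φ]; exact (IsUnit.mk0 _ hnk).map φ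
  have hζ : Polynomial.aeval (φ z) (cyclotomic (ℓ ^ e) ℤ) = 0 := by
    have h := congrArg φ (show (cyclotomic (ℓ ^ e) k).eval z = 0 from hz)
    rw [← map_cyclotomic_int (ℓ ^ e) k, Polynomial.eval_map, map_zero, Polynomial.hom_eval₂] at h
    rw [aeval_def, RingHom.ext_int (algebraMap ℤ Γ(U, ⊤)) (φ.comp (Int.castRingHom k))]
    exact h
  let S : ShortComplex (EtCoh.Ab U) := PBC24.kummerSeq hn (φ z) hζ
  have hS := PBC24.kummerSeq_shortExact hn hunit (φ z) hζ
  haveI : QuasiCompact p := inferInstance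
  refine subsingleton_of_forall_eq 0 fun c => ?_
  have h0 : c.comp (Ext.mk₀ S.f) (add_zero 2) = 0 := by
    refine PBC24.eq_zero_of_pow_nsmul_curve p hd.le hℓ hk (le_refl 2) _ (e := e) ?_
    refine (Dix24.comp_mk₀_nsmul_id (ℓ ^ e) _).symm.trans ?_
    refine (Ext.comp_assoc_of_third_deg_zero _ _ _ _).trans ?_
    refine (congrArg (fun w => Ext.comp c w (add_zero 2))
      ((Ext.mk₀_comp_mk₀ S.f S.g).trans ((congrArg Ext.mk₀ S.zero).trans (Ext.mk₀_zero _ _)))).trans ?_
    exact Ext.comp_zero _ _ _ _ _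
  obtain ⟨y, hy⟩ := Ext.covariant_sequence_exact₁ _ hS c h0 (n₀ := 1) rfl
  obtain ⟨α⟩ := EtPic3.nonempty_addEquiv_H1 U
  let β := (PicH1_21.picEquiv (Y := U) PicH1_21.good_id).trans α.symm
  obtain ⟨b, hb⟩ := exists_pow_eq_pic_affine p hN hd hn (Additive.toMul (β.symm y))
  have hy' : y = (β (Additive.ofMul b)).comp (Ext.mk₀ S.g) (add_zero 1) := by
    refine Eq.trans ?_ (Dix24.comp_mk₀_nsmul_id (ℓ ^ e) _).symm
    exact ((β.apply_symm_apply y).symm.trans (congrArg β (show β.symm y = (ℓ ^ e) • Additive.ofMul b by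
      rw [← ofMul_pow, hb, ofMul_toMul]))).trans (map_nsmul β _ _)
  rw [← hy, hy']
  refine (Ext.comp_assoc_of_second_deg_zero _ _ _ _).trans ?_
  erw [hS.comp_extClass]
  exact Ext.comp_zero _ _ _ _ _

end Groth.Agent.CdField3
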