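import Groth.Agent.Lib.CdField3.Compose

/-!
# Vanishing of higher direct images along composites
-/

set_option autoImplicit false
set_option linter.style.haveILetI false
set_option linter.unusedSectionVars false
set_option backward.isDefEq.respectTransparency false
set_option backward.isDefEq.respectTransparency.types false
set_option maxHeartbeats 1000000

universe u

open CategoryTheory CategoryTheory.Limits AlgebraicGeometry Opposite
open Groth.Agent.EtStalk

namespace Groth.Agent.CdField3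

variable {X Y Z : Scheme.{u}} (f : X ⟶ Y) (g : Y ⟶ Z) [PreservesFiniteLimits (EtCoh.pull f)]

theorem epi_of_exact_isZero {S : ShortComplex (EtCoh.Ab Z)} (hS : S.Exact) (h : IsZero S.X₃) : Epi S.f :=
  hS.epi_f (h.eq_of_tgt _ _)

/-- If every `R^p g_* R^i f_* G` with `p + i = q` vanishes, then so does `R^q (f ≫ g)_* G`. -/
theorem isZero_Rpush_compose : ∀ (q : ℕ) (G : EtCoh.Ab X),
    (∀ i p, p + i = q → IsZero ((EtCoh.Rpush g p).obj ((EtCoh.Rpush f i).obj G))) →
    IsZero ((EtCoh.Rpush (f ≫ g) q).obj G) := by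
  haveI : (EtCoh.push f).IsRightAdjoint := (EtCoh.pullPushAdj f).isRightAdjoint
  haveI : (EtCoh.push g).IsRightAdjoint := (EtCoh.pullPushAdj g).isRightAdjoint
  haveI : (EtCoh.push f).Additive := (EtCoh.pullPushAdj f).right_adjoint_additive
  haveI : (EtCoh.push g).Additive := (EtCoh.pullPushAdj g).right_adjoint_additive
  haveI : (EtCoh.push (f ≫ g)).Additive := (EtCoh.pullPushAdj (f ≫ g)).right_adjoint_additive
  haveI : PreservesLimitsOfSize.{0, 0} (EtCoh.push f) := (EtCoh.pullPushAdj f).rightAdjoint_preservesLimits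
  haveI : PreservesFiniteLimits (EtCoh.push f) := PreservesLimitsOfSize.preservesFiniteLimits _
  haveI : PreservesLimitsOfSize.{0, 0} (EtCoh.push g) := (EtCoh.pullPushAdj g).rightAdjoint_preservesLimits
  haveI : PreservesFiniteLimits (EtCoh.push g) := PreservesLimitsOfSize.preservesFiniteLimits _
  haveI : PreservesLimitsOfSize.{0, 0} (EtCoh.push (f ≫ g)) := (EtCoh.pullPushAdj (f ≫ g)).rightAdjoint_preservesLimits
  haveI : PreservesFiniteLimits (EtCoh.push (f ≫ g)) := PreservesLimitsOfSize.preservesFiniteLimits _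
  let e0 := (EtCoh.push f).rightDerivedZeroIsoSelf
  let g0 := (EtCoh.push g).rightDerivedZeroIsoSelf
  let h0 := (EtCoh.push (f ≫ g)).rightDerivedZeroIsoSelf
  intro q
  induction q with
  | zero =>
    intro G hR
    refine IsZero.of_iso ?_ (h0.app G ≪≫ ((EtCoh.pushComp g f).app G).symm ≪≫
      (g0.app _).symm ≪≫ (EtCoh.Rpush g 0).mapIso (e0.app G).symm)
    exact hR 0 0 rfl
  | succ q ih =>
    intro G hR
    let S := ShortComplex.mk (Injective.ι G) (cokernel.π (Injective.ι G)) (cokernel.condition _)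
    have hS : S.ShortExact := { exact := ShortComplex.exact_cokernel (Injective.ι G) }
    haveI : Injective S.X₂ := inferInstanceAs (Injective (Injective.under G))
    haveI := hS.mono_f
    let a := (EtCoh.push f).map S.f
    haveI : Mono a := inferInstance
    let T := ShortComplex.mk a (cokernel.π a) (cokernel.condition _)
    have hT : T.ShortExact := { exact := ShortComplex.exact_cokernel a }
    haveI : Injective T.X₂ := injective_push f S.X₂
    let κ : T.X₃ ⟶ (EtCoh.push f).obj S.X₃ := cokernel.desc a ((EtCoh.push f).map S.g)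
      (by rw [← Functor.map_comp, S.zero, Functor.map_zero])
    have hκ : T.g ≫ κ = (EtCoh.push f).map S.g := cokernel.π_desc _ _ _
    haveI : Mono κ := (hS.exact.map_of_mono_of_preservesKernel (EtCoh.push f) hS.mono_f inferInstance).mono_cokernelDesc
    obtain ⟨RS⟩ := RDerLES.exists_sesRes hS
    obtain ⟨RT⟩ := RDerLES.exists_sesRes hT
    have hI : ∀ m, IsZero ((EtCoh.Rpush f (m + 1)).obj S.X₂) := fun m =>
      (EtCoh.push f).isZero_rightDerived_obj_injective_succ m S.X₂
    obtain ⟨-, ⟨w, hw⟩, w', hw'⟩ := RDerLES.exact_sequences (EtCoh.push f) RS 0 1 rfl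
    haveI : Epi (RS.delta (EtCoh.push f) 0 1 rfl) := hw'.epi_f ((hI 0).eq_of_tgt _ _)
    let d : (EtCoh.push f).obj S.X₃ ⟶ (EtCoh.Rpush f 1).obj S.X₁ :=
      e0.inv.app S.X₃ ≫ RS.delta (EtCoh.push f) 0 1 rfl
    haveI : Epi d := epi_comp _ _
    have hgd : (EtCoh.push f).map S.g ≫ d = 0 := by
      show (EtCoh.push f).map S.g ≫ e0.inv.app S.X₃ ≫ _ = 0
      rw [← Category.assoc, e0.inv.naturality S.g, Category.assoc]
      erw [w]
      exact comp_zero
    have hgd' : (ShortComplex.mk _ _ hgd).Exact := by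
      refine ShortComplex.exact_of_iso (S₁ := ShortComplex.mk _ _ w)
        (ShortComplex.isoMk (e0.app S.X₂) (e0.app S.X₃) (Iso.refl _) ?_ ?_) hw
      · exact (e0.hom.naturality S.g).symm
      · show e0.hom.app S.X₃ ≫ e0.inv.app S.X₃ ≫ _ = _ ≫ 𝟙 _
        rw [Iso.hom_inv_id_app_assoc, Category.comp_id]
    have hκd : κ ≫ d = 0 := by
      rw [← cancel_epi (cokernel.π a), cokernel.π_desc_assoc, comp_zero]
      exact hgd
    let Q := ShortComplex.mk κ d hκd
    let φ : ShortComplex.mk _ _ hgd ⟶ Q :=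
      { τ₁ := T.g, τ₂ := 𝟙 _, τ₃ := 𝟙 _
        comm₁₂ := by
          show T.g ≫ κ = (EtCoh.push f).map S.g ≫ 𝟙 _
          rw [Category.comp_id]
          exact cokernel.π_desc _ _ _
        comm₂₃ := by simp [Q] }
    haveI : Epi φ.τ₁ := inferInstanceAs (Epi (cokernel.π a))
    haveI : IsIso φ.τ₂ := inferInstanceAs (IsIso (𝟙 _))
    haveI : Mono φ.τ₃ := inferInstanceAs (Mono (𝟙 _))
    have hQ : Q.ShortExact :=
      { exact := (ShortComplex.exact_iff_of_epi_of_isIso_of_mono φ).1 hgd' }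
    obtain ⟨RQ⟩ := RDerLES.exists_sesRes hQ
    have hfG : ∀ p, p = q + 1 → IsZero ((EtCoh.Rpush g p).obj T.X₁) := fun p hp =>
      (hR 0 p (by omega)).of_iso ((EtCoh.Rpush g p).mapIso (e0.app G).symm)
    have hR1 : IsZero ((EtCoh.Rpush g q).obj Q.X₃) := hR 1 q rfl
    -- it is enough that the map to the connecting morphism is onto
    obtain ⟨-, ⟨v, hv⟩, v', hv'⟩ := RDerLES.exact_sequences (EtCoh.push (f ≫ g)) RS q (q + 1) rfl
    haveI : Epi (RS.delta (EtCoh.push (f ≫ g)) q (q + 1) rfl) :=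
      hv'.epi_f (((EtCoh.push (f ≫ g)).isZero_rightDerived_obj_injective_succ q S.X₂).eq_of_tgt _ _)
    suffices hδ : RS.delta (EtCoh.push (f ≫ g)) q (q + 1) rfl = 0 from IsZero.of_epi_eq_zero _ hδ
    rcases q with _ | q
    · obtain ⟨-, ⟨t, ht⟩, -⟩ := RDerLES.exact_sequences (EtCoh.push g) RT 0 1 rfl
      haveI : Epi ((EtCoh.Rpush g 0).map T.g) := epi_of_exact_isZero ht (hfG 1 rfl)
      obtain ⟨hm, -⟩ := RDerLES.exact_sequences (EtCoh.push g) RQ 0 1 rfl
      haveI : Epi ((EtCoh.Rpush g 0).map κ) := epi_of_exact_isZero hm hR1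
      haveI : Epi ((EtCoh.Rpush g 0).map ((EtCoh.push f).map S.g)) := by
        rw [← hκ, Functor.map_comp]
        exact epi_comp _ _
      let ψ : (EtCoh.Rpush (f ≫ g) 0) ≅ EtCoh.push f ⋙ EtCoh.Rpush g 0 :=
        h0 ≪≫ (EtCoh.pushComp g f).symm ≪≫ Functor.isoWhiskerLeft (EtCoh.push f) g0.symm
      haveI : Epi ((EtCoh.Rpush (f ≫ g) 0).map S.g) := by
        haveI : Epi ((EtCoh.push f ⋙ EtCoh.Rpush g 0).map S.g) := by
          show Epi ((EtCoh.Rpush g 0).map ((EtCoh.push f).map S.g))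
          infer_instance
        have hn := ψ.hom.naturality S.g
        have : (EtCoh.Rpush (f ≫ g) 0).map S.g =
            ψ.hom.app S.X₂ ≫ (EtCoh.push f ⋙ EtCoh.Rpush g 0).map S.g ≫ ψ.inv.app S.X₃ := by
          rw [← Category.assoc, ← hn, Category.assoc, Iso.hom_inv_id_app, Category.comp_id]
        rw [this]
        exact epi_comp _ _
      rw [← cancel_epi ((EtCoh.Rpush (f ≫ g) 0).map S.g), comp_zero]
      exact v
    · refine (ih S.X₃ fun i p hpi => ?_).eq_of_src _ _
      rcases i with _ | i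
      · obtain rfl : p = q + 1 := by omega
        obtain ⟨-, ⟨t, ht⟩, -⟩ := RDerLES.exact_sequences (EtCoh.push g) RT (q + 1) (q + 1 + 1) rfl
        have hC : IsZero ((EtCoh.Rpush g (q + 1)).obj T.X₃) :=
          ht.isZero_of_both_zeros (((EtCoh.push g).isZero_rightDerived_obj_injective_succ q T.X₂).eq_of_src _ _)
            ((hfG _ rfl).eq_of_tgt _ _)
        obtain ⟨hm, -⟩ := RDerLES.exact_sequences (EtCoh.push g) RQ (q + 1) (q + 1 + 1) rfl
        exact (hm.isZero_of_both_zeros (hC.eq_of_src _ _) (hR1.eq_of_tgt _ _)).of_iso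
          ((EtCoh.Rpush g (q + 1)).mapIso (e0.app S.X₃))
      · obtain ⟨-, ⟨x, hx⟩, x', hx'⟩ := RDerLES.exact_sequences (EtCoh.push f) RS (i + 1) (i + 1 + 1) rfl
        haveI : Epi (RS.delta (EtCoh.push f) (i + 1) (i + 1 + 1) rfl) := hx'.epi_f ((hI (i + 1)).eq_of_tgt _ _)
        haveI : Mono (RS.delta (EtCoh.push f) (i + 1) (i + 1 + 1) rfl) := hx.mono_g ((hI i).eq_of_src _ _)
        haveI : IsIso (RS.delta (EtCoh.push f) (i + 1) (i + 1 + 1) rfl) := isIso_of_mono_of_epi _
        exact (hR (i + 1 + 1) p (by omega)).of_iso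
          ((EtCoh.Rpush g p).mapIso (asIso (RS.delta (EtCoh.push f) (i + 1) (i + 1 + 1) rfl)))

end Groth.Agent.CdField3
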