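import Groth.Agent.Lib.CdField3.AffineCurve
import Groth.Agent.Lib.RepRing23.IntFin
import Groth.Agent.Lib.NormSep24.ConstUnit
import Groth.Agent.Lib.LocAcyc24.Transport
import Groth.Agent.Lib.FieldBr3.CurveSupp
import Groth.Agent.Lib.DimFn3.Point

/-!
# Constant sheaves on affine curves over algebraically closed fields
-/

set_option autoImplicit false
set_option linter.style.haveILetI false
set_option linter.unusedSectionVars false
set_option maxHeartbeats 2000000
set_option synthInstance.maxHeartbeats 200000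
set_option backward.isDefEq.respectTransparency false
set_option backward.isDefEq.respectTransparency.types false

universe u

open CategoryTheory CategoryTheory.Limits AlgebraicGeometry TopologicalSpace CategoryTheory.Abelian

noncomputable section

namespace Groth.Agent.CdField3

open Groth.Agent

theorem nonempty_push_const_congr {X S S' : Scheme.{u}} (σ : S' ⟶ S) [IsIso σ] (a : S ⟶ X) (a' : S' ⟶ X)
    (h : σ ≫ a = a') (M : Type) [AddCommGroup M] :
    Nonempty ((EtCoh.push a).obj (EtCoh.const S M) ≅ (EtCoh.push a').obj (EtCoh.const S' M)) := by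
  haveI : IsIso ((EtCoh.pullPushAdj σ).unit.app (EtCoh.const S M)) :=
    EtStalk.isIso_unit_integral σ _ fun y _ => ⟨inv σ y, by rw [← Scheme.Hom.comp_apply, IsIso.inv_hom_id]; rfl⟩
  exact ⟨(EtCoh.push a).mapIso (asIso ((EtCoh.pullPushAdj σ).unit.app (EtCoh.const S M)) ≪≫
      (EtCoh.push σ).mapIso (EtCore.pullConst σ M)) ≪≫
    (EtCoh.pushComp a σ).app _ ≪≫ (EtCoh.pushCongr h).app _⟩

theorem subsingleton_H_of_iso {X : Scheme.{u}} {F G : EtCoh.Ab X} (e : F ≅ G) (n : ℕ)
    (h : Subsingleton (EtCoh.H X F n)) : Subsingleton (EtCoh.H X G n) :=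
  subsingleton_of_forall_eq 0 fun x => FieldH25.eq_zero_of_comp_iso x e.symm (Subsingleton.elim (α := EtCoh.H X F n) _ _)

variable {k : Type u} [Field k] [IsAlgClosed k] {A : Type u} [CommRing A] [Algebra k A] [Algebra.FiniteType k A]
  {ℓ : ℕ} (hℓ : ℓ.Prime) (hk : (ℓ : k) ≠ 0)

theorem dim_Spec_le (hd : ringKrullDim A ≤ 1) : topologicalKrullDim ↥(Spec (CommRingCat.of A)) ≤ 1 :=
  (PrimeSpectrum.topologicalKrullDim_eq_ringKrullDim A).trans_le hd

include hℓ hk in
/-- Direct images of constant sheaves from maximal points of affine curves have no second cohomology. -/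
theorem subsingleton_H2_push_point (hd : ringKrullDim A ≤ 1) (η : Spec (CommRingCat.of A))
    (hη : ¬ η.asIdeal.IsMaximal) (e : ℕ) :
    Subsingleton (EtCoh.H (Spec (CommRingCat.of A))
      ((EtCoh.push ((Spec (CommRingCat.of A)).fromSpecResidueField η)).obj (EtCoh.const _ (ZMod (ℓ ^ e)))) 2) := by
  let P : Ideal A := η.asIdeal
  haveI : P.IsPrime := η.isPrime
  let K := P.ResidueField
  haveI : Algebra.EssFiniteType k K :=
    haveI : Algebra.EssFiniteType (A ⧸ P) K := Algebra.EssFiniteType.of_isLocalization K (nonZeroDivisors (A ⧸ P))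
    Algebra.EssFiniteType.comp k (A ⧸ P) K
  haveI : FaithfulSMul (A ⧸ P) K := (faithfulSMul_iff_algebraMap_injective _ _).2 (IsFractionRing.injective (A ⧸ P) K)
  let B := integralClosure A K
  haveI : Module.Finite A B := by
    haveI : Module.Finite (A ⧸ P) (integralClosure (A ⧸ P) K) := RepRing23.finite_integralClosure_field k (A ⧸ P) K
    haveI : Module.Finite A (integralClosure (A ⧸ P) K) := Module.Finite.trans (A ⧸ P) _
    haveI : IsNoetherianRing A := Algebra.FiniteType.isNoetherianRing k A
    haveI : IsNoetherian A (integralClosure (A ⧸ P) K) := isNoetherian_of_isNoetherianRing_of_finite A _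
    let g : B →ₗ[A] integralClosure (A ⧸ P) K :=
      { toFun := fun y => ⟨(y : K), y.2.tower_top⟩
        map_add' := fun _ _ => rfl
        map_smul' := fun a y => Subtype.ext rfl }
    exact Module.Finite.of_injective g fun a b h => Subtype.ext (congrArg (fun z : integralClosure (A ⧸ P) K => (z : K)) h :)
  haveI : IsFractionRing B K := by
    refine IsFractionRing.of_field B K fun z => ?_
    obtain ⟨a, b, -, rfl⟩ := IsFractionRing.div_surjective (A := A ⧸ P) z
    obtain ⟨a, rfl⟩ := Ideal.Quotient.mk_surjective a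
    obtain ⟨b, rfl⟩ := Ideal.Quotient.mk_surjective b
    exact ⟨algebraMap A B a, algebraMap A B b, rfl⟩
  haveI : IsIntegrallyClosed B := (isIntegrallyClosed_iff K).2 fun {x} hx =>
    ⟨⟨x, isIntegral_trans (R := A) x hx⟩, rfl⟩
  haveI : Algebra.FiniteType A B := inferInstance
  haveI : Algebra.FiniteType k B := Algebra.FiniteType.trans (S := A) inferInstance inferInstance
  let U := Spec (CommRingCat.of B)
  let p : U ⟶ Spec (CommRingCat.of k) := Spec.map (CommRingCat.ofHom (algebraMap k B))
  haveI : LocallyOfFiniteType p := (HasRingHomProperty.Spec_iff (P := @LocallyOfFiniteType)).2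
    (RingHom.finiteType_algebraMap.2 inferInstance)
  let π : U ⟶ Spec (CommRingCat.of A) := Spec.map (CommRingCat.ofHom (algebraMap A B))
  haveI : IsFinite π := (IsFinite.SpecMap_iff _).2 (RingHom.finite_algebraMap.2 inferInstance)
  haveI : IsIntegral U := inferInstance
  have hN : Pi1.IsNormalScheme U := by
    intro x
    let M : PrimeSpectrum B := x
    letI : Algebra B (U.presheaf.stalk x) := StructureSheaf.stalkAlgebra B M
    haveI : IsLocalization.AtPrime (U.presheaf.stalk x) M.asIdeal := StructureSheaf.IsLocalization.to_stalk B M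
    haveI : IsDomain (U.presheaf.stalk x) :=
      IsLocalization.isDomain_of_le_nonZeroDivisors (R := B) (S := U.presheaf.stalk x)
        M.asIdeal.primeCompl_le_nonZeroDivisors
    exact ⟨inferInstance,
      isIntegrallyClosed_of_isLocalization (R := B) _ M.asIdeal.primeCompl M.asIdeal.primeCompl_le_nonZeroDivisors⟩
  have hB1 : topologicalKrullDim U ≤ 1 := (AlgSpDecent.topologicalKrullDim_le_of_lqf π).trans (dim_Spec_le hd)
  have hBd : topologicalKrullDim U = 1 := by
    refine le_antisymm hB1 ?_
    rw [show topologicalKrullDim U = ringKrullDim B from PrimeSpectrum.topologicalKrullDim_eq_ringKrullDim B]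
    by_contra hlt
    rw [not_le] at hlt
    have h0 : ringKrullDim B ≤ 0 := by
      have hbot : (0 : WithBot ℕ∞) ≤ ringKrullDim B := ringKrullDim_nonneg_of_nontrivial
      revert hlt hbot
      generalize ringKrullDim B = t
      intro hlt hbot
      induction t with
      | bot => exact bot_le
      | coe t =>
        have : t < 1 := WithBot.coe_lt_coe.1 hlt
        exact WithBot.coe_le_coe.2 (ENat.lt_one_iff_eq_zero.1 this).le
    haveI : Ring.KrullDimLE 0 B := Ring.krullDimLE_iff.2 (by simpa using h0)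
    have hf : IsField B := Ring.KrullDimLE.isField_of_isDomain
    apply hη
    letI : Algebra (A ⧸ P) B := ((algebraMap (A ⧸ P) K).codRestrict B.toSubring fun x => by
      obtain ⟨a, rfl⟩ := Ideal.Quotient.mk_surjective x
      exact (algebraMap A B a).2).toAlgebra
    haveI : IsScalarTower (A ⧸ P) B K := IsScalarTower.of_algebraMap_eq fun _ => rfl
    haveI : Algebra.IsIntegral (A ⧸ P) B := ⟨fun b =>
      (isIntegral_algHom_iff (IsScalarTower.toAlgHom (A ⧸ P) B K) Subtype.val_injective).1 b.2.tower_top⟩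
    exact Ideal.Quotient.maximal_of_isField P
      (isField_of_isIntegral_of_isField (R := A ⧸ P) (S := B) (fun a b h => IsFractionRing.injective (A ⧸ P) K
        (congrArg Subtype.val h :)) hf)
  haveI := subsingleton_H2_const_affine p hN hBd hℓ hk e
  let F := U.presheaf.stalk (genericPoint U)
  let t : Spec F ⟶ U := U.fromSpecStalk (genericPoint U)
  haveI := NormSep24.isIso_unit_const_generic (Y := U) (fun y => (hN y).2) (ZMod (ℓ ^ e))
  let et : EtCoh.const U (ZMod (ℓ ^ e)) ≅ (EtCoh.push t).obj (EtCoh.const _ (ZMod (ℓ ^ e))) :=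
    asIso ((EtCoh.pullPushAdj t).unit.app (EtCoh.const U (ZMod (ℓ ^ e)))) ≪≫
      (EtCoh.push t).mapIso (EtCore.pullConst t (ZMod (ℓ ^ e)))
  letI : Algebra B F := StructureSheaf.stalkAlgebra B (genericPoint U : PrimeSpectrum B)
  haveI : IsDomain (CommRingCat.of B) := inferInstanceAs (IsDomain B)
  haveI : IsFractionRing B F := functionField_isFractionRing_of_affine (CommRingCat.of B)
  let ψ : K ≃ₐ[B] F := (IsFractionRing.algEquivOfAlgEquiv (AlgEquiv.refl (A₁ := B) (R := B)))
  have ht : t = Spec.map (CommRingCat.ofHom (algebraMap B F)) := by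
    show U.fromSpecStalk (genericPoint U) = _
    rw [Spec.fromSpecStalk_eq]
    rfl
  let σ : Spec ((Spec (CommRingCat.of A)).residueField η) ⟶ Spec F :=
    Spec.map ((RingEquiv.toCommRingCatIso ψ.toRingEquiv.symm).hom ≫ (Scheme.Spec.residueFieldIso (CommRingCat.of A) η).inv)
  have hσ : σ ≫ t ≫ π = (Spec (CommRingCat.of A)).fromSpecResidueField η := by
    rw [← Scheme.Spec.map_residueFieldIso_inv_eq_fromSpecResidueField, ht]
    simp only [σ, π, ← Spec.map_comp]
    congr 1
    rw [← Category.assoc]
    congr 1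
    ext a
    exact (ψ.symm.commutes (algebraMap A B a)).trans rfl
  haveI : IsIso σ := inferInstance
  obtain ⟨i⟩ := nonempty_push_const_congr σ (t ≫ π) _ hσ (ZMod (ℓ ^ e))
  refine subsingleton_H_of_iso (((EtCoh.push π).mapIso et ≪≫ (EtCoh.pushComp π t).app _) ≪≫ i) 2 ?_
  exact (FieldH25.bijective_HofPush_integral π (EtCoh.const U (ZMod (ℓ ^ e))) 2).1.subsingleton

include hℓ hk in
/-- Constant sheaves on affine curves have no second cohomology. -/
theorem subsingleton_H2_const_Spec (hd : ringKrullDim A ≤ 1) (e : ℕ) :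
    Subsingleton (EtCoh.H (Spec (CommRingCat.of A)) (EtCoh.const _ (ZMod (ℓ ^ e))) 2) := by
  classical
  let X := Spec (CommRingCat.of A)
  let f : X ⟶ Spec (CommRingCat.of k) := Spec.map (CommRingCat.ofHom (algebraMap k A))
  haveI : LocallyOfFiniteType f := (HasRingHomProperty.Spec_iff (P := @LocallyOfFiniteType)).2
    (RingHom.finiteType_algebraMap.2 inferInstance)
  haveI : QuasiCompact f := inferInstance
  haveI : IsNoetherianRing A := Algebra.FiniteType.isNoetherianRing k A
  let T : Set X := {x | ¬ IsClosed ({x} : Set X)}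
  have hT : T.Finite := by
    refine ((minimalPrimes.finite_of_isNoetherianRing A).preimage
      (f := fun x : PrimeSpectrum A => x.asIdeal) (fun a _ b _ h => PrimeSpectrum.ext h)).subset fun x hx => ?_
    refine ⟨⟨x.isPrime, bot_le⟩, fun q hq hle => ?_⟩
    have := EtPic3.isMaxPt_of_dim_le_one (dim_Spec_le hd) hx ⟨q, hq.1⟩
      ((PrimeSpectrum.le_iff_specializes _ _).1 hle)
    exact (congrArg PrimeSpectrum.asIdeal this).ge
  haveI : Fintype T := hT.fintype
  let F := EtCoh.const X (ZMod (ℓ ^ e))
  let en : Fin (Fintype.card T) ≃ T := (Fintype.equivFin T).symm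
  let J : Fin (Fintype.card T) → EtCoh.Ab X := fun i =>
    (EtCoh.push (X.fromSpecResidueField (en i).1)).obj ((EtCoh.pull (X.fromSpecResidueField (en i).1)).obj F)
  let φ : F ⟶ ⨁ J := biproduct.lift fun i => (EtCoh.pullPushAdj (X.fromSpecResidueField (en i).1)).unit.app F
  have hbij : ∀ (Ω : Type u) [Field Ω] [IsSepClosed Ω] (ξ : Spec (CommRingCat.of Ω) ⟶ X),
      ¬ IsClosed ({ξ (default : Spec (CommRingCat.of Ω))} : Set X) →
      Function.Bijective ((EtCoh.stalk ξ).map φ) := by
    intro Ω _ _ ξ hξ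
    obtain ⟨η, hηe⟩ := en.surjective ⟨_, hξ⟩
    have hηx : (en η).1 = ξ (default : Spec (CommRingCat.of Ω)) := congrArg Subtype.val hηe
    haveI : PreservesBinaryBiproducts (EtCoh.stalk ξ) := preservesBinaryBiproducts_of_preservesBinaryProducts _
    haveI : (EtCoh.stalk ξ).Additive := Functor.additive_of_preservesBinaryBiproducts _
    have hinj : Function.Injective ((EtCoh.stalk ξ).map (biproduct.π J η)) := by
      refine (injective_iff_map_eq_zero _).2 fun a ha => ?_
      have h1 := congrArg (fun g => (EtCoh.stalk ξ).map g) (biproduct.total (f := J))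
      simp only [Functor.map_sum, Functor.map_comp, CategoryTheory.Functor.map_id] at h1
      let ev : ((EtCoh.stalk ξ).obj (⨁ J) ⟶ (EtCoh.stalk ξ).obj (⨁ J)) →+ (EtCoh.stalk ξ).obj (⨁ J) :=
        AddMonoidHom.mk' (fun g => g a) fun _ _ => rfl
      have h2 := congrArg ev h1
      rw [map_sum] at h2
      refine (h2.symm.trans ?_ : ev (𝟙 _) = 0)
      refine Finset.sum_eq_zero fun j _ => ?_
      show (EtCoh.stalk ξ).map (biproduct.ι J j) ((EtCoh.stalk ξ).map (biproduct.π J j) a) = 0
      by_cases hj : j = η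
      · subst hj; rw [ha, map_zero]
      · haveI := DimFn3.subsingleton_stalk_push (en j).1 ((EtCoh.pull (X.fromSpecResidueField (en j).1)).obj F) ξ
          (fun hs => hj (en.injective (Subtype.ext
            ((EtPic3.isMaxPt_of_dim_le_one (dim_Spec_le hd) hξ (en j).1 hs).trans hηx.symm))))
        rw [Subsingleton.elim (α := (EtCoh.stalk ξ).obj (J j)) ((EtCoh.stalk ξ).map (biproduct.π J j) a) 0, map_zero]
    have hb := DimFn3.bijective_stalk_unit (en η).1 F ξ hηx.symm
    have hc : (EtCoh.stalk ξ).map φ ≫ (EtCoh.stalk ξ).map (biproduct.π J η) =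
        (EtCoh.stalk ξ).map ((EtCoh.pullPushAdj (X.fromSpecResidueField (en η).1)).unit.app F) := by
      rw [← Functor.map_comp, biproduct.lift_π]
    have hc' : ∀ a, (EtCoh.stalk ξ).map (biproduct.π J η) ((EtCoh.stalk ξ).map φ a) =
        (EtCoh.stalk ξ).map ((EtCoh.pullPushAdj (X.fromSpecResidueField (en η).1)).unit.app F) a :=
      fun a => ConcreteCategory.congr_hom hc a
    refine ⟨fun a b hab => hb.1 (by rw [← hc', ← hc', hab]), fun b => ?_⟩
    obtain ⟨a, ha⟩ := hb.2 ((EtCoh.stalk ξ).map (biproduct.π J η) b)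
    exact ⟨a, hinj ((hc' a).trans ha)⟩
  have hK : EtPic3.SuppClosed (kernel φ) := fun Ω _ _ ξ hξ => subsingleton_of_forall_eq 0 fun a => by
    refine (EtStalk.mono_iff_stalk (kernel.ι φ)).1 inferInstance Ω ξ ((hbij Ω ξ hξ).1 ?_)
    rw [map_zero, map_zero, ← ConcreteCategory.comp_apply, ← Functor.map_comp, kernel.condition,
      Functor.map_zero]
    rfl
  have hC : EtPic3.SuppClosed (cokernel φ) := fun Ω _ _ ξ hξ => subsingleton_of_forall_eq 0 fun a => by
    obtain ⟨b, rfl⟩ := (EtStalk.epi_iff_stalk (cokernel.π φ)).1 inferInstance Ω ξ a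
    obtain ⟨c, rfl⟩ := (hbij Ω ξ hξ).2 b
    rw [← ConcreteCategory.comp_apply, ← Functor.map_comp, cokernel.condition, Functor.map_zero]
    rfl
  haveI := FieldBr3.isIso_HF_map f φ hK hC 2 (by omega) (Or.inl le_rfl)
  have hJ : Subsingleton (EtCoh.H X (⨁ J) 2) := subsingleton_of_forall_eq 0 fun x => by
    refine (Ext.comp_mk₀_id x).symm.trans ?_
    erw [← biproduct.total (f := J)]
    rw [Ext.mk₀_sum, Ext.comp_sum]
    refine Finset.sum_eq_zero fun j _ => ?_
    rw [← Ext.mk₀_comp_mk₀, ← Ext.comp_assoc_of_third_deg_zero]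
    haveI : Subsingleton (EtCoh.H X (J j) 2) := by
      refine subsingleton_H_of_iso ((EtCoh.push _).mapIso (EtCore.pullConst _ _).symm) 2 ?_
      exact subsingleton_H2_push_point hℓ hk hd (en j).1
        (fun hm => (en j).2 ((PrimeSpectrum.isClosed_singleton_iff_isMaximal _).2 hm)) e
    rw [Subsingleton.elim (α := EtCoh.H X (J j) 2) (x.comp (Ext.mk₀ (biproduct.π J j)) (add_zero 2)) 0,
      Ext.zero_comp]
  exact @Function.Injective.subsingleton _ _ _ (ConcreteCategory.bijective_of_isIso ((EtCoh.HF X 2).map φ)).1 hJ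

end Groth.Agent.CdField3
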