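import Groth.Agent.Lib.CdField3.HensSurf
import Groth.Agent.Lib.DimFn3.Codim
import Groth.Agent.S0620
import Mathlib.AlgebraicGeometry.Noetherian
import Mathlib.RingTheory.Localization.AtPrime.Basic

/-!
# Punctured normal surface singularities
-/

set_option autoImplicit false
set_option linter.style.haveILetI false
set_option maxHeartbeats 800000
set_option backward.isDefEq.respectTransparency false
set_option backward.isDefEq.respectTransparency.types false

universe u

open CategoryTheory CategoryTheory.Limits AlgebraicGeometry IsLocalRing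

namespace Groth.Agent.CdField3

/-- An open of non-closed points of the spectrum of a two-dimensional normal domain of residue
characteristic zero has cohomological dimension at most three, given the bounds at its points. -/
theorem cohDimLE_three_of_surf (A : Type u) [CommRing A] [IsDomain A] [IsNoetherianRing A]
    [IsIntegrallyClosed A] (hA : ringKrullDim A ≤ 2) (k : Type u) [Field k] [CharZero k] [Algebra k A]
    (K : Type u) [Field K] [Algebra A K] [IsFractionRing A K]
    (U : (Spec (CommRingCat.of A)).Opens)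
    (hU : ∀ x : ↥(Spec (CommRingCat.of A)), x ∈ U → ¬ IsClosed ({x} : Set ↥(Spec (CommRingCat.of A))))
    (hcdK : EtCoh.CohDimLE (Spec (CommRingCat.of K)) 2)
    (hcdv : ∀ x : ↥(↑U : Scheme.{u}), IsClosed ({x} : Set ↥(↑U : Scheme.{u})) →
      EtCoh.CohDimLE (Spec ((↑U : Scheme.{u}).residueField x)) 1) :
    EtCoh.CohDimLE (↑U : Scheme.{u}) 3 := by
  classical
  haveI : IsLocallyNoetherian (↑U : Scheme.{u}) := isLocallyNoetherian_of_isOpenImmersion U.ι
  haveI : CompactSpace ↥(↑U : Scheme.{u}) := isCompact_iff_compactSpace.1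
    (TopologicalSpace.NoetherianSpace.isCompact _)
  haveI : IsNoetherian (↑U : Scheme.{u}) := ⟨⟩
  -- points of `U` are primes of height at most one
  have hht : ∀ y : ↥(↑U : Scheme.{u}), (y.1 : PrimeSpectrum A).asIdeal.height ≤ 1 := by
    intro y
    have hnm : ¬ (y.1 : PrimeSpectrum A).asIdeal.IsMaximal := fun h => hU y.1 y.2
      ((PrimeSpectrum.isClosed_singleton_iff_isMaximal _).2 h)
    obtain ⟨M, hM, hle⟩ := Ideal.exists_le_maximal _ (y.1 : PrimeSpectrum A).isPrime.ne_top
    have hlt : (y.1 : PrimeSpectrum A).asIdeal < M := lt_of_le_of_ne hle fun h => hnm (h ▸ hM)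
    have h2 : M.height ≤ 2 := by
      have h3 := (Ideal.height_le_ringKrullDim_of_isPrime (I := M)).trans hA
      exact WithBot.coe_le_coe.1 h3
    have h4 := lt_of_lt_of_le (Ideal.height_strict_mono_of_isPrime hlt) h2
    exact (ENat.lt_add_one_iff ENat.one_ne_top).1 (lt_of_lt_of_le h4 (le_of_eq one_add_one_eq_two.symm))
  -- the local rings
  let eS : ∀ y : ↥(↑U : Scheme.{u}), (↑U : Scheme.{u}).presheaf.stalk y ≃+*
      Localization.AtPrime (y.1 : PrimeSpectrum A).asIdeal := fun y =>
    (U.stalkIso y ≪≫ Spec.stalkIso (CommRingCat.of A) y.1).commRingCatIsoToRingEquiv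
  have hdim : ∀ y : ↥(↑U : Scheme.{u}), ringKrullDim ((↑U : Scheme.{u}).presheaf.stalk y) =
      (y.1 : PrimeSpectrum A).asIdeal.height := fun y => by
    rw [ringKrullDim_eq_of_ringEquiv (eS y),
      IsLocalization.AtPrime.ringKrullDim_eq_height (y.1 : PrimeSpectrum A).asIdeal]
  refine cdL_univ_iff.1 fun F hF q hq => subsingleton_H_of_primary Set.univ q (fun ℓ hℓ _ G hG => ?_) F hF
  refine Groth.Agent.DimFn3.subsingleton_H_codim ℓ 3 (fun y c hc => ?_) ?_ (fun η G i => ?_) 0 G hG
    (fun y _ => by exact_mod_cast ringKrullDim_nonneg_of_nontrivial) q (by simpa using hq)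
  · -- the residue fields
    rw [hdim y] at hc
    have hc' : (y.1 : PrimeSpectrum A).asIdeal.height = (c : ℕ∞) := by exact_mod_cast hc
    have hc1 : c ≤ 1 := by
      have := hht y
      rw [hc'] at this
      exact_mod_cast this
    refine ⟨by omega, ?_⟩
    rcases Nat.le_one_iff_eq_zero_or_eq_one.1 hc1 with rfl | rfl
    · have hbot : (y.1 : PrimeSpectrum A).asIdeal = ⊥ :=
        Ideal.height_eq_zero_iff_eq_bot.1 (by simpa using hc')
      have hcompl : (y.1 : PrimeSpectrum A).asIdeal.primeCompl = nonZeroDivisors A := by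
        ext a
        simp [Ideal.mem_primeCompl_iff, hbot]
      haveI : IsFractionRing A (Localization.AtPrime (y.1 : PrimeSpectrum A).asIdeal) :=
        (hcompl ▸ (inferInstance : IsLocalization (y.1 : PrimeSpectrum A).asIdeal.primeCompl
          (Localization.AtPrime (y.1 : PrimeSpectrum A).asIdeal)) :
          IsLocalization (nonZeroDivisors A) (Localization.AtPrime (y.1 : PrimeSpectrum A).asIdeal))
      let eK : (↑U : Scheme.{u}).presheaf.stalk y ≃+* K :=
        (eS y).trans (IsLocalization.algEquiv (nonZeroDivisors A)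
          (Localization.AtPrime (y.1 : PrimeSpectrum A).asIdeal) K).toRingEquiv
      have hfield : IsField ((↑U : Scheme.{u}).presheaf.stalk y) := eK.toMulEquiv.isField (Field.toIsField K)
      have hbij : Function.Bijective (IsLocalRing.residue ((↑U : Scheme.{u}).presheaf.stalk y)) :=
        ⟨RingHom.injective_iff_ker_eq_bot _ |>.2
          (IsLocalRing.ker_residue.trans (IsLocalRing.isField_iff_maximalIdeal_eq.1 hfield)),
          IsLocalRing.residue_surjective⟩
      exact cohDimLEAt_of_ringEquiv (A := K) (B := (↑U : Scheme.{u}).residueField y)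
        (eK.symm.trans (RingEquiv.ofBijective _ hbij))
        (cohDimLEAt_of_le (cohDimLEAt_of_cohDimLE hℓ.pos hcdK) (by omega))
    · refine cohDimLEAt_of_cohDimLE hℓ.pos (hcdv y ?_)
      rw [← closure_eq_iff_isClosed]
      refine Set.eq_singleton_iff_unique_mem.2 ⟨subset_closure rfl, fun z hz => ?_⟩
      have hle : (y.1 : PrimeSpectrum A).asIdeal ≤ (z.1 : PrimeSpectrum A).asIdeal :=
        (PrimeSpectrum.le_iff_specializes _ _).2
          ((specializes_iff_mem_closure.2 hz).map continuous_subtype_val)
      rcases hle.lt_or_eq with hlt | heq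
      · have h4 := lt_of_lt_of_le (Ideal.height_strict_mono_of_isPrime hlt) (hht z)
        rw [hc'] at h4
        exact absurd h4 (by norm_num)
      · exact Subtype.ext (PrimeSpectrum.ext heq.symm)
  · intro x y hxy R _ _ _ _ _ P hP e he
    haveI : IsDomain ((↑U : Scheme.{u}).presheaf.stalk y) := (eS y).toMulEquiv.isDomain _
    haveI : IsIntegrallyClosed (Localization.AtPrime (y.1 : PrimeSpectrum A).asIdeal) :=
      isIntegrallyClosed_of_isLocalization _ _ (y.1 : PrimeSpectrum A).asIdeal.primeCompl_le_nonZeroDivisors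
    haveI : IsIntegrallyClosed ((↑U : Scheme.{u}).presheaf.stalk y) := IsIntegrallyClosed.of_equiv (eS y).symm
    have hdle : ringKrullDim ((↑U : Scheme.{u}).presheaf.stalk y) ≤ 1 := by
      rw [hdim y]
      exact_mod_cast hht y
    refine cohDimLEAt_strict_le_one _ hdle ℓ hℓ ?_ R _ P hP e he
    have h1 := (IsUnit.mk0 (ℓ : k) (Nat.cast_ne_zero.2 hℓ.ne_zero)).map
      ((eS y).symm.toRingHom.comp
        ((algebraMap A (Localization.AtPrime (y.1 : PrimeSpectrum A).asIdeal)).comp (algebraMap k A)))
    rwa [map_natCast] at h1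
  · intro t R
    exact Groth.Agent.S0620.result ((↑U : Scheme.{u}).fromSpecResidueField η) G t R i

end Groth.Agent.CdField3
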