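import Groth.Agent.Lib.CdField3.LefBase

/-!
# Affine Lefschetz: stalks of higher direct images
-/

set_option autoImplicit false
set_option linter.style.haveILetI false
set_option linter.unusedSectionVars false
set_option maxHeartbeats 1000000
set_option backward.isDefEq.respectTransparency false
set_option backward.isDefEq.respectTransparency.types false

universe u

open CategoryTheory CategoryTheory.Limits AlgebraicGeometry TopologicalSpace Opposite CategoryTheory.Abelian

noncomputable section

namespace Groth.Agent.CdField3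

open Groth.Agent

/-- The stalk of a higher direct image vanishes with the cohomology of the strictly local fibre. -/
theorem subsingleton_stalk_Rpush {X Y : Scheme.{u}} (f : X ⟶ Y) [QuasiCompact f] [QuasiSeparated f]
    (F : EtCoh.Ab X) (q : ℕ) {Ω : Type u} [Field Ω] [IsSepClosed Ω] (ξ : Spec (CommRingCat.of Ω) ⟶ Y)
    (s : Y) (hs : ξ (default : Spec (CommRingCat.of Ω)) = s)
    (h : ∀ (R : Type u) [CommRing R] [IsLocalRing R] [Algebra (Y.presheaf.stalk s) R]
      [IsLocalHom (algebraMap (Y.presheaf.stalk s) R)] [Hensel.IsStrictHenselization (Y.presheaf.stalk s) R],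
      Subsingleton (EtCoh.H (pullback f (Hens2.specOf Y s R))
        ((EtCoh.pull (pullback.fst f (Hens2.specOf Y s R))).obj F) q)) :
    Subsingleton ((EtCoh.stalk ξ).obj ((EtCoh.Rpush f q).obj F)) := by
  subst hs
  let s : Y := ξ (default : Spec (CommRingCat.of Ω))
  let A := Y.presheaf.stalk s
  let R := Hens.Hsh A
  haveI := Hensel.IsStrictHenselization.isSepClosure (R := A) (S := R)
  haveI : IsSepClosed (IsLocalRing.ResidueField R) :=
    IsSepClosure.sep_closed (IsLocalRing.ResidueField A)
  obtain ⟨e₀⟩ := S0620.result f F s R q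
  haveI : Subsingleton (EtCoh.H (pullback f (Hens2.specOf Y s R))
      ((EtCoh.pull (pullback.fst f (Hens2.specOf Y s R))).obj F) q) := h R
  haveI : Subsingleton ((EtCoh.stalk (Hens2.geomPt Y s R)).obj ((EtCoh.Rpush f q).obj F)) :=
    AddCommGrpCat.subsingleton_of_isZero ((AddCommGrpCat.isZero_of_subsingleton _).of_iso e₀)
  have hpt : ξ default = Hens2.geomPt Y s R default := by
    show s = (Hens2.specOf Y s R) ((Spec.map (CommRingCat.ofHom (IsLocalRing.residue R))) default)
    rw [show (Spec.map (CommRingCat.ofHom (IsLocalRing.residue R))) default = IsLocalRing.closedPoint R from ?_]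
    · exact LocAcyc24.specOf_closedPoint.symm
    · exact (congrArg (Spec.map (CommRingCat.ofHom (IsLocalRing.residue R)))
        (Subsingleton.elim (default : Spec (CommRingCat.of (IsLocalRing.ResidueField R)))
          (IsLocalRing.closedPoint (IsLocalRing.ResidueField R)))).trans
        (IsLocalRing.comap_closedPoint (IsLocalRing.residue R))
  exact DimFn3.subsingleton_stalk_congr (F := (EtCoh.Rpush f q).obj F) ξ (Hens2.geomPt Y s R) hpt inferInstance

theorem isZero_of_stalks {X : Scheme.{u}} {F : EtCoh.Ab X}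
    (h : ∀ (Ω : Type u) [Field Ω] [IsSepClosed Ω] (ξ : Spec (CommRingCat.of Ω) ⟶ X),
      Subsingleton ((EtCoh.stalk ξ).obj F)) : IsZero F :=
  (EtStalk.isZero_iff_stalk _).2 fun Ω _ _ ξ => @AddCommGrpCat.isZero_of_subsingleton _ (h Ω ξ)

/-- The ring map of a morphism to an affine spectrum. -/
def homToGlobal {Z : Scheme.{u}} {A : CommRingCat.{u}} (g : Z ⟶ Spec A) : A →+* Γ(Z, ⊤) :=
  ((Scheme.ΓSpecIso A).inv ≫ g.appTop).hom

theorem eq_of_homToGlobal {Z : Scheme.{u}} {A : CommRingCat.{u}} {g h : Z ⟶ Spec A}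
    (e : homToGlobal g = homToGlobal h) : g = h :=
  ext_of_isAffine ((cancel_epi (Scheme.ΓSpecIso A).inv).1 (CommRingCat.hom_ext e))

theorem homToGlobal_comp_SpecMap {Z : Scheme.{u}} {A B : CommRingCat.{u}} (g : Z ⟶ Spec B) (φ : A ⟶ B) :
    homToGlobal (g ≫ Spec.map φ) = (homToGlobal g).comp φ.hom := by
  have h : (Scheme.ΓSpecIso A).inv ≫ (g ≫ Spec.map φ).appTop = φ ≫ (Scheme.ΓSpecIso B).inv ≫ g.appTop := by
    rw [Scheme.Hom.comp_appTop, ← Category.assoc, ← Scheme.ΓSpecIso_inv_naturality, Category.assoc]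
  exact congrArg CommRingCat.Hom.hom h

/-- The morphism to an affine spectrum given by a ring map to the global sections. -/
def toSpecOf (Z : Scheme.{u}) {A : CommRingCat.{u}} (ψ : A →+* Γ(Z, ⊤)) : Z ⟶ Spec A :=
  Z.toSpecΓ ≫ Spec.map (CommRingCat.ofHom ψ)

theorem homToGlobal_toSpecOf (Z : Scheme.{u}) {A : CommRingCat.{u}} (ψ : A →+* Γ(Z, ⊤)) :
    homToGlobal (toSpecOf Z ψ) = ψ := by
  rw [toSpecOf, homToGlobal_comp_SpecMap, homToGlobal, Scheme.toSpecΓ_appTop, Iso.inv_hom_id]
  rfl

theorem homToGlobal_comp {Z Z' : Scheme.{u}} {A : CommRingCat.{u}} (p : Z' ⟶ Z) (g : Z ⟶ Spec A) :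
    homToGlobal (p ≫ g) = p.appTop.hom.comp (homToGlobal g) := by
  rw [homToGlobal, Scheme.Hom.comp_appTop, ← Category.assoc, CommRingCat.hom_comp]
  rfl

end Groth.Agent.CdField3
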