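import Groth.Agent.Lib.CdField3.TopDegree
import Groth.Agent.Lib.CdField3.LefStalk
import Groth.Agent.Lib.CdField3.HensSurfMain
import Groth.Agent.Lib.EtStalk.IntegralUniv
import Groth.Agent.Lib.NormSep24.ConstUnit
import Groth.Agent.Lib.Dix24.Kummer
import Mathlib.AlgebraicGeometry.Morphisms.FinitePresentation

/-!
# Auxiliary lemmas for embedding constructible sheaves on punctured surface singularities
-/

set_option autoImplicit false
set_option maxHeartbeats 300000
set_option linter.style.haveILetI false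
set_option backward.isDefEq.respectTransparency false
set_option backward.isDefEq.respectTransparency.types false

universe u

open CategoryTheory CategoryTheory.Limits AlgebraicGeometry TopologicalSpace Opposite

namespace Groth.Agent.CdField3

open Groth.Agent

/-- A proper closed subset of an open of non-closed points of a two-dimensional Noetherian domain is finite. -/
theorem finite_compl_open_surf (A : Type u) [CommRing A] [IsDomain A] [IsNoetherianRing A]
    (hA : ringKrullDim A ≤ 2) (U : (Spec (CommRingCat.of A)).Opens)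
    (hU : ∀ x : ↥(Spec (CommRingCat.of A)), x ∈ U → ¬ IsClosed ({x} : Set ↥(Spec (CommRingCat.of A))))
    (V : (↑U : Scheme.{u}).Opens) (hV : Nonempty ↥(↑V : Scheme.{u})) :
    ((V : Set ↥(↑U : Scheme.{u}))ᶜ).Finite := by
  classical
  let V' : (Spec (CommRingCat.of A)).Opens := U.ι ''ᵁ V
  obtain ⟨I, hI⟩ := (PrimeSpectrum.isClosed_iff_zeroLocus_ideal _).1 V'.isOpen.isClosed_compl
  have hI0 : I ≠ ⊥ := by
    rintro rfl
    obtain ⟨⟨v, hv⟩⟩ := hV
    have h1 : U.ι v ∈ PrimeSpectrum.zeroLocus ((⊥ : Ideal A) : Set A) :=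
      PrimeSpectrum.mem_zeroLocus _ _ |>.2 (Set.singleton_subset_iff.2 (Ideal.zero_mem _))
    rw [← hI] at h1
    exact h1 ⟨v, hv, rfl⟩
  refine Set.Finite.of_finite_image (f := fun y => ((U.ι y : PrimeSpectrum A)).asIdeal) ?_ ?_
  · refine (Ideal.finite_minimalPrimes_of_isNoetherianRing A I).subset ?_
    rintro _ ⟨y, hy, rfl⟩
    have hy' : U.ι y ∈ ((V' : Set ↥(Spec (CommRingCat.of A)))ᶜ) := by
      rintro ⟨w, hw, he⟩
      exact hy (U.ι.isOpenEmbedding.injective he ▸ hw)
    rw [hI] at hy'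
    let P : PrimeSpectrum A := U.ι y
    obtain ⟨Q, hQ, hQP⟩ := Ideal.exists_minimalPrimes_le (show I ≤ P.asIdeal from hy')
    rcases eq_or_lt_of_le hQP with h | h
    · show P.asIdeal ∈ I.minimalPrimes
      exact h ▸ hQ
    exfalso
    haveI := hQ.1.1
    have hQ0 : (⊥ : Ideal A) < Q := lt_of_lt_of_le (bot_lt_iff_ne_bot.2 hI0) hQ.1.2
    have hnm : ¬ P.asIdeal.IsMaximal := fun hm => hU (U.ι y) (Scheme.Opens.range_ι U ▸ ⟨y, rfl⟩ : U.ι y ∈ (U : Set _))
      ((PrimeSpectrum.isClosed_singleton_iff_isMaximal _).2 hm)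
    obtain ⟨N, hN, hle⟩ := Ideal.exists_le_maximal _ P.isPrime.ne_top
    have hlt : P.asIdeal < N := lt_of_le_of_ne hle fun h => hnm (h ▸ hN)
    have h1 := Ideal.height_strict_mono_of_isPrime hQ0
    have h2 := Ideal.height_strict_mono_of_isPrime h
    have h3 := Ideal.height_strict_mono_of_isPrime hlt
    have h4 : N.height ≤ 2 :=
      WithBot.coe_le_coe.1 ((Ideal.height_le_ringKrullDim_of_isPrime (I := N)).trans hA)
    rw [Ideal.height_bot] at h1
    have e1 := Order.add_one_le_of_lt h1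
    have e2 := Order.add_one_le_of_lt h2
    have e3 := Order.add_one_le_of_lt h3
    have e4 : (0 : ℕ∞) + 1 + 1 + 1 ≤ 2 :=
      calc (0 : ℕ∞) + 1 + 1 + 1 ≤ Q.height + 1 + 1 := by gcongr
        _ ≤ P.asIdeal.height + 1 := by gcongr
        _ ≤ N.height := e3
        _ ≤ 2 := h4
    norm_num at e4
  · intro x _ y _ h
    exact U.ι.isOpenEmbedding.injective (PrimeSpectrum.ext h)

/-- A closed immersion into a locally Noetherian scheme is locally of finite presentation. -/
theorem lfp_closedImmersion {Z X : Scheme.{u}} (i : Z ⟶ X) [IsClosedImmersion i] [IsLocallyNoetherian X] :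
    LocallyOfFinitePresentation i := inferInstance

theorem nsmul_id_of_killedBy {X : Scheme.{u}} {m : ℕ} {F : EtCoh.Ab X} (h : EtCoh.KilledBy m F) :
    m • 𝟙 F = 0 := by
  refine CategoryTheory.Sheaf.hom_ext (NatTrans.ext (funext fun U => AddCommGrpCat.ext fun s => ?_))
  have e : ∀ (a : F ⟶ F) (k : ℕ), (k • a).hom.app U s = k • a.hom.app U s := fun a k => by
    induction k with
    | zero => rw [zero_nsmul, zero_nsmul]; rfl
    | succ k ih => rw [succ_nsmul, succ_nsmul, ← ih]; rfl
  exact (e (𝟙 F) m).trans (h U.unop s)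

theorem nsmul_eq_zero_of_const {X : Scheme.{u}} {M : Type} [AddCommGroup M] {m : ℕ} (hX : Nonempty X)
    (h : m • 𝟙 (EtCoh.const X M) = 0) (x : M) : m • x = 0 := by
  have h1 := Dix24.killedBy_of_nsmul_id h (EtCoh.top X) (NormSep24.cst M (EtCoh.top X) ⟨x⟩)
  have h2 : NormSep24.cst M (EtCoh.top X) (m • (⟨x⟩ : ULift.{u + 1} M)) = NormSep24.cst M (EtCoh.top X) 0 := by
    unfold NormSep24.cst
    rw [map_nsmul, map_zero]
    exact h1
  exact congrArg ULift.down (NormSep24.cst_injective M (EtCoh.top X) hX h2)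

theorem isZero_of_mono_zero {C : Type*} [Category C] [HasZeroMorphisms C] {A B : C} (f : A ⟶ B) [Mono f]
    (h : f = 0) : IsZero A := by
  rw [IsZero.iff_id_eq_zero, ← cancel_mono f, Category.id_comp, zero_comp, h]

/-- A stalk vanishes when the pullback to a scheme through the point vanishes. -/
theorem subsingleton_stalk_of_pull {Y X : Scheme.{u}} (f : Y ⟶ X) (K : EtCoh.Ab X) {Ω : Type u} [Field Ω]
    [IsSepClosed Ω] (η : Spec (CommRingCat.of Ω) ⟶ X) (y : Y) (hy : f y = η default)
    (h : IsZero ((EtCoh.pull f).obj K)) : Subsingleton ((EtCoh.stalk η).obj K) := by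
  let L := AlgebraicClosure (Y.residueField y)
  let ξ : Spec (CommRingCat.of L) ⟶ Y :=
    Spec.map (CommRingCat.ofHom (algebraMap (Y.residueField y) L)) ≫ Y.fromSpecResidueField y
  have hξ : ξ (default : Spec (CommRingCat.of L)) = y := by
    rw [Scheme.Hom.comp_apply]
    exact Scheme.fromSpecResidueField_apply y _
  have h1 : IsZero ((EtCoh.stalk ξ).obj ((EtCoh.pull f).obj K)) := (EtCoh.stalk ξ).map_isZero h
  have h2 : IsZero ((EtCoh.stalk (ξ ≫ f)).obj K) := h1.of_iso (asIso (EtStalk.stalkPull f ξ K))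
  refine DimFn3.subsingleton_stalk_congr η (ξ ≫ f) ?_ (AddCommGrpCat.subsingleton_of_isZero h2)
  rw [Scheme.Hom.comp_apply, hξ, hy]

theorem subsingleton_stalk_of_pull_comp {P Y X : Scheme.{u}} (f : Y ⟶ X) (g : P ⟶ Y) (K : EtCoh.Ab X)
    {Ω : Type u} [Field Ω] [IsSepClosed Ω] (η : Spec (CommRingCat.of Ω) ⟶ X) (p : P) (hp : f (g p) = η default)
    (h : IsZero ((EtCoh.pull g).obj ((EtCoh.pull f).obj K))) : Subsingleton ((EtCoh.stalk η).obj K) := by
  let L := AlgebraicClosure (P.residueField p)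
  let ξ : Spec (CommRingCat.of L) ⟶ P :=
    Spec.map (CommRingCat.ofHom (algebraMap (P.residueField p) L)) ≫ P.fromSpecResidueField p
  have hξ : ξ (default : Spec (CommRingCat.of L)) = p := by
    rw [Scheme.Hom.comp_apply]
    exact Scheme.fromSpecResidueField_apply p _
  have h1 : IsZero ((EtCoh.stalk ξ).obj ((EtCoh.pull g).obj ((EtCoh.pull f).obj K))) :=
    (EtCoh.stalk ξ).map_isZero h
  have h2 : IsZero ((EtCoh.stalk (ξ ≫ g)).obj ((EtCoh.pull f).obj K)) :=
    h1.of_iso (asIso (EtStalk.stalkPull g ξ _))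
  have h3 : IsZero ((EtCoh.stalk ((ξ ≫ g) ≫ f)).obj K) := h2.of_iso (asIso (EtStalk.stalkPull f (ξ ≫ g) K))
  refine DimFn3.subsingleton_stalk_congr η ((ξ ≫ g) ≫ f) ?_ (AddCommGrpCat.subsingleton_of_isZero h3)
  rw [Scheme.Hom.comp_apply, Scheme.Hom.comp_apply, hξ, hp]

end Groth.Agent.CdField3
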