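import Groth.Agent.Lib.CdField3.Compose
import Groth.Agent.Lib.PBC24.CurveVan
import Groth.Agent.Lib.PBC24.Torsion
import Groth.Agent.Lib.EtAcyc24.RpushLTorsion
import Groth.Agent.Lib.EtAcyc24.QuasiFiniteBase
import Groth.Agent.Lib.DimFn3.Main
import Groth.Agent.Lib.AssFlat15.Fields
import Groth.Agent.S0620

/-!
# Cohomological dimension of field extensions
-/

set_option autoImplicit false
set_option linter.style.haveILetI false
set_option backward.isDefEq.respectTransparency false
set_option backward.isDefEq.respectTransparency.types false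
set_option maxHeartbeats 1000000

universe u

open CategoryTheory CategoryTheory.Limits AlgebraicGeometry Opposite CategoryTheory.Abelian TensorProduct

namespace Groth.Agent.CdField3

/-- `cd_L(X) ≤ d`. -/
def CdL (L : Set ℕ) (X : Scheme.{u}) (d : ℕ) : Prop :=
  ∀ F : EtCoh.Ab X, EtAcyc.IsLTorsion L F → ∀ q, d < q → Subsingleton (EtCoh.H X F q)

theorem cdL_mono {L : Set ℕ} {X : Scheme.{u}} {d d' : ℕ} (h : CdL L X d) (hd : d ≤ d') : CdL L X d' :=
  fun F hF q hq => h F hF q (lt_of_le_of_lt hd hq)

theorem cdL_integral {L : Set ℕ} {W Z : Scheme.{u}} (π : Z ⟶ W) [IsIntegralHom π] {d : ℕ} (h : CdL L W d) :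
    CdL L Z d := fun G hG q hq => by
  haveI := h _ (EtAcyc24.isLTorsion_push_integral π L hG) q hq
  exact (FieldH25.bijective_HofPush_integral π G q).2.subsingleton

theorem isLTorsion_singleton {X : Scheme.{u}} {ℓ : ℕ} (hℓ : ℓ.Prime) {F : EtCoh.Ab X}
    (hF : Dix.IsPrimaryTorsion ℓ F) : EtAcyc.IsLTorsion {ℓ} F := by
  intro U s x
  obtain ⟨V, g, hv, k, hk⟩ := hF U s x
  exact ⟨V, g, ℓ ^ k, hv, ⟨pow_pos hℓ.pos k, fun p hp hdvd =>
    (Nat.prime_dvd_prime_iff_eq hp hℓ).1 (hp.dvd_of_dvd_pow hdvd)⟩, hk⟩

theorem isPrimaryTorsion_singleton {X : Scheme.{u}} {ℓ : ℕ} {F : EtCoh.Ab X}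
    (hF : EtAcyc.IsLTorsion {ℓ} F) : Dix.IsPrimaryTorsion ℓ F := by
  intro U s x
  obtain ⟨V, g, m, hv, ⟨hm, hp⟩, h0⟩ := hF U s x
  refine ⟨V, g, hv, m.primeFactorsList.length, ?_⟩
  rw [← Nat.eq_prime_pow_of_unique_prime_dvd hm.ne' fun {d} hd hdm => hp d hd hdm]
  exact h0

theorem cdL_univ_iff {X : Scheme.{u}} {d : ℕ} : CdL Set.univ X d ↔ EtCoh.CohDimLE X d :=
  ⟨fun h F hF => h F (PBC24.isLTorsion_univ hF), fun h F hF => h F (PBC24.isTorsion_of_isLTorsion hF)⟩

theorem cdL_singleton_iff {X : Scheme.{u}} {ℓ d : ℕ} (hℓ : ℓ.Prime) :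
    CdL {ℓ} X d ↔ Dix.CohDimLEAt X ℓ d :=
  ⟨fun h F hF => h F (isLTorsion_singleton hℓ hF), fun h F hF => h F (isPrimaryTorsion_singleton hF)⟩

/-- A field of transcendence degree at most one over a separably closed field has torsion
cohomological dimension at most one. -/
theorem cdL_trdeg_le_one (L : Set ℕ) (Ω₀ K : Type u) [Field Ω₀] [IsSepClosed Ω₀] [Field K] [Algebra Ω₀ K]
    (n : ℕ) (hn : n ≤ 1) (htr : Algebra.trdeg Ω₀ K = n) : CdL L (Spec (CommRingCat.of K)) 1 := by
  let Ω := AlgebraicClosure K
  let P := perfectClosure K Ω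
  let kb := algebraicClosure Ω₀ Ω
  haveI : IsPurelyInseparable Ω₀ kb := Algebra.IsAlgebraic.isPurelyInseparable_of_isSepClosed
  have hsub : ∀ a : kb, (a : Ω) ∈ P := fun a => by
    obtain ⟨q, _⟩ := ExpChar.exists Ω₀
    haveI : ExpChar K q := expChar_of_injective_algebraMap (algebraMap Ω₀ K).injective q
    rw [mem_perfectClosure_iff_pow_mem q]
    obtain ⟨m, c, hc⟩ := IsPurelyInseparable.pow_mem Ω₀ q a
    refine ⟨m, algebraMap Ω₀ K c, ?_⟩
    rw [← IsScalarTower.algebraMap_apply, IsScalarTower.algebraMap_apply Ω₀ kb Ω, hc]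
    simp
  let φ : kb →+* P := ((algebraMap kb Ω).codRestrict P hsub)
  letI : Algebra kb P := φ.toAlgebra
  haveI : IsScalarTower Ω₀ kb P := IsScalarTower.of_algebraMap_eq fun c => rfl
  haveI : IsAlgClosed kb := (algebraicClosure.isAlgClosure Ω₀ Ω).isAlgClosed
  haveI : IsPurelyInseparable K P := perfectClosure.isPurelyInseparable K Ω
  have h0 : Algebra.trdeg Ω₀ kb = 0 := trdeg_eq_zero
  have h1 : Algebra.trdeg K P = 0 := trdeg_eq_zero
  have e1 := trdeg_add_eq Ω₀ kb (A := P)
  have e2 := trdeg_add_eq Ω₀ K (A := P)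
  rw [h0, zero_add] at e1
  rw [h1, add_zero] at e2
  have hC : Curves.IsCr P 1 := FieldBr3.isCr_one_of_trdeg_le_one kb P n hn
    (e1.trans (e2.symm.trans htr))
  intro F hF q hq
  let σ : Spec (CommRingCat.of P) ⟶ Spec (CommRingCat.of K) := Spec.map (CommRingCat.ofHom (algebraMap K P))
  haveI : IsIntegralHom σ := by
    rw [IsIntegralHom.SpecMap_iff]
    exact algebraMap_isIntegral_iff.mpr (inferInstance : Algebra.IsIntegral K P)
  haveI : UniversallyInjective σ := RelCyc15.universallyInjective_spec K P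
  haveI : Surjective σ := RelCyc15.surjective_spec K P
  exact PBC24.subsingleton_H_of_univHomeo σ F q (FieldBr3.subsingleton_H_torsion P
    (FieldBr3.normSurj_of_brauer _ (FieldBr3.brauer_trivial_of_isCr_one _ hC)) _
    (FieldBr3.isTorsion_pull' σ (PBC24.isTorsion_of_isLTorsion hF)) hq)

variable (F M : Type u) [Field F] [Field M] [Algebra F M]

/-- For an extension of transcendence degree one that stays a domain after any field extension,
the higher direct images vanish above degree one. -/
theorem isZero_Rpush_trdeg_one (L : Set ℕ)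
    (hdom : ∀ (R : Type u) [Field R] [Algebra F R], IsDomain (M ⊗[F] R))
    (htr : Algebra.trdeg F M = 1) (G : EtCoh.Ab (Spec (CommRingCat.of M))) (hG : EtAcyc.IsLTorsion L G)
    (i : ℕ) (hi : 1 < i) :
    IsZero ((EtCoh.Rpush (Spec.map (CommRingCat.ofHom (algebraMap F M))) i).obj G) := by
  let π : Spec (CommRingCat.of M) ⟶ Spec (CommRingCat.of F) := Spec.map (CommRingCat.ofHom (algebraMap F M))
  let S := Spec (CommRingCat.of F)
  refine (EtStalk.isZero_iff_stalk _).2 fun Ω _ _ ξ => ?_
  let s : S := ξ (default : Spec (CommRingCat.of Ω))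
  let A := S.presheaf.stalk s
  let R := Hens.Hsh A
  haveI := Hensel.IsStrictHenselization.isSepClosure (R := A) (S := R)
  haveI : IsSepClosed (IsLocalRing.ResidueField R) :=
    IsSepClosure.sep_closed (IsLocalRing.ResidueField A)
  obtain ⟨e⟩ := S0620.result π G s R i
  let g : Spec (CommRingCat.of R) ⟶ S := Hens2.specOf S s R
  -- the strict henselization is a separably closed field, integral over the base
  have hA : IsField A := by
    letI : Algebra F A := StructureSheaf.stalkAlgebra F s
    haveI : IsLocalization.AtPrime A s.asIdeal :=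
      inferInstanceAs (IsLocalization.AtPrime ((Spec.structureSheaf F).presheaf.stalk s) s.asIdeal)
    refine IsLocalRing.isField_iff_maximalIdeal_eq.2 (eq_bot_iff.2 fun a ha => ?_)
    obtain ⟨b, c, rfl⟩ := IsLocalization.exists_mk'_eq s.asIdeal.primeCompl a
    rw [IsLocalization.AtPrime.mk'_mem_maximal_iff A s.asIdeal] at ha
    have hb : b = 0 := by
      simpa [(Ideal.eq_bot_or_top s.asIdeal).resolve_right s.2.ne_top] using ha
    rw [hb, IsLocalization.mk'_zero]
    exact Submodule.zero_mem _
  have hmax : IsLocalRing.maximalIdeal R = ⊥ := by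
    rw [← Hens.strictHenselization_map_maximalIdeal (R := A) (S := R),
      IsLocalRing.isField_iff_maximalIdeal_eq.1 hA, Ideal.map_bot]
  letI : Field R := (IsLocalRing.isField_iff_maximalIdeal_eq.2 hmax).toField
  have hres : Function.Bijective (IsLocalRing.residue R) :=
    ⟨RingHom.injective _, IsLocalRing.residue_surjective⟩
  haveI : IsSepClosed R := EtPic3.isSepClosed_of_ringEquiv (RingEquiv.ofBijective _ hres).symm
  haveI : IsIntegralHom g := by
    have h1 : IsClosedImmersion (S.fromSpecStalk s) := IsClosedImmersion.of_isPreimmersion _ (by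
      rw [Scheme.range_fromSpecStalk]
      convert isClosed_univ
      exact Set.eq_univ_of_forall fun t => (Subsingleton.elim t s) ▸ specializes_rfl)
    have h2 : IsIntegralHom (Spec.map (CommRingCat.ofHom (algebraMap A R))) := by
      rw [IsIntegralHom.SpecMap_iff]
      letI := hA.toField
      intro r
      have h3 : IsIntegral A (IsLocalRing.residue R r) := by
        haveI : Algebra.IsSeparable (IsLocalRing.ResidueField A) (IsLocalRing.ResidueField R) :=
          IsSepClosure.separable
        haveI : Algebra.IsIntegral A (IsLocalRing.ResidueField A) :=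
          Algebra.IsIntegral.of_surjective (Algebra.ofId A (IsLocalRing.ResidueField A)) IsLocalRing.residue_surjective
        haveI : Algebra.IsIntegral A (IsLocalRing.ResidueField R) := Algebra.IsIntegral.trans (IsLocalRing.ResidueField A)
        exact Algebra.IsIntegral.isIntegral _
      exact (isIntegral_algHom_iff (IsScalarTower.toAlgHom A R (IsLocalRing.ResidueField R)) hres.1).1 h3
    exact inferInstanceAs (IsIntegralHom (Spec.map _ ≫ S.fromSpecStalk s))
  let φ : CommRingCat.of F ⟶ CommRingCat.of R := Spec.preimage g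
  have hg : Spec.map φ = g := Spec.map_preimage g
  letI : Algebra F R := φ.hom.toAlgebra
  haveI : Algebra.IsIntegral F R := by
    rw [← algebraMap_isIntegral_iff]
    have : IsIntegralHom (Spec.map φ) := hg ▸ ‹IsIntegralHom g›
    exact (IsIntegralHom.SpecMap_iff).1 this
  -- the fibre is the spectrum of a field
  haveI := hdom R
  letI : Field (M ⊗[F] R) := (isField_of_isIntegral_of_isField' (R := M) (Field.toIsField M)).toField
  letI : Algebra R (M ⊗[F] R) := Algebra.TensorProduct.rightAlgebra
  haveI : Algebra.IsIntegral M (M ⊗[F] R) := inferInstance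
  have e1 := trdeg_add_eq F M (A := M ⊗[F] R)
  have e2 := trdeg_add_eq F R (A := M ⊗[F] R)
  rw [htr, trdeg_eq_zero (R := M), add_zero] at e1
  rw [trdeg_eq_zero (R := F) (A := R), zero_add, ← e1] at e2
  have hcd := cdL_trdeg_le_one L R (M ⊗[F] R) 1 le_rfl (e2.trans Nat.cast_one.symm)
  let P := pullback π g
  let j : P ≅ Spec (CommRingCat.of (M ⊗[F] R)) :=
    pullback.congrHom rfl hg.symm ≪≫ pullbackSpecIso F M R
  have hP : CdL L P 1 := cdL_integral j.hom hcd
  haveI : Subsingleton (EtCoh.H P ((EtCoh.pull (pullback.fst π g)).obj G) i) :=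
    hP _ (EtAcyc24.isLTorsion_pull _ L hG) i hi
  haveI : Subsingleton ((EtCoh.stalk (Hens2.geomPt S s R)).obj ((EtCoh.Rpush π i).obj G)) :=
    AddCommGrpCat.subsingleton_of_isZero ((AddCommGrpCat.isZero_of_subsingleton _).of_iso e)
  haveI := DimFn3.subsingleton_stalk_congr (F := (EtCoh.Rpush π i).obj G) ξ (Hens2.geomPt S s R)
    (Subsingleton.elim _ _) inferInstance
  exact AddCommGrpCat.isZero_of_subsingleton _

/-- One step of the induction. -/
theorem cdL_step (L : Set ℕ) (hdom : ∀ (R : Type u) [Field R] [Algebra F R], IsDomain (M ⊗[F] R))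
    (htr : Algebra.trdeg F M = 1) {d : ℕ} (hd : CdL L (Spec (CommRingCat.of F)) d) :
    CdL L (Spec (CommRingCat.of M)) (d + 1) := by
  intro G hG q hq
  let π := Spec.map (CommRingCat.ofHom (algebraMap F M))
  haveI : PreservesFiniteLimits (EtCoh.pull π) := EtStalk.preservesFiniteLimits_pull π
  refine subsingleton_H_compose π q G fun i p hpi => ?_
  by_cases hi : 1 < i
  · have hz := isZero_Rpush_trdeg_one F M L hdom htr G hG i hi
    exact subsingleton_of_forall_eq 0 fun c => by
      rw [← Ext.comp_mk₀_id c, hz.eq_of_src (𝟙 _) 0, Ext.mk₀_zero, Ext.comp_zero]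
  · exact hd _ (EtAcyc24.isLTorsion_Rpush π L hG i) p (by omega)

/-- Adjoining independent elements one at a time. -/
theorem cdL_trdeg : ∀ (t : ℕ) (F K : Type u) [Field F] [Field K] [Algebra F K] (L : Set ℕ) (d : ℕ),
    CdL L (Spec (CommRingCat.of F)) d → Algebra.trdeg F K ≤ t → CdL L (Spec (CommRingCat.of K)) (d + t) := by
  intro t
  induction t with
  | zero =>
    intro F K _ _ _ L d hd ht
    haveI : Algebra.IsAlgebraic F K := trdeg_eq_zero_iff.1 (le_antisymm (by simpa using ht) bot_le)
    let π := Spec.map (CommRingCat.ofHom (algebraMap F K))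
    haveI : IsIntegralHom π := by
      rw [IsIntegralHom.SpecMap_iff]
      exact algebraMap_isIntegral_iff.mpr (inferInstance : Algebra.IsIntegral F K)
    exact cdL_integral π hd
  | succ t ih =>
    intro F K _ _ _ L d hd ht
    by_cases h0 : Algebra.IsAlgebraic F K
    · exact cdL_mono (ih F K L d hd (by rw [trdeg_eq_zero_iff.2 h0]; exact bot_le)) (by omega)
    · obtain ⟨x, hx⟩ : ∃ x : K, Transcendental F x := by
        by_contra h
        exact h0 ⟨fun x => not_not.1 fun hx => h ⟨x, hx⟩⟩
      let v : PUnit.{u + 1} → K := fun _ => x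
      have hv : AlgebraicIndependent F v := algebraicIndependent_unique_type_iff.2 hx
      let M := IntermediateField.adjoin F (Set.range v)
      have htrM : Algebra.trdeg F M = 1 := by
        rw [← hv.aevalEquivField.trdeg_eq]
        have h1 := trdeg_add_eq F (MvPolynomial PUnit.{u + 1} F) (A := FractionRing (MvPolynomial PUnit.{u + 1} F))
        haveI : Algebra.IsAlgebraic (MvPolynomial PUnit.{u + 1} F) (FractionRing (MvPolynomial PUnit.{u + 1} F)) :=
          IsLocalization.isAlgebraic _ (nonZeroDivisors _)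
        rw [trdeg_eq_zero (R := MvPolynomial PUnit.{u + 1} F), add_zero, MvPolynomial.trdeg_of_isDomain] at h1
        rw [← h1]
        simp
      have hK : Algebra.trdeg M K ≤ t := by
        have h1 := trdeg_add_eq F M (A := K)
        rw [htrM] at h1
        rw [← h1, Nat.cast_succ, add_comm (t : Cardinal) 1] at ht
        exact Cardinal.add_one_le_add_one_iff.1 (by rwa [add_comm, add_comm (t : Cardinal) 1])
      have h1 := cdL_step F M L (fun R _ _ => AssFlat15.isDomain_tensor_adjoin_algebraicIndependent F R hv)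
        htrM hd
      have h2 := ih M K L (d + 1) h1 hK
      exact cdL_mono h2 (by omega)

end Groth.Agent.CdField3
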