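import Groth.Agent.Lib.DimFn3.Main
import Groth.Agent.Lib.EtRamH7.StrictDVR
import Groth.Agent.Lib.Cyc26.PullDiv

/-!
# Residue fields of strict henselisations over a point
-/

set_option autoImplicit false
set_option linter.style.haveILetI false
set_option backward.isDefEq.respectTransparency false
set_option backward.isDefEq.respectTransparency.types false
set_option maxHeartbeats 1000000

universe u

open CategoryTheory CategoryTheory.Limits AlgebraicGeometry Opposite

namespace Groth.Agent.CdField3

/-- The residue fields of a strict henselisation at `y` over a generization `x` are separable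
algebraic over the residue field of `x`. -/
theorem exists_algebra_residue {X : Scheme.{u}} (x y : X) (hxy : x ⤳ y) (R : Type u) [CommRing R] [IsLocalRing R]
    [Algebra (X.presheaf.stalk y) R] [IsLocalHom (algebraMap (X.presheaf.stalk y) R)]
    [Hensel.IsStrictHenselization (X.presheaf.stalk y) R] (P : Ideal R) [P.IsPrime]
    (hP : P ∈ ((RingHom.ker (Cyc.specMap y x hxy)).map (algebraMap (X.presheaf.stalk y) R)).minimalPrimes) :
    ∃ θ : X.residueField x →+* FractionRing (R ⧸ P),
      (∀ a, θ (Cyc.specMap y x hxy a) = algebraMap (R ⧸ P) (FractionRing (R ⧸ P))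
        (Ideal.Quotient.mk P (algebraMap (X.presheaf.stalk y) R a))) ∧
      (letI := θ.toAlgebra; Algebra.IsAlgebraic (X.residueField x) (FractionRing (R ⧸ P))) := by
  let A := X.presheaf.stalk y
  let p := RingHom.ker (Cyc.specMap y x hxy)
  haveI : p.IsPrime := RingHom.ker_isPrime _
  let K' := FractionRing (R ⧸ P)
  haveI : Module.Flat A R := Hens.strictHenselization_flat (R := A) (S := R)
  have hcomap : P.comap (algebraMap A R) = p := by
    refine le_antisymm ?_ (Ideal.map_le_iff_le_comap.1 hP.1.2)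
    haveI : P.LiesOver (P.comap (algebraMap A R)) := ⟨rfl⟩
    obtain ⟨Q, hQle, hQp, hQl⟩ := Ideal.exists_ideal_le_liesOver_of_le (p := p) (q := P.comap (algebraMap A R)) P
      (Ideal.map_le_iff_le_comap.1 hP.1.2)
    intro a ha
    have hQ : P ≤ Q := hP.2 ⟨hQp, Ideal.map_le_iff_le_comap.2 hQl.over.le⟩ hQle
    rw [show p = Q.under A from hQl.over]
    exact hQ ha
  let ψ₀ : A →+* K' := ((algebraMap (R ⧸ P) K').comp (Ideal.Quotient.mk P)).comp (algebraMap A R)
  have hψ₀ : ∀ a, ψ₀ a = 0 ↔ a ∈ p := fun a => by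
    show algebraMap (R ⧸ P) K' (Ideal.Quotient.mk P (algebraMap A R a)) = 0 ↔ _
    rw [map_eq_zero_iff _ (IsFractionRing.injective (R ⧸ P) K'), Ideal.Quotient.eq_zero_iff_mem, ← hcomap]
    rfl
  let j : A →+* X.presheaf.stalk x := (X.presheaf.stalkSpecializes hxy).hom
  letI : Algebra A (X.presheaf.stalk x) := j.toAlgebra
  haveI : IsLocalization.AtPrime (X.presheaf.stalk x) p := Cyc26.isLocalization_stalkSpecializes hxy
  have hu : ∀ a : p.primeCompl, IsUnit (ψ₀ a) := fun a => isUnit_iff_ne_zero.2 fun h => a.2 ((hψ₀ a).1 h)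
  let ψ₁ : X.presheaf.stalk x →+* K' := IsLocalization.lift hu
  haveI : IsLocalHom ψ₁ := ⟨fun b hb => by
    obtain ⟨a, s, rfl⟩ := IsLocalization.exists_mk'_eq p.primeCompl b
    rw [IsLocalization.AtPrime.isUnit_mk'_iff (X.presheaf.stalk x) p]
    intro ha
    have h0 : ψ₁ (IsLocalization.mk' (X.presheaf.stalk x) a s) = 0 := by
      have h1 := congrArg ψ₁ (IsLocalization.mk'_spec (X.presheaf.stalk x) a s)
      rw [map_mul, show ψ₁ (algebraMap A (X.presheaf.stalk x) a) = ψ₀ a from IsLocalization.lift_eq hu a,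
        show ψ₁ (algebraMap A (X.presheaf.stalk x) s) = ψ₀ s from IsLocalization.lift_eq hu s,
        (hψ₀ a).2 ha] at h1
      exact (mul_eq_zero.1 h1).resolve_right (hu s).ne_zero
    rw [h0] at hb
    exact not_isUnit_zero hb⟩
  let θ : X.residueField x →+* K' := IsLocalRing.ResidueField.lift ψ₁
  refine ⟨θ, fun a => IsLocalization.lift_eq hu a, ?_⟩
  letI := θ.toAlgebra
  letI : Algebra A (X.residueField x) := ((IsLocalRing.residue (X.presheaf.stalk x)).comp j).toAlgebra
  haveI : IsScalarTower A (X.residueField x) K' := IsScalarTower.of_algebraMap_eq fun a => by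
    rw [IsScalarTower.algebraMap_apply A (R ⧸ P) K']
    show ψ₀ a = θ (IsLocalRing.residue (X.presheaf.stalk x) (j a))
    exact (IsLocalization.lift_eq hu a).symm
  obtain ⟨e⟩ := Hens.exists_strictHenselization_equiv (R := A) (S := R)
  have hS : ∀ r : R, IsSeparable (X.residueField x) (algebraMap R K' r) := by
    intro r
    obtain ⟨i, z, hz⟩ := Hens.EtNbhd.exists_toHs (e.symm r)
    have h := EtRamH7.isSeparable_algHom_etale A (X.residueField x) K' i.toNbhd.S
      ((IsScalarTower.toAlgHom A R K').comp ((e.toAlgHom).comp i.toHs)) z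
    have hx : ((IsScalarTower.toAlgHom A R K').comp ((e.toAlgHom).comp i.toHs)) z = algebraMap R K' r := by
      show algebraMap R K' (e (i.toHs z)) = _
      rw [hz, AlgEquiv.apply_symm_apply]
    rwa [hx] at h
  refine ⟨fun w => ?_⟩
  obtain ⟨a, b, -, rfl⟩ := IsFractionRing.div_surjective (R ⧸ P) w
  obtain ⟨a, rfl⟩ := Ideal.Quotient.mk_surjective a
  obtain ⟨b, rfl⟩ := Ideal.Quotient.mk_surjective b
  exact ((hS a).isIntegral.isAlgebraic).mul ((hS b).isIntegral.isAlgebraic.inv)

end Groth.Agent.CdField3
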