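import Groth.Agent.Lib.CdField3.Primary
import Groth.Agent.Lib.CdField3.Residue
import Groth.Agent.S3491

/-!
# Finite cohomological dimension of schemes of finite type over a field
-/

set_option autoImplicit false
set_option linter.style.haveILetI false
set_option backward.isDefEq.respectTransparency false
set_option backward.isDefEq.respectTransparency.types false

universe u

open CategoryTheory CategoryTheory.Limits AlgebraicGeometry Opposite

namespace Groth.Agent.CdField3

/-- A crude dimension function. -/
def bound (e : ℕ) : ℕ → ℕ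
  | 0 => e
  | t + 1 => bound e t + (e + t + 2)

theorem bound_mono (e : ℕ) : Monotone (bound e) :=
  monotone_nat_of_le_succ fun t => Nat.le_add_right _ _

theorem le_bound (e : ℕ) : ∀ t, e + t ≤ bound e t
  | 0 => le_rfl
  | t + 1 => by
    show e + (t + 1) ≤ bound e t + (e + t + 2)
    omega

theorem add_succ_bound_le (e : ℕ) {s t : ℕ} (h : s < t) : e + t + 1 + bound e s ≤ bound e t := by
  obtain ⟨t, rfl⟩ : ∃ t', t = t' + 1 := ⟨t - 1, by omega⟩
  have := bound_mono e (show s ≤ t by omega)
  show e + (t + 1) + 1 + bound e s ≤ bound e t + (e + t + 2)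
  omega

variable {K : Type u} [Field K] {X : Scheme.{u}} (f : X ⟶ Spec (CommRingCat.of K)) [LocallyOfFiniteType f]

/-- Residue fields have cohomological dimension at most `e` plus their transcendence degree. -/
theorem cdL_residueField {L : Set ℕ} {e : ℕ} (hK : CdL L (Spec (CommRingCat.of K)) e) (x : X) :
    CdL L (Spec (X.residueField x)) (e + VarDim.sdim f x) := by
  letI := VarDim.resAlg f x
  exact cdL_trdeg _ K (X.residueField x) L e hK (VarDim.trdeg_residueField f x).le

variable [QuasiCompact f]

/-- A scheme of finite type over a field with `cd ≤ e` has finite cohomological dimension. -/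
theorem cdL_finiteType {L : Set ℕ} {e : ℕ} (hK : CdL L (Spec (CommRingCat.of K)) e) (n : ℕ)
    (hn : ∀ x : X, VarDim.sdim f x ≤ n) : CdL L X (bound e n) := by
  haveI : IsLocallyNoetherian X := LocallyOfFiniteType.isLocallyNoetherian f
  haveI : CompactSpace X := QuasiCompact.compactSpace_of_compactSpace f
  haveI : IsNoetherian X := ⟨⟩
  intro F hF q hq
  refine subsingleton_H_of_primary L q (fun p hp hpL G hG => ?_) F hF
  have hres : ∀ x : X, CdL {p} (Spec (X.residueField x)) (e + VarDim.sdim f x) := fun x =>
    cdL_residueField f (cdL_of_subset (Set.singleton_subset_iff.2 hpL) hK) x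
  refine S3491.result X p hp (fun x => bound e (VarDim.sdim f x))
    (fun x => (cdL_singleton_iff hp).1 (cdL_mono (hres x) (le_bound e _)))
    (fun x y hxy hne R _ _ _ _ _ P hP => ⟨e + VarDim.sdim f x, add_succ_bound_le e
      (VarDim.sdim_lt_of_specializes f hxy hne), ?_⟩) G hG q
    fun x _ => lt_of_le_of_lt (bound_mono e (hn x)) hq
  haveI : P.IsPrime := hP.1.1
  obtain ⟨θ, -, hθ⟩ := exists_algebra_residue x y hxy R P hP
  letI := θ.toAlgebra
  let π : Spec (CommRingCat.of (FractionRing (R ⧸ P))) ⟶ Spec (X.residueField x) :=
    Spec.map (CommRingCat.ofHom θ)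
  haveI : IsIntegralHom π := by
    rw [IsIntegralHom.SpecMap_iff]
    haveI := hθ
    exact algebraMap_isIntegral_iff.mpr
      (inferInstance : Algebra.IsIntegral (X.residueField x) (FractionRing (R ⧸ P)))
  exact (cdL_singleton_iff hp).1 (cdL_integral π (hres x))

/-- The transcendence degrees of the residue fields are bounded. -/
theorem exists_sdim_le : ∃ n, ∀ x : X, VarDim.sdim f x ≤ n := by
  haveI : IsLocallyNoetherian X := LocallyOfFiniteType.isLocallyNoetherian f
  haveI : CompactSpace X := QuasiCompact.compactSpace_of_compactSpace f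
  haveI : IsNoetherian X := ⟨⟩
  have hfin : (irreducibleComponents X).Finite := TopologicalSpace.NoetherianSpace.finite_irreducibleComponents
  classical
  refine ⟨hfin.toFinset.sup fun Z => if h : IsIrreducible Z then VarDim.sdim f h.genericPoint else 0, fun x => ?_⟩
  have hZ := irreducibleComponent_mem_irreducibleComponents x
  have hi : IsIrreducible (irreducibleComponent x) := isIrreducible_irreducibleComponent
  refine le_trans ?_ (Finset.le_sup (hfin.mem_toFinset.2 hZ))
  rw [dif_pos hi]
  have hs : hi.genericPoint ⤳ x :=
    hi.isGenericPoint_genericPoint_closure.specializes (subset_closure mem_irreducibleComponent)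
  rcases eq_or_ne hi.genericPoint x with h | h
  · rw [h]
  · exact (VarDim.sdim_lt_of_specializes f hs h).le

end Groth.Agent.CdField3

namespace Groth.Agent.CdField3

variable {K : Type u} [Field K] {X : Scheme.{u}} (f : X ⟶ Spec (CommRingCat.of K)) [LocallyOfFiniteType f]

/-- A bound on the dimension bounds all transcendence degrees. -/
theorem sdim_le_of_dim {n : ℕ} (hn : topologicalKrullDim X ≤ n) (x : X) : VarDim.sdim f x ≤ n := by
  have h := (le_iSup (fun y : X => ((VarDim.sdim f y : ℕ) : WithBot ℕ∞)) x).trans
    ((VarDim.dim_eq_iSup_sdim f).ge.trans hn)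
  exact_mod_cast h

end Groth.Agent.CdField3
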