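import Groth.Agent.Lib.CdField3.StrictDvr
import Groth.Agent.Lib.DimFn3.Fibre
import Groth.Agent.Lib.EtPic3.Artinian
import Groth.Agent.Lib.Hens.Transfer
import Groth.Agent.Lib.TsenLang.FnField
import Groth.Agent.S9262

/-!
# Strict localizations of regular points of dimension at most one
-/

set_option autoImplicit false
set_option linter.style.haveILetI false
set_option backward.isDefEq.respectTransparency false
set_option backward.isDefEq.respectTransparency.types false

universe u

open CategoryTheory CategoryTheory.Limits AlgebraicGeometry IsLocalRing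

namespace Groth.Agent.CdField3

theorem cohDimLEAt_of_le {X : Scheme.{u}} {ℓ d d' : ℕ} (h : Dix.CohDimLEAt X ℓ d) (hd : d ≤ d') :
    Dix.CohDimLEAt X ℓ d' := fun F hF q hq => h F hF q (lt_of_le_of_lt hd hq)

theorem cohDimLEAt_of_cohDimLE {X : Scheme.{u}} {ℓ d : ℕ} (hℓ : 0 < ℓ) (h : EtCoh.CohDimLE X d) :
    Dix.CohDimLEAt X ℓ d := fun F hF q hq => h F (isTorsion_of_isPrimaryTorsion hℓ hF) q hq

theorem cohDimLEAt_of_ringEquiv {A B : Type u} [CommRing A] [CommRing B] (e : A ≃+* B) {ℓ d : ℕ}
    (h : Dix.CohDimLEAt (Spec (CommRingCat.of A)) ℓ d) : Dix.CohDimLEAt (Spec (CommRingCat.of B)) ℓ d := by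
  haveI : IsIso (CommRingCat.ofHom e.toRingHom) := e.toCommRingCatIso.isIso_hom
  exact DimFn3.cohDimLEAt_of_iso (Spec.map (CommRingCat.ofHom e.toRingHom)) h

/-- A noetherian normal local domain of dimension at most one is a field or a discrete valuation ring. -/
theorem isField_or_dvr (S : Type u) [CommRing S] [IsDomain S] [IsLocalRing S] [IsNoetherianRing S]
    [IsIntegrallyClosed S] (h : ringKrullDim S ≤ 1) :
    (IsField S ∧ ringKrullDim S = 0) ∨ (IsDiscreteValuationRing S ∧ ringKrullDim S = 1) := by
  by_cases hf : IsField S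
  · exact Or.inl ⟨hf, ringKrullDim_eq_zero_of_isField hf⟩
  have hP : ∀ P : Ideal S, P ≠ ⊥ → P.IsPrime → P = maximalIdeal S := by
    intro P hP hPp
    by_contra hne
    have hlt : P < maximalIdeal S := lt_of_le_of_ne (IsLocalRing.le_maximalIdeal hPp.ne_top) hne
    have h1 : (1 : ℕ∞) ≤ P.height := by
      rw [ENat.one_le_iff_ne_zero, Ne, Ideal.height_eq_zero_iff_eq_bot]
      exact hP
    have h2 : (maximalIdeal S).height ≤ 1 := by
      rw [← IsLocalRing.maximalIdeal_height_eq_ringKrullDim] at h
      exact_mod_cast h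
    exact lt_irrefl _ (lt_of_le_of_lt h1 (lt_of_lt_of_le (Ideal.height_strict_mono_of_isPrime hlt) h2))
  haveI : IsPrincipalIdealRing S :=
    ((tfae_of_isNoetherianRing_of_isLocalRing_of_isDomain (R := S)).out 0 3 :
      IsPrincipalIdealRing S ↔ IsIntegrallyClosed S ∧ ∀ P : Ideal S, P ≠ ⊥ → P.IsPrime → P = maximalIdeal S).2
      ⟨inferInstance, hP⟩
  haveI : IsDiscreteValuationRing S :=
    { __ := (inferInstance : IsPrincipalIdealRing S)
      not_a_field' := fun h0 => hf (IsLocalRing.isField_iff_maximalIdeal_eq.2 h0) }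
  exact Or.inr ⟨inferInstance, IsDiscreteValuationRing.ringKrullDim_eq_one S⟩

/-- The fraction field of a quotient of a strict henselization of a regular local ring of dimension
at most one has cohomological dimension at most the dimension, at invertible primes. -/
theorem cohDimLEAt_strict_le_one (S : Type u) [CommRing S] [IsDomain S] [IsLocalRing S] [IsNoetherianRing S]
    [IsIntegrallyClosed S] (hS : ringKrullDim S ≤ 1) (ℓ : ℕ) (hℓ : ℓ.Prime) (hu : IsUnit (ℓ : S))
    (R : Type u) [CommRing R] [IsLocalRing R] [Algebra S R]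
    [IsLocalHom (algebraMap S R)] [Hensel.IsStrictHenselization S R]
    (I P : Ideal R) (hP : P ∈ I.minimalPrimes) (e : ℕ) (he : ringKrullDim (R ⧸ I) = e) :
    haveI := hP.1.1
    Dix.CohDimLEAt (Spec (CommRingCat.of (FractionRing (R ⧸ P)))) ℓ e := by
  haveI hPp : P.IsPrime := hP.1.1
  haveI := Groth.Agent.Hens.strictHenselization_isNoetherianRing S R
  haveI hsep : IsSepClosed (ResidueField R) := by
    haveI := Hensel.IsStrictHenselization.isSepClosure (R := S) (S := R)
    exact IsSepClosure.sep_closed (ResidueField S)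
  -- the case of a maximal ideal
  have hmax : P = maximalIdeal R →
      Dix.CohDimLEAt (Spec (CommRingCat.of (FractionRing (R ⧸ P)))) ℓ e := by
    intro hPm G _ q hq
    haveI : P.IsMaximal := hPm ▸ maximalIdeal.isMaximal R
    letI := Ideal.Quotient.field P
    haveI : IsSepClosed (R ⧸ P) := EtPic3.isSepClosed_of_ringEquiv (k := ResidueField R) (Ideal.quotEquivOfEq hPm.symm)
    haveI : IsSepClosed (FractionRing (R ⧸ P)) := EtPic3.isSepClosed_of_ringEquiv
      (FractionRing.algEquiv (R ⧸ P) (R ⧸ P)).symm.toRingEquiv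
    exact EtPic3.subsingleton_H_sepClosed (FractionRing (R ⧸ P)) G (by omega)
  rcases isField_or_dvr S hS with ⟨-, hd⟩ | ⟨hdvr, hd⟩
  · haveI : Ring.KrullDimLE 0 R := Ring.krullDimLE_iff.2
      (by rw [Groth.Agent.Hens.strictHenselization_ringKrullDim S R, hd]; exact le_rfl)
    exact hmax (IsLocalRing.eq_maximalIdeal (Ideal.IsPrime.isMaximal' hPp))
  · haveI := hdvr
    haveI := Groth.Agent.Hens.strictHenselization_flat S R
    obtain ⟨hdR, hvR⟩ : ∃ _ : IsDomain R, IsDiscreteValuationRing R := by
      have h1 := (Groth.Agent.Hens.isDiscreteValuationRing_iff_regular_dim_one S).1 ⟨inferInstance, hdvr⟩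
      rw [Groth.Agent.Hens.isDiscreteValuationRing_iff_regular_dim_one,
        Groth.Agent.Hens.strictHenselization_ringKrullDim S R,
        ← Groth.Agent.RegLoc.isRegularLocalRing_iff_of_map_maximalIdeal
          (Groth.Agent.Hens.strictHenselization_map_maximalIdeal S R)]
      exact h1
    haveI := hdR
    haveI := hvR
    by_cases hP0 : P = ⊥
    swap
    · exact hmax (IsLocalRing.eq_maximalIdeal (hPp.isMaximal hP0))
    subst hP0
    have hI : I = ⊥ := le_bot_iff.1 hP.1.2
    have he1 : e = 1 := by
      subst hI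
      rw [ringKrullDim_eq_of_ringEquiv (RingEquiv.quotientBot R), IsDiscreteValuationRing.ringKrullDim_eq_one R] at he
      exact_mod_cast he.symm
    subst he1
    intro G hG q hq
    have hstr : EtCoh.IsStrictlyHenselianLocalRing R :=
      ⟨Hensel.IsStrictHenselization.henselian (R := S), hsep⟩
    refine cohDimLEAt_of_ringEquiv (IsFractionRing.ringEquivOfRingEquiv (K := FractionRing R)
      (L := FractionRing (R ⧸ (⊥ : Ideal R))) (RingEquiv.quotientBot R).symm)
      (fun G' hG' q' hq' => subsingleton_H_strictDvr R hstr (FractionRing R) ℓ hℓ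
        (by simpa using hu.map (algebraMap S R)) G' hG' q' hq') G hG q hq

end Groth.Agent.CdField3
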