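import Groth.Agent.Lib.CdField3.HensSurfMain
import Groth.Agent.Lib.H12.Dim
import Groth.Agent.S3242
import Groth.Agent.S3246

/-!
# `G_m` on punctured normal surface singularities
-/

set_option autoImplicit false
set_option linter.style.haveILetI false
set_option backward.isDefEq.respectTransparency false
set_option backward.isDefEq.respectTransparency.types false

universe u

open CategoryTheory CategoryTheory.Limits AlgebraicGeometry

namespace Groth.Agent.CdField3

attribute [local instance] specializationOrder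

/-- An open of non-closed points of a two-dimensional affine scheme has dimension at most one. -/
theorem topologicalKrullDim_le_one_of_surf (A : Type u) [CommRing A] [IsNoetherianRing A]
    (hA : ringKrullDim A ≤ 2) (U : (Spec (CommRingCat.of A)).Opens)
    (hU : ∀ x : ↥(Spec (CommRingCat.of A)), x ∈ U → ¬ IsClosed ({x} : Set ↥(Spec (CommRingCat.of A)))) :
    topologicalKrullDim ↥(↑U : Scheme.{u}) ≤ 1 := by
  have hht : ∀ y : ↥(↑U : Scheme.{u}), (y.1 : PrimeSpectrum A).asIdeal.height ≤ 1 := by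
    intro y
    have hnm : ¬ (y.1 : PrimeSpectrum A).asIdeal.IsMaximal := fun h => hU y.1 y.2
      ((PrimeSpectrum.isClosed_singleton_iff_isMaximal _).2 h)
    obtain ⟨M, hM, hle⟩ := Ideal.exists_le_maximal _ (y.1 : PrimeSpectrum A).isPrime.ne_top
    have hlt : (y.1 : PrimeSpectrum A).asIdeal < M := lt_of_le_of_ne hle fun h => hnm (h ▸ hM)
    have h2 : M.height ≤ 2 := WithBot.coe_le_coe.1 ((Ideal.height_le_ringKrullDim_of_isPrime (I := M)).trans hA)
    exact (ENat.lt_add_one_iff ENat.one_ne_top).1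
      (lt_of_lt_of_le (lt_of_lt_of_le (Ideal.height_strict_mono_of_isPrime hlt) h2) (le_of_eq one_add_one_eq_two.symm))
  have hpl : ∀ a b : ↥(↑U : Scheme.{u}), a ⤳ b → (a.1 : PrimeSpectrum A).asIdeal ≤ (b.1 : PrimeSpectrum A).asIdeal :=
    fun a b h => (PrimeSpectrum.le_iff_specializes _ _).2 (h.map continuous_subtype_val)
  have hne : ∀ a b : ↥(↑U : Scheme.{u}), (a.1 : PrimeSpectrum A).asIdeal = (b.1 : PrimeSpectrum A).asIdeal → a = b :=
    fun a b h => Subtype.ext (PrimeSpectrum.ext h)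
  rw [H12.topologicalKrullDim_eq_krullDim_specializationOrder, Order.krullDim_le_one_iff]
  intro y
  by_contra h
  simp only [IsMin, IsMax, not_or, not_forall] at h
  obtain ⟨⟨b, hb, hb'⟩, c, hc, hc'⟩ := h
  have h1 : (c.1 : PrimeSpectrum A).asIdeal < (y.1 : PrimeSpectrum A).asIdeal :=
    lt_of_le_of_ne (hpl c y hc) fun h => hc' (hne c y h ▸ hc)
  have h2 : (y.1 : PrimeSpectrum A).asIdeal < (b.1 : PrimeSpectrum A).asIdeal :=
    lt_of_le_of_ne (hpl y b hb) fun h => hb' (hne y b h ▸ hb)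
  have h3 := Ideal.height_strict_mono_of_isPrime h1
  have h4 := lt_of_lt_of_le (Ideal.height_strict_mono_of_isPrime h2) (hht b)
  rw [ENat.lt_one_iff_eq_zero] at h4
  rw [h4] at h3
  exact not_lt_bot h3

/-- `H^r(U, G_m) = 0` for `r ≥ 4` on a punctured normal surface singularity. -/
theorem subsingleton_H_Gm_surf (A : Type u) [CommRing A] [IsDomain A] [IsNoetherianRing A]
    [IsIntegrallyClosed A] (hA : ringKrullDim A ≤ 2) (k : Type u) [Field k] [CharZero k] [Algebra k A]
    (K : Type u) [Field K] [Algebra A K] [IsFractionRing A K]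
    (U : (Spec (CommRingCat.of A)).Opens)
    (hU : ∀ x : ↥(Spec (CommRingCat.of A)), x ∈ U → ¬ IsClosed ({x} : Set ↥(Spec (CommRingCat.of A))))
    (hcdK : EtCoh.CohDimLE (Spec (CommRingCat.of K)) 2)
    (hcdv : ∀ x : ↥(↑U : Scheme.{u}), IsClosed ({x} : Set ↥(↑U : Scheme.{u})) →
      EtCoh.CohDimLE (Spec ((↑U : Scheme.{u}).residueField x)) 1) (r : ℕ) (hr : 4 ≤ r) :
    Subsingleton (EtCoh.H (↑U : Scheme.{u}) (EtCoh.Gm (↑U : Scheme.{u})) r) := by
  haveI : IsLocallyNoetherian (↑U : Scheme.{u}) := isLocallyNoetherian_of_isOpenImmersion U.ι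
  haveI : CompactSpace ↥(↑U : Scheme.{u}) := isCompact_iff_compactSpace.1
    (TopologicalSpace.NoetherianSpace.isCompact _)
  haveI : IsNoetherian (↑U : Scheme.{u}) := ⟨⟩
  haveI : IsReduced (↑U : Scheme.{u}) := isReduced_of_isOpenImmersion U.ι
  have hinv : ∀ ℓ : ℕ, ℓ.Prime → Dix.InvertibleOn (↑U : Scheme.{u}) ℓ := by
    intro ℓ hℓ x
    have h1 := (IsUnit.mk0 (ℓ : k) (Nat.cast_ne_zero.2 hℓ.ne_zero)).map
      (((U.ι ≫ Spec.map (CommRingCat.ofHom (algebraMap k A))).residueFieldMap x).hom.comp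
        (((Spec (CommRingCat.of k)).residue _).hom.comp ((Scheme.ΓSpecIso (CommRingCat.of k)).inv ≫
          (Spec (CommRingCat.of k)).presheaf.germ ⊤
            ((U.ι ≫ Spec.map (CommRingCat.ofHom (algebraMap k A))) x) trivial).hom))
    rw [map_natCast] at h1
    exact h1.ne_zero
  have hmain : ∀ n : ℕ, 0 < n → ∀ ξ : EtCoh.H (↑U : Scheme.{u}) (EtCoh.Gm (↑U : Scheme.{u})) r,
      n • ξ = 0 → ξ = 0 := by
    intro n
    induction n using Nat.recOnMul with
    | zero => intro h; exact absurd h (lt_irrefl 0)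
    | one => intro _ ξ h; rwa [one_nsmul] at h
    | prime p hp =>
      intro _ ξ h
      refine (Groth.Agent.S3246.result (↑U : Scheme.{u}) p hp 3
        (cohDimLEAt_of_cohDimLE hp.pos (cohDimLE_three_of_surf A hA k K U hU hcdK hcdv))).2
        (hinv p hp) r (by omega) ξ ⟨1, by rwa [pow_one]⟩
    | mul b c hb hc =>
      intro hbc ξ h
      have hb0 : 0 < b := Nat.pos_of_mul_pos_right hbc
      have hc0 : 0 < c := Nat.pos_of_mul_pos_left hbc
      exact hc hc0 ξ (hb hb0 _ (by rwa [smul_smul]))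
  refine subsingleton_of_forall_eq 0 fun ξ => ?_
  obtain ⟨n, hn, hξ⟩ := isOfFinAddOrder_iff_nsmul_eq_zero.1
    (Groth.Agent.S3242.result (↑U : Scheme.{u}) (topologicalKrullDim_le_one_of_surf A hA U hU) r (by omega) ξ)
  exact hmain n hn ξ hξ

end Groth.Agent.CdField3
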