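import Groth.Agent.Lib.CdField3.Relative

/-!
# Residue fields of strict localizations over a field, and the bound `2 dim + cd`
-/

set_option autoImplicit false
set_option linter.style.haveILetI false
set_option backward.isDefEq.respectTransparency false
set_option backward.isDefEq.respectTransparency.types false
set_option maxHeartbeats 1000000

universe u

open CategoryTheory CategoryTheory.Limits AlgebraicGeometry Opposite

namespace Groth.Agent.CdField3

variable {K : Type u} [Field K] {X : Scheme.{u}} (f : X ⟶ Spec (CommRingCat.of K)) [LocallyOfFiniteType f]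

/-- The structure map from the base field to a stalk. -/
noncomputable def baseToStalk (y : X) : K →+* X.presheaf.stalk y :=
  ((Scheme.ΓSpecIso (CommRingCat.of K)).inv ≫ f.appTop ≫ X.presheaf.germ ⊤ y trivial).hom

omit [LocallyOfFiniteType f] in
theorem residue_baseToStalk (y : X) :
    (IsLocalRing.residue (X.presheaf.stalk y)).comp (baseToStalk f y) = VarDim.baseToRes f y := rfl

omit [LocallyOfFiniteType f] in
theorem specMap_baseToStalk (x y : X) (hxy : x ⤳ y) :
    (Cyc.specMap y x hxy).comp (baseToStalk f y) = VarDim.baseToRes f x := by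
  show ((((Scheme.ΓSpecIso (CommRingCat.of K)).inv ≫ f.appTop ≫ X.presheaf.germ ⊤ y trivial) ≫
    X.presheaf.stalkSpecializes hxy) ≫ X.residue x).hom = _
  rw [Category.assoc, Category.assoc, Category.assoc, TopCat.Presheaf.germ_stalkSpecializes_assoc]
  rfl

/-- The residue field of a strict localization at `y` over `x` contains a separably closed field over
which it has transcendence degree at most `sdim x - sdim y`. -/
theorem cdL_residue_strict (L : Set ℕ) (x y : X) (hxy : x ⤳ y) (R : Type u) [CommRing R] [IsLocalRing R]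
    [Algebra (X.presheaf.stalk y) R] [IsLocalHom (algebraMap (X.presheaf.stalk y) R)]
    [Hensel.IsStrictHenselization (X.presheaf.stalk y) R] (P : Ideal R)
    (hP : P ∈ ((RingHom.ker (Cyc.specMap y x hxy)).map (algebraMap (X.presheaf.stalk y) R)).minimalPrimes) :
    CdL L (Spec (CommRingCat.of (FractionRing (R ⧸ P)))) (VarDim.sdim f x - VarDim.sdim f y) := by
  haveI : P.IsPrime := hP.1.1
  let A := X.presheaf.stalk y
  let F := FractionRing (R ⧸ P)
  haveI : HenselianLocalRing R := Hensel.IsStrictHenselization.henselian (R := A)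
  haveI := Hensel.IsStrictHenselization.isSepClosure (R := A) (S := R)
  haveI : IsSepClosed (IsLocalRing.ResidueField R) :=
    IsSepClosure.sep_closed (IsLocalRing.ResidueField A)
  obtain ⟨θ, hθ⟩ := exists_algebra_residue x y hxy R P hP
  letI := VarDim.resAlg f y
  letI : Algebra K A := (baseToStalk f y).toAlgebra
  -- lift a transcendence basis of the residue field at `y`
  obtain ⟨s, hs⟩ := exists_isTranscendenceBasis K (X.residueField y)
  have hcard : Cardinal.mk s = (VarDim.sdim f y : Cardinal) :=
    hs.cardinalMk_eq_trdeg.trans (VarDim.trdeg_residueField f y)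
  choose u hu using fun i : s => IsLocalRing.residue_surjective (R := A) (i : X.residueField y)
  let M := MvPolynomial s K
  let ev : M →+* A := (MvPolynomial.aeval u).toRingHom
  have hres : ∀ p : M, IsLocalRing.residue A (ev p) = MvPolynomial.aeval (fun i : s => (i : X.residueField y)) p := by
    intro p
    show ((IsLocalRing.residue A).comp ev) p = _
    have e : (IsLocalRing.residue A).comp ev =
        (MvPolynomial.aeval fun i : s => (i : X.residueField y)).toRingHom := by
      refine MvPolynomial.ringHom_ext (fun c => ?_) fun i => ?_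
      · simp only [RingHom.comp_apply, ev, AlgHom.toRingHom_eq_coe, RingHom.coe_coe, MvPolynomial.aeval_C]
        exact (congrArg (fun r : K →+* X.residueField y => r c) (residue_baseToStalk f y)).trans
          (MvPolynomial.aeval_C _ c).symm
      · simp only [RingHom.comp_apply, ev, AlgHom.toRingHom_eq_coe, RingHom.coe_coe, MvPolynomial.aeval_X]
        exact (hu i).trans (MvPolynomial.aeval_X _ i).symm
    exact congrArg (fun r : M →+* X.residueField y => r p) e
  have hunit : ∀ p : nonZeroDivisors M, IsUnit ((algebraMap A R).comp ev p) := fun p => by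
    refine IsUnit.map (algebraMap A R) ?_
    by_contra h
    have h0 : MvPolynomial.aeval (fun i : s => (i : X.residueField y)) (p : M) = 0 := by
      rw [← hres]
      exact (IsLocalRing.residue_eq_zero_iff _).2 h
    exact nonZeroDivisors.ne_zero p.2 ((injective_iff_map_eq_zero _).1 hs.1 _ h0)
  let Ku := FractionRing M
  let φ : Ku →+* R := IsLocalization.lift hunit
  obtain ⟨Ks, _, _, ι, ρ, hι, hρ⟩ := exists_sepClosed_factor φ
  -- the algebra structures
  let ζ : Ks →+* F := ((algebraMap (R ⧸ P) F).comp (Ideal.Quotient.mk P)).comp ρ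
  letI : Algebra Ku Ks := ι.toAlgebra
  haveI : Algebra.IsAlgebraic Ku Ks := ⟨fun z => IsIntegral.isAlgebraic (hι z)⟩
  letI : Algebra K Ks := (ι.comp (algebraMap K Ku)).toAlgebra
  haveI : IsScalarTower K Ku Ks := IsScalarTower.of_algebraMap_eq fun c => rfl
  letI : Algebra Ks F := ζ.toAlgebra
  letI := VarDim.resAlg f x
  letI : Algebra (X.residueField x) F := θ.toAlgebra
  letI : Algebra K F := (ζ.comp (algebraMap K Ks)).toAlgebra
  haveI : IsScalarTower K Ks F := IsScalarTower.of_algebraMap_eq fun c => rfl
  have hbase : ∀ c : K, ρ (ι (algebraMap K Ku c)) = algebraMap A R (baseToStalk f y c) := fun c => by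
    rw [show ρ (ι (algebraMap K Ku c)) = φ (algebraMap K Ku c) from
      congrArg (fun r : Ku →+* R => r (algebraMap K Ku c)) hρ,
      IsScalarTower.algebraMap_apply K M Ku, IsLocalization.lift_eq]
    show algebraMap A R (ev (MvPolynomial.C c)) = _
    congr 1
    exact MvPolynomial.aeval_C _ _
  haveI : IsScalarTower K (X.residueField x) F := IsScalarTower.of_algebraMap_eq fun c => by
    show ((algebraMap (R ⧸ P) F).comp (Ideal.Quotient.mk P)) (ρ (ι (algebraMap K Ku c))) = θ (VarDim.baseToRes f x c)
    rw [hbase, ← specMap_baseToStalk f x y hxy]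
    exact (hθ.1 (baseToStalk f y c)).symm
  haveI : Algebra.IsAlgebraic (X.residueField x) F := hθ.2
  have e1 := trdeg_add_eq K (X.residueField x) (A := F)
  rw [trdeg_eq_zero (R := X.residueField x), add_zero, VarDim.trdeg_residueField f x] at e1
  have e2 := trdeg_add_eq K Ku (A := Ks)
  rw [trdeg_eq_zero (R := Ku), add_zero] at e2
  haveI : Algebra.IsAlgebraic M Ku := IsLocalization.isAlgebraic _ (nonZeroDivisors _)
  have e3 := trdeg_add_eq K M (A := Ku)
  rw [trdeg_eq_zero (R := M), add_zero, MvPolynomial.trdeg_of_isDomain, hcard, Cardinal.lift_natCast] at e3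
  have e4 := trdeg_add_eq K Ks (A := F)
  rw [← e2, ← e3, ← e1] at e4
  have hfin : Algebra.trdeg Ks F < Cardinal.aleph0 :=
    (le_add_self.trans e4.le).trans_lt Cardinal.natCast_lt_aleph0
  obtain ⟨d, hd⟩ := Cardinal.lt_aleph0.1 hfin
  rw [hd, ← Nat.cast_add, Nat.cast_inj] at e4
  refine cdL_mono (cdL_trdeg d Ks F L 0 (fun G _ r hr => EtPic3.subsingleton_H_sepClosed Ks G hr) hd.le) ?_
  omega

variable [QuasiCompact f]

/-- `cd_L(X) ≤ 2 dim X + cd_L(K)`. -/
theorem cdL_two_dim {L : Set ℕ} {e : ℕ} (hK : CdL L (Spec (CommRingCat.of K)) e) (n : ℕ)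
    (hn : ∀ x : X, VarDim.sdim f x ≤ n) : CdL L X (2 * n + e) := by
  haveI : IsLocallyNoetherian X := LocallyOfFiniteType.isLocallyNoetherian f
  haveI : CompactSpace X := QuasiCompact.compactSpace_of_compactSpace f
  haveI : IsNoetherian X := ⟨⟩
  intro F hF q hq
  refine subsingleton_H_of_primary L q (fun p hp hpL G hG => ?_) F hF
  have hres : ∀ x : X, CdL {p} (Spec (X.residueField x)) (e + VarDim.sdim f x) := fun x =>
    cdL_residueField f (cdL_of_subset (Set.singleton_subset_iff.2 hpL) hK) x
  refine S3491.result X p hp (fun x => 2 * VarDim.sdim f x + e)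
    (fun x => (cdL_singleton_iff hp).1 (cdL_mono (hres x) (by omega)))
    (fun x y hxy hne R _ _ _ _ _ P hP => ⟨VarDim.sdim f x - VarDim.sdim f y, ?_,
      (cdL_singleton_iff hp).1 (cdL_residue_strict f {p} x y hxy R P hP)⟩) G hG q
    fun x _ => ?_
  · have := VarDim.sdim_lt_of_specializes f hxy hne
    omega
  · have := hn x
    omega

end Groth.Agent.CdField3
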