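import Groth.Agent.Lib.CdField3.Lef1
import Groth.Agent.Lib.CdField3.Sharp
import Groth.Agent.Lib.DimFn3.Supp
import Groth.Agent.Lib.VarDim.Alg
import Groth.Agent.Lib.EtStalk.IntegralUniv
import Groth.Agent.Lib.FibRank28.Main

/-!
# Affine Lefschetz: reductions
-/

set_option autoImplicit false
set_option linter.style.haveILetI false
set_option linter.unusedSectionVars false
set_option maxHeartbeats 1000000
set_option backward.isDefEq.respectTransparency false
set_option backward.isDefEq.respectTransparency.types false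

universe u

open CategoryTheory CategoryTheory.Limits AlgebraicGeometry TopologicalSpace Opposite CategoryTheory.Abelian

noncomputable section

namespace Groth.Agent.CdField3

open Groth.Agent

/-- Affine schemes of finite type of dimension at most `n` over separably closed fields have `cd ≤ n`. -/
def Lef (n : ℕ) : Prop :=
  ∀ (K : Type u) [Field K] [IsSepClosed K] (X : Scheme.{u}) [IsAffine X] (f : X ⟶ Spec (CommRingCat.of K))
    [LocallyOfFiniteType f], topologicalKrullDim X ≤ n → EtCoh.CohDimLE X n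

theorem lef_zero : Lef.{u} 0 := fun K _ _ X _ f _ hd =>
  cdL_univ_iff.1 (cdL_two_dim f (L := Set.univ) (e := 0) (fun G _ r hr => EtPic3.subsingleton_H_sepClosed K G hr) 0
    (sdim_le_of_dim f hd))

theorem lef_one : Lef.{u} 1 := fun K _ _ X _ f _ hd =>
  cohDimLE_affineCurve_sepClosed f (by exact_mod_cast hd)

theorem cohDimLE_mono {X : Scheme.{u}} {d d' : ℕ} (h : EtCoh.CohDimLE X d) (hd : d ≤ d') : EtCoh.CohDimLE X d' :=
  fun F hF q hq => h F hF q (lt_of_le_of_lt hd hq)

theorem cohDimLE_of_integralHom {X Y : Scheme.{u}} (π : X ⟶ Y) [IsIntegralHom π] {d : ℕ}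
    (h : EtCoh.CohDimLE Y d) : EtCoh.CohDimLE X d :=
  cdL_univ_iff.1 (cdL_integral π (cdL_univ_iff.2 h))

/-- It is enough to treat polynomial rings. -/
theorem lef_of_poly (n : ℕ) (h : ∀ (K : Type u) [Field K] [IsSepClosed K] (s : ℕ), s ≤ n →
    EtCoh.CohDimLE (Spec (CommRingCat.of (MvPolynomial (Fin s) K))) n) : Lef.{u} n := fun K _ _ X _ f _ hd => by
  let A : Type u := Γ(X, ⊤)
  letI : Algebra K A := (f.appTop.hom.comp (Scheme.ΓSpecIso (CommRingCat.of K)).inv.hom).toAlgebra
  haveI : Algebra.FiniteType K A := by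
    show (f.appTop.hom.comp (Scheme.ΓSpecIso (CommRingCat.of K)).inv.hom).FiniteType
    exact RingHom.FiniteType.comp ((HasRingHomProperty.iff_of_isAffine (P := @LocallyOfFiniteType)).1 ‹_›)
      (RingHom.FiniteType.of_surjective _ (Scheme.ΓSpecIso (CommRingCat.of K)).symm.commRingCatIsoToRingEquiv.surjective)
  have hA : ringKrullDim A ≤ n := by
    rw [← PrimeSpectrum.topologicalKrullDim_eq_ringKrullDim]
    exact (IsHomeomorph.topologicalKrullDim_eq _ X.isoSpec.hom.homeomorph.isHomeomorph).ge.trans hd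
  rcases subsingleton_or_nontrivial A with hs | hn
  · haveI : IsEmpty (Spec (CommRingCat.of A)) :=
      inferInstanceAs (IsEmpty (PrimeSpectrum A))
    haveI : IsEmpty X := Function.isEmpty X.isoSpec.hom
    intro F hF q hq
    have hz : IsZero F := (EtStalk.isZero_iff_stalk _).2 fun Ω _ _ ξ =>
      isEmptyElim (ξ (default : Spec (CommRingCat.of Ω)))
    refine subsingleton_of_forall_eq 0 fun c => ?_
    rw [← Ext.comp_mk₀_id c, hz.eq_of_src (𝟙 F) 0, Ext.mk₀_zero, Ext.comp_zero]
  obtain ⟨s, g, hg, hgfin⟩ := exists_finite_inj_algHom_of_fg K A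
  letI : Algebra (MvPolynomial (Fin s) K) A := g.toRingHom.toAlgebra
  haveI : Module.Finite (MvPolynomial (Fin s) K) A := hgfin
  haveI : FaithfulSMul (MvPolynomial (Fin s) K) A := (faithfulSMul_iff_algebraMap_injective _ _).mpr hg
  have hs : s ≤ n := by
    have h1 : ringKrullDim A = ringKrullDim (MvPolynomial (Fin s) K) :=
      VarDim.ringKrullDim_eq_of_isIntegral hg
    rw [h1, VarDim.ringKrullDim_mvPolynomial] at hA
    exact_mod_cast hA
  let π : X ⟶ Spec (CommRingCat.of (MvPolynomial (Fin s) K)) :=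
    X.isoSpec.hom ≫ Spec.map (CommRingCat.ofHom (algebraMap (MvPolynomial (Fin s) K) A))
  haveI : IsFinite (Spec.map (CommRingCat.ofHom (algebraMap (MvPolynomial (Fin s) K) A))) :=
    (IsFinite.SpecMap_iff _).2 (RingHom.finite_algebraMap.2 inferInstance)
  exact cohDimLE_of_integralHom π (h K s hs)

/-- The bound over arbitrary fields. -/
theorem Lef.field {n : ℕ} (h : Lef.{u} n) {K : Type u} [Field K] {X : Scheme.{u}} [IsAffine X]
    (f : X ⟶ Spec (CommRingCat.of K)) [LocallyOfFiniteType f] (e : ℕ) (hd : topologicalKrullDim X ≤ n)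
    (hK : EtCoh.CohDimLE (Spec (CommRingCat.of K)) e) : EtCoh.CohDimLE X (n + e) := fun F hF b hb => by
  refine subsingleton_H_of_sepClosed f n e hK F hF (fun Ks _ _ ι hι q hq => ?_) b hb
  let σ := Spec.map (CommRingCat.ofHom ι)
  haveI : IsIntegralHom σ := by rw [IsIntegralHom.SpecMap_iff]; exact hι
  let π := pullback.fst f σ
  haveI : IsIntegralHom π := MorphismProperty.pullback_fst _ _ inferInstance
  haveI : IsAffine (pullback f σ) := isAffine_of_isAffineHom π
  haveI : LocallyOfFiniteType (pullback.snd f σ) := MorphismProperty.pullback_snd _ _ inferInstance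
  exact h Ks _ (pullback.snd f σ) ((GrpdDim19.dim_le_of_isIntegralHom π).trans hd) _
    (FieldBr3.isTorsion_pull' π hF) q hq

theorem isTorsion_of_mono {X : Scheme.{u}} {A B : EtCoh.Ab X} (φ : A ⟶ B) [Mono φ] (hB : EtCoh.IsTorsion B) :
    EtCoh.IsTorsion A := fun U s x => by
  obtain ⟨V, g, hv, hfin⟩ := hB U (φ.hom.app (op U) s) x
  refine ⟨V, g, hv, ?_⟩
  haveI : Mono φ.hom := inferInstanceAs (Mono ((sheafToPresheaf _ _).map φ))
  have hinj : Function.Injective (φ.hom.app (op V)) := (AddCommGrpCat.mono_iff_injective _).1 inferInstance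
  rw [← NatTrans.naturality_apply φ.hom g.op s] at hfin
  exact (Function.Injective.isOfFinAddOrder_iff (f := (φ.hom.app (op V)).hom) hinj).1 hfin

/-- Sheaves supported on points of small transcendence degree, from the bound on affine schemes of that
dimension. -/
theorem subsingleton_H_supp {K : Type u} [Field K] {X : Scheme.{u}} [IsAffine X]
    (f : X ⟶ Spec (CommRingCat.of K)) [LocallyOfFiniteType f] (a c : ℕ)
    (hcd : ∀ (Z : Scheme.{u}) [IsAffine Z] (g : Z ⟶ Spec (CommRingCat.of K)) [LocallyOfFiniteType g],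
      topologicalKrullDim Z ≤ a → EtCoh.CohDimLE Z c)
    (F : EtCoh.Ab X) (hF : EtCoh.IsTorsion F)
    (hsupp : ∀ (Ω : Type u) [Field Ω] [IsSepClosed Ω] (ξ : Spec (CommRingCat.of Ω) ⟶ X),
      a < VarDim.sdim f (ξ (default : Spec (CommRingCat.of Ω))) → Subsingleton ((EtCoh.stalk ξ).obj F))
    (p : ℕ) (hp : c < p) : Subsingleton (EtCoh.H X F p) := by
  haveI : IsLocallyNoetherian X := LocallyOfFiniteType.isLocallyNoetherian f
  haveI : IsNoetherian X := ⟨⟩
  let E : Set X := {x | VarDim.sdim f x ≤ a}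
  have hE : StableUnderSpecialization E := fun x y hxy hx => by
    rcases eq_or_ne x y with rfl | hne
    · exact hx
    · exact le_trans (VarDim.sdim_lt_of_specializes f hxy hne).le hx
  have hs : DimFn3.SuppIn F E := fun Ω _ _ ξ hξ => hsupp Ω ξ (Nat.lt_of_not_le hξ)
  refine subsingleton_of_forall_eq 0 fun z => ?_
  obtain ⟨m, y, rfl⟩ := DimFn3.exists_closed_supp F hE hs z
  let G := kernel (DimFn3.cplMap F m)
  let I : X.IdealSheafData := Scheme.IdealSheafData.vanishingIdeal m.val.down
  let i := I.subschemeι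
  have hrange : Set.range i = (m.val.down : Set X) := by
    rw [Scheme.IdealSheafData.range_subschemeι, Scheme.IdealSheafData.coe_support_vanishingIdeal]
  haveI : IsAffine I.subscheme := isAffine_of_isAffineHom i
  have hdim : topologicalKrullDim I.subscheme ≤ a := by
    rw [VarDim.dim_eq_iSup_sdim (i ≫ f)]
    refine iSup_le fun w => ?_
    have h1 : VarDim.sdim (i ≫ f) w = VarDim.sdim f (i w) :=
      FibRank28.sdim_comp_of_quasiFiniteAt f i (i.quasiFiniteAt w)
    rw [h1]
    exact_mod_cast (m.le (show i w ∈ (m.val.down : Set X) from hrange ▸ ⟨w, rfl⟩) : VarDim.sdim f (i w) ≤ a)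
  have hsub : EtPBC.supp G ⊆ Set.range i := by
    rintro x ⟨Ω, _, _, ξ, hξ, hne⟩
    rw [hrange]
    by_contra hx
    refine hne (@AddCommGrpCat.isZero_of_subsingleton _ (DimFn3.suppIn_kernel F m Ω ξ ?_))
    rwa [show ξ (default : Spec (CommRingCat.of Ω)) = x from Set.eq_of_mem_singleton (hξ ▸ ⟨_, rfl⟩)]
  haveI := EtStalk.isIso_unit_integral i G hsub
  have hG : EtCoh.IsTorsion G := isTorsion_of_mono (kernel.ι _) hF
  haveI : Subsingleton (EtCoh.H I.subscheme ((EtCoh.pull i).obj G) p) :=
    hcd _ (i ≫ f) hdim _ (FieldBr3.isTorsion_pull' i hG) p hp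
  haveI : Subsingleton (EtCoh.H X G p) := by
    refine subsingleton_H_of_iso (asIso ((EtCoh.pullPushAdj i).unit.app G)).symm p ?_
    exact (FieldH25.bijective_HofPush_integral i _ p).1.subsingleton
  rw [Subsingleton.elim (α := EtCoh.H X G p) y 0, Ext.zero_comp]

/-- Cohomology of strictly local fibres, from étale schemes over a scheme through which they factor. -/
theorem subsingleton_H_strict {X Y X' : Scheme.{u}} (f : X ⟶ Y) [IsAffineHom f] (π' : X' ⟶ X) [IsAffineHom π']
    (d : ℕ) (hcd : ∀ (W : Scheme.{u}) [IsAffine W] (h : W ⟶ X') [AlgebraicGeometry.Etale h], EtCoh.CohDimLE W d)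
    (s : Y) (R : Type u) [CommRing R] [IsLocalRing R] [Algebra (Y.presheaf.stalk s) R]
    [IsLocalHom (algebraMap (Y.presheaf.stalk s) R)] [Hensel.IsStrictHenselization (Y.presheaf.stalk s) R]
    [IsSeparated π']
    (l : pullback f (Hens2.specOf Y s R) ⟶ X') (hl : l ≫ π' = pullback.fst f (Hens2.specOf Y s R))
    (G : EtCoh.Ab (pullback f (Hens2.specOf Y s R))) (hG : EtCoh.IsTorsion G) (q : ℕ) (hq : d < q) :
    Subsingleton (EtCoh.H (pullback f (Hens2.specOf Y s R)) G q) := by
  let σ := Hens2.specOf Y s R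
  haveI : HenselianLocalRing R := Hensel.IsStrictHenselization.henselian (R := Y.presheaf.stalk s)
  haveI := Hensel.IsStrictHenselization.isSepClosure (R := Y.presheaf.stalk s) (S := R)
  haveI : IsSepClosed (IsLocalRing.ResidueField R) :=
    IsSepClosure.sep_closed (IsLocalRing.ResidueField (Y.presheaf.stalk s))
  obtain ⟨T⟩ := StrictLim24.nonempty_strictSys Y s R
  let tb : T.Xs f ⟶ (Functor.const T.ιᵒᵖ).obj X := Descend.pbFst T.D T.t f
  let D₂ := Descend.pbDiagram (T.Xs f) tb π'
  let Z := pullback f σ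
  let p : Z ⟶ X := pullback.fst f σ
  let c₂ : Cone D₂ := Descend.pbCone (T.Xs f) tb π' (T.cone f) (q := p)
    (fun i => T.hb' f i.unop) (IsPullback.of_hasPullback π' p)
  have hc₂ : IsLimit c₂ := Descend.pbIsLimit (T.Xs f) tb π' (T.cone f) (q := p)
    (fun i => T.hb' f i.unop) (IsPullback.of_hasPullback π' p) (T.isLimit_cone f)
  haveI : ∀ {i j : T.ιᵒᵖ} (h : i ⟶ j), IsAffineHom (D₂.map h) := fun h =>
    MorphismProperty.of_isPullback (P := @IsAffineHom) (Descend.pbMap_isPullback (T.Xs f) tb π' h).flip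
      (T.isAffineHom_map f h)
  haveI : ∀ i, IsAffine ((T.Xs f).obj i) := fun i => by
    haveI : IsAffineHom (pullback.snd f (T.t.app i)) := MorphismProperty.pullback_snd (P := @IsAffineHom) _ _ inferInstance
    exact isAffine_of_isAffineHom (pullback.snd f (T.t.app i))
  haveI : ∀ i, IsAffine (D₂.obj i) := fun i => by
    haveI : IsAffineHom (pullback.snd π' (tb.app i)) := MorphismProperty.pullback_snd (P := @IsAffineHom) _ _ inferInstance
    exact isAffine_of_isAffineHom (pullback.snd π' (tb.app i))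
  have hstage : ∀ i, EtCoh.CohDimLE (D₂.obj i) d := fun i => by
    let h' : D₂.obj i ⟶ X' := pullback.fst π' (tb.app i)
    haveI : AlgebraicGeometry.Etale (tb.app i) := inferInstanceAs (AlgebraicGeometry.Etale (T.b f i.unop))
    haveI : AlgebraicGeometry.Etale h' := MorphismProperty.pullback_fst _ _ inferInstance
    exact hcd _ h'
  have hP : EtCoh.CohDimLE c₂.pt d := S0149.result D₂ c₂ hc₂ _ hstage
  let j : Z ⟶ pullback π' p := pullback.lift l (𝟙 Z) (by rw [hl, Category.id_comp])
  haveI : IsClosedImmersion j := by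
    haveI : IsClosedImmersion (j ≫ pullback.snd π' p) := by
      rw [pullback.lift_snd]
      infer_instance
    exact IsClosedImmersion.of_comp j (pullback.snd π' p)
  exact cohDimLE_of_integralHom j hP _ hG q hq

end Groth.Agent.CdField3
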