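import Groth.Agent.Lib.CdField3.LefStalk

/-!
# Affine Lefschetz: direct images of the affine line at non-closed points
-/

set_option autoImplicit false
set_option linter.style.haveILetI false
set_option linter.unusedSectionVars false
set_option maxHeartbeats 2000000
set_option synthInstance.maxHeartbeats 200000
set_option backward.isDefEq.respectTransparency false
set_option backward.isDefEq.respectTransparency.types false

universe u

open CategoryTheory CategoryTheory.Limits AlgebraicGeometry TopologicalSpace Opposite CategoryTheory.Abelian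
open MvPolynomial

noncomputable section

namespace Groth.Agent.CdField3

open Groth.Agent

/-- Residue fields of an affine scheme consist of fractions. -/
theorem exists_fraction_residueField (B : Type u) [CommRing B] (s : Spec (CommRingCat.of B))
    (z : (Spec (CommRingCat.of B)).residueField s) : ∃ a b : B,
    z = (((Spec (CommRingCat.of B)).residue s).hom.comp
        ((Scheme.ΓSpecIso (CommRingCat.of B)).inv ≫ (Spec (CommRingCat.of B)).presheaf.germ ⊤ s trivial).hom) a /
      (((Spec (CommRingCat.of B)).residue s).hom.comp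
        ((Scheme.ΓSpecIso (CommRingCat.of B)).inv ≫ (Spec (CommRingCat.of B)).presheaf.germ ⊤ s trivial).hom) b := by
  let e := Scheme.Spec.residueFieldIso (CommRingCat.of B) s
  let P : Ideal B := s.asIdeal
  obtain ⟨a, b, -, hab⟩ := IsFractionRing.div_surjective (A := B ⧸ P) (e.hom.hom z : P.ResidueField)
  obtain ⟨a, rfl⟩ := Ideal.Quotient.mk_surjective a
  obtain ⟨b, rfl⟩ := Ideal.Quotient.mk_surjective b
  refine ⟨a, b, ?_⟩
  have hθ := fun x : B => ConcreteCategory.congr_hom (Scheme.Spec.algebraMap_residueFieldIso_inv (CommRingCat.of B) s) x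
  have hz : e.inv (e.hom z) = z := e.hom_inv_id_apply z
  conv_lhs => rw [← hz, ← hab]
  rw [map_div₀]
  exact congrArg₂ (· / ·) (hθ a) (hθ b)

variable (K : Type u) [Field K] [IsSepClosed K] (m : ℕ)

/-- The stalks of the direct images of the affine line at points of positive transcendence degree. -/
theorem subsingleton_stalk_Rpush_line_pos (hm : ∀ k ≤ m, Lef.{u} k)
    (F : EtCoh.Ab (Spec (CommRingCat.of (MvPolynomial {j : Fin (1 + 1) // j ≠ 0} (MvPolynomial (Fin m) K)))))
    (hF : EtCoh.IsTorsion F) (i : ℕ) {Ω : Type u} [Field Ω] [IsSepClosed Ω]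
    (ξ : Spec (CommRingCat.of Ω) ⟶ Spec (CommRingCat.of (MvPolynomial (Fin m) K)))
    (t : ℕ) (ht : VarDim.sdim (Spec.map (CommRingCat.ofHom (C : K →+* MvPolynomial (Fin m) K)))
      (ξ (default : Spec (CommRingCat.of Ω))) = t) (ht1 : 1 ≤ t) (hi : m + 1 < t + i) :
    Subsingleton ((EtCoh.stalk ξ).obj ((EtCoh.Rpush (Spec.map (CommRingCat.ofHom
      (C : MvPolynomial (Fin m) K →+* MvPolynomial {j : Fin (1 + 1) // j ≠ 0} (MvPolynomial (Fin m) K)))) i).obj F)) := by
  classical
  let B := MvPolynomial (Fin m) K
  let A₀ := MvPolynomial {j : Fin (1 + 1) // j ≠ 0} B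
  let Y := Spec (CommRingCat.of B)
  let π : Spec (CommRingCat.of A₀) ⟶ Y := Spec.map (CommRingCat.ofHom (C : B →+* A₀))
  let bY : Y ⟶ Spec (CommRingCat.of K) := Spec.map (CommRingCat.ofHom (C : K →+* B))
  haveI : LocallyOfFiniteType bY := (HasRingHomProperty.Spec_iff (P := @LocallyOfFiniteType)).2
    (RingHom.finiteType_algebraMap.2 (inferInstanceAs (Algebra.FiniteType K (MvPolynomial (Fin m) K))))
  refine subsingleton_stalk_Rpush π F i ξ _ rfl fun R _ _ _ _ _ => ?_
  revert ht
  generalize hs : ξ (default : Spec (CommRingCat.of Ω)) = s at *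
  intro ht
  let γ : B →+* Y.presheaf.stalk s := ((Scheme.ΓSpecIso (CommRingCat.of B)).inv ≫ Y.presheaf.germ ⊤ s trivial).hom
  let θ : B →+* Y.residueField s := (Y.residue s).hom.comp γ
  letI : Algebra K (Y.residueField s) := VarDim.resAlg bY s
  have hbase : algebraMap K (Y.residueField s) = θ.comp C := by
    have h : (Scheme.ΓSpecIso (CommRingCat.of K)).inv ≫ bY.appTop =
        CommRingCat.ofHom (C : K →+* B) ≫ (Scheme.ΓSpecIso (CommRingCat.of B)).inv :=
      (Scheme.ΓSpecIso_inv_naturality (CommRingCat.ofHom (C : K →+* B))).symm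
    show ((Scheme.ΓSpecIso (CommRingCat.of K)).inv ≫ bY.appTop ≫ Y.Γevaluation s).hom = _
    rw [← Category.assoc, h]
    rfl
  have hfrac : ∀ z : Y.residueField s, ∃ a b : B, z = θ a / θ b := exists_fraction_residueField B s
  let v : Fin m → Y.residueField s := fun j => θ (X j)
  have hrange : ∀ f : B, θ f ∈ Algebra.adjoin K (Set.range v) := fun f => by
    induction f using MvPolynomial.induction_on with
    | C a =>
      rw [show θ (C a) = algebraMap K (Y.residueField s) a from (congrArg (fun r => r a) hbase).symm]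
      exact Subalgebra.algebraMap_mem _ a
    | add p q hp hq => rw [map_add]; exact add_mem hp hq
    | mul_X p j hp => rw [map_mul]; exact mul_mem hp (Algebra.subset_adjoin ⟨j, rfl⟩)
  haveI : Algebra.IsAlgebraic (Algebra.adjoin K (Set.range v)) (Y.residueField s) := ⟨fun z => by
    obtain ⟨a, b, rfl⟩ := hfrac z
    rw [div_eq_mul_inv]
    exact (isAlgebraic_algebraMap (⟨θ a, hrange a⟩ : Algebra.adjoin K (Set.range v))).mul
      (isAlgebraic_algebraMap (⟨θ b, hrange b⟩ : Algebra.adjoin K (Set.range v))).inv⟩
  obtain ⟨U, hU, hUb⟩ := exists_isTranscendenceBasis_subset (R := K) (Set.range v)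
  have hcard : Cardinal.mk U = (t : Cardinal) :=
    hUb.cardinalMk_eq_trdeg.trans ((VarDim.trdeg_residueField bY s).trans (by rw [ht]))
  choose idx hidx using fun x : U => hU x.2
  have hinj : Function.Injective idx := fun x y h => Subtype.ext (by rw [← hidx x, ← hidx y, h])
  let M := MvPolynomial U K
  let ψ : M →+* B := (MvPolynomial.rename idx).toRingHom
  let σ := Hens2.specOf Y s R
  let hB : B →+* R := (Spec.preimage σ).hom
  have hBγ : hB = (algebraMap (Y.presheaf.stalk s) R).comp γ := by
    have h : Spec.preimage σ = ((Scheme.ΓSpecIso (CommRingCat.of B)).inv ≫ Y.presheaf.germ ⊤ s trivial) ≫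
        CommRingCat.ofHom (algebraMap (Y.presheaf.stalk s) R) := by
      refine Spec.map_injective ?_
      rw [Spec.map_preimage, Spec.map_comp]
      show Hens2.specOf Y s R = _
      rw [Hens2.specOf, Spec.fromSpecStalk_eq]
    show (Spec.preimage σ).hom = _
    rw [h]
    rfl
  have hθψ : ∀ p : M, θ (ψ p) = aeval (fun x : U => (x : Y.residueField s)) p := by
    intro p
    show (θ.comp ψ) p = (aeval fun x : U => (x : Y.residueField s)).toRingHom p
    congr 1
    refine MvPolynomial.ringHom_ext (fun c => ?_) fun x => ?_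
    · show θ (MvPolynomial.rename idx (C c)) = aeval _ (C c)
      rw [rename_C, aeval_C]
      exact (congrArg (fun r => r c) hbase).symm
    · show θ (MvPolynomial.rename idx (X x)) = aeval _ (X x)
      rw [rename_X, aeval_X]
      exact hidx x
  have hunit : ∀ p : nonZeroDivisors M, IsUnit ((hB.comp ψ) p) := fun p => by
    show IsUnit (hB (ψ p))
    rw [hBγ]
    refine IsUnit.map (algebraMap (Y.presheaf.stalk s) R) ?_
    by_contra h
    have h0 : θ (ψ p) = 0 := (IsLocalRing.residue_eq_zero_iff _).2 h
    rw [hθψ] at h0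
    exact nonZeroDivisors.ne_zero p.2 ((injective_iff_map_eq_zero _).1 hUb.1 _ h0)
  let Ku := FractionRing M
  let φ : Ku →+* R := IsLocalization.lift hunit
  haveI : HenselianLocalRing R := Hensel.IsStrictHenselization.henselian (R := Y.presheaf.stalk s)
  haveI := Hensel.IsStrictHenselization.isSepClosure (R := Y.presheaf.stalk s) (S := R)
  haveI : IsSepClosed (IsLocalRing.ResidueField R) :=
    IsSepClosure.sep_closed (IsLocalRing.ResidueField (Y.presheaf.stalk s))
  obtain ⟨Ks, _, _, ι, ρ, -, hρ⟩ := exists_sepClosed_factor φ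
  let rest := {j : Fin m // j ∉ Set.range idx}
  let B' := MvPolynomial rest Ks
  let ιB : B →+* B' := eval₂Hom ((C : Ks →+* B').comp (ι.comp (algebraMap K Ku))) fun j =>
    if h : j ∈ Set.range idx then C (ι (algebraMap M Ku (X h.choose))) else X ⟨j, h⟩
  let A' := MvPolynomial {j : Fin (1 + 1) // j ≠ 0} B'
  let α : A₀ →+* A' := MvPolynomial.map ιB
  let π' : Spec (CommRingCat.of A') ⟶ Spec (CommRingCat.of A₀) := Spec.map (CommRingCat.ofHom α)
  let Z := pullback π σ
  let ψR : R →+* Γ(Z, ⊤) := homToGlobal (pullback.snd π σ)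
  let g := pullback.fst π σ
  have hgC : (homToGlobal g).comp (C : B →+* A₀) = ψR.comp hB := by
    have h : g ≫ π = pullback.snd π σ ≫ Spec.map (CommRingCat.ofHom hB) := by
      rw [show Spec.map (CommRingCat.ofHom hB) = σ from Spec.map_preimage σ]
      exact pullback.condition
    have h' := congrArg homToGlobal h
    rw [homToGlobal_comp_SpecMap, homToGlobal_comp_SpecMap] at h'
    exact h'
  let εB : B' →+* Γ(Z, ⊤) := eval₂Hom (ψR.comp ρ) fun j => ψR (hB (X j.1))
  let ε : A' →+* Γ(Z, ⊤) := eval₂Hom εB fun j => homToGlobal g (X j)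
  let l : Z ⟶ Spec (CommRingCat.of A') := toSpecOf Z (A := CommRingCat.of A') ε
  have hφ : ∀ p : M, ρ (ι (algebraMap M Ku p)) = hB (ψ p) := fun p => by
    rw [show ρ (ι (algebraMap M Ku p)) = φ (algebraMap M Ku p) from congrArg (fun r : Ku →+* R => r _) hρ]
    exact IsLocalization.lift_eq hunit p
  have hl : l ≫ π' = g := by
    refine eq_of_homToGlobal ?_
    rw [homToGlobal_comp_SpecMap, homToGlobal_toSpecOf]
    show ε.comp α = homToGlobal g
    refine MvPolynomial.ringHom_ext (fun p => ?_) fun j => ?_
    · show ε (α (C p)) = ((homToGlobal g).comp (C : B →+* A₀)) p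
      rw [hgC, show α (C p) = C (ιB p) from MvPolynomial.map_C _ _, eval₂Hom_C]
      show (εB.comp ιB) p = (ψR.comp hB) p
      congr 1
      refine MvPolynomial.ringHom_ext (fun c => ?_) fun j => ?_
      · show εB (ιB (C c)) = ψR (hB (C c))
        rw [eval₂Hom_C]
        show εB (C (ι (algebraMap K Ku c))) = _
        rw [eval₂Hom_C, IsScalarTower.algebraMap_apply K M Ku]
        show ψR (ρ (ι (algebraMap M Ku (algebraMap K M c)))) = _
        rw [hφ, MvPolynomial.algebraMap_eq]
        show ψR (hB (MvPolynomial.rename idx (C c))) = _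
        rw [rename_C]
      · show εB (ιB (X j)) = ψR (hB (X j))
        rw [eval₂Hom_X']
        by_cases h : j ∈ Set.range idx
        · rw [dif_pos h, eval₂Hom_C]
          show ψR (ρ (ι (algebraMap M Ku (X h.choose)))) = _
          rw [hφ]
          show ψR (hB (MvPolynomial.rename idx (X h.choose))) = _
          rw [rename_X, h.choose_spec]
        · rw [dif_neg h, eval₂Hom_X']
    · show ε (α (X j)) = homToGlobal g (X j)
      rw [show α (X j) = X j from MvPolynomial.map_X _ _, eval₂Hom_X']
  haveI : Finite U := Finite.of_injective idx hinj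
  have hUt : Nat.card U = t := by rw [Nat.card, hcard, Cardinal.toNat_natCast]
  have hrest : Nat.card rest + t = m := by
    have h1 := Nat.card_congr (Equiv.sumCompl fun j : Fin m => j ∈ Set.range idx)
    rw [Nat.card_sum, Nat.card_fin] at h1
    have h2 : Nat.card {j : Fin m // j ∈ Set.range idx} = t := by
      rw [← hUt]
      exact Nat.card_range_of_injective hinj
    show Nat.card {j : Fin m // j ∉ Set.range idx} + t = m
    omega
  haveI : IsAffineHom π := inferInstance
  refine subsingleton_H_strict π π' (Nat.card rest + 1) (fun W _ h _ => ?_) s R l hl _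
    (FieldBr3.isTorsion_pull' _ hF) i (by omega)
  let a : Spec (CommRingCat.of A') ⟶ Spec (CommRingCat.of Ks) :=
    Spec.map (CommRingCat.ofHom ((C : B' →+* A').comp (C : Ks →+* B')))
  haveI : LocallyOfFiniteType a := (HasRingHomProperty.Spec_iff (P := @LocallyOfFiniteType)).2 (by
    exact RingHom.FiniteType.comp (RingHom.finiteType_algebraMap.2 (inferInstanceAs (Algebra.FiniteType B' A')))
      (RingHom.finiteType_algebraMap.2 (inferInstanceAs (Algebra.FiniteType Ks B'))))
  haveI : LocallyQuasiFinite h := FiniteSplit.locallyQuasiFinite_of_etale h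
  refine hm _ (by omega) Ks W (h ≫ a) ((AlgSpDecent.topologicalKrullDim_le_of_lqf h).trans ?_)
  refine (PrimeSpectrum.topologicalKrullDim_eq_ringKrullDim A').trans_le ?_
  rw [MvPolynomial.ringKrullDim_of_isNoetherianRing, MvPolynomial.ringKrullDim_of_isNoetherianRing,
    ringKrullDim_eq_zero_of_field, zero_add]
  have hc : Nat.card {j : Fin (1 + 1) // j ≠ 0} = 1 := by simp
  rw [hc]
  push_cast
  exact le_rfl

end Groth.Agent.CdField3
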