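import Groth.Agent.Lib.CdField3.LefLine
import Groth.Agent.Lib.CdField3.ComposeR
import Groth.Agent.Lib.EtColim.Torsion
import Groth.Agent.S0073
import Groth.Agent.S0101

/-!
# Affine Lefschetz: higher direct images of the affine line in high degrees
-/

set_option autoImplicit false
set_option linter.style.haveILetI false
set_option linter.unusedSectionVars false
set_option maxHeartbeats 2000000
set_option synthInstance.maxHeartbeats 200000
set_option backward.isDefEq.respectTransparency false
set_option backward.isDefEq.respectTransparency.types false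

universe u

open CategoryTheory CategoryTheory.Limits AlgebraicGeometry TopologicalSpace Opposite CategoryTheory.Abelian
open MvPolynomial

noncomputable section

namespace Groth.Agent.CdField3

open Groth.Agent

/-- Higher direct images along an open immersion vanish on it. -/
theorem subsingleton_stalk_Rpush_openImm {X Y : Scheme.{u}} (j : X ⟶ Y) [IsOpenImmersion j] [QuasiCompact j]
    (F : EtCoh.Ab X) (hF : EtCoh.IsTorsion F) {b : ℕ} (hb : 0 < b) {Ω : Type u} [Field Ω] [IsSepClosed Ω]
    (ξ : Spec (CommRingCat.of Ω) ⟶ Y) (hξ : ξ (default : Spec (CommRingCat.of Ω)) ∈ Set.range j) :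
    Subsingleton ((EtCoh.stalk ξ).obj ((EtCoh.Rpush j b).obj F)) := by
  refine subsingleton_stalk_Rpush j F b ξ (ξ (default : Spec (CommRingCat.of Ω))) rfl fun R _ _ _ _ _ => ?_
  let σ := Hens2.specOf Y (ξ (default : Spec (CommRingCat.of Ω))) R
  haveI : HenselianLocalRing R :=
    Hensel.IsStrictHenselization.henselian (R := Y.presheaf.stalk (ξ (default : Spec (CommRingCat.of Ω))))
  haveI := Hensel.IsStrictHenselization.isSepClosure
    (R := Y.presheaf.stalk (ξ (default : Spec (CommRingCat.of Ω)))) (S := R)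
  haveI : IsSepClosed (IsLocalRing.ResidueField R) :=
    IsSepClosure.sep_closed (IsLocalRing.ResidueField (Y.presheaf.stalk (ξ (default : Spec (CommRingCat.of Ω)))))
  have hsub : Set.range σ ⊆ Set.range j := by
    refine (BcMapQ6.range_specOf_subset j.opensRange hξ).trans ?_
    rintro _ ⟨a, rfl⟩
    exact a.2
  haveI : Surjective (pullback.snd j σ) := ⟨fun a => by
    obtain ⟨x, hx⟩ := hsub ⟨a, rfl⟩
    obtain ⟨p, -, hp⟩ := Scheme.Pullback.exists_preimage_pullback (f := j) (g := σ) x a hx
    exact ⟨p, hp⟩⟩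
  haveI : IsIso (pullback.snd j σ) := isIso_of_isOpenImmersion_of_opensRange_eq_top _ (by
    ext a; simpa using (pullback.snd j σ).surjective a)
  refine cohDimLE_of_integralHom (pullback.snd j σ) (d := 0) (fun G _ r hr => S0073.result R G r hr) _
    (FieldBr3.isTorsion_pull' _ hF) b hb

variable (K : Type u) [Field K] [IsSepClosed K] (m : ℕ)

/-- Above degree `m + 1` the direct images of the affine line over affine `m`-space vanish. -/
theorem isZero_Rpush_line_high (hm1 : 1 ≤ m) (hm : Lef.{u} m)
    (F : EtCoh.Ab (Spec (CommRingCat.of (MvPolynomial {j : Fin (1 + 1) // j ≠ 0} (MvPolynomial (Fin m) K)))))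
    (hF : EtCoh.IsTorsion F) (q : ℕ) (hq : m + 1 < q) :
    IsZero ((EtCoh.Rpush (ProjSpace.chart 1 (MvPolynomial (Fin m) K) 0 ≫
      CohB1.ProjSpace.toSpec 1 (MvPolynomial (Fin m) K)) q).obj F) := by
  let B := MvPolynomial (Fin m) K
  let ch₀ := ProjSpace.chart 1 B 0
  let tP := CohB1.ProjSpace.toSpec 1 B
  haveI : IsAffineHom ch₀ := isAffineHom_chart K m
  haveI : PreservesFiniteLimits (EtCoh.pull ch₀) := S0101.result _
  refine isZero_Rpush_compose ch₀ tP q F fun b a hab => ?_
  let G' := (EtCoh.Rpush ch₀ b).obj F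
  have hG' : EtCoh.IsTorsion G' := EtColim.isTorsion_Rpush ch₀ hF b
  refine isZero_of_stalks fun Ω _ _ ξ => subsingleton_stalk_Rpush tP G' a ξ _ rfl fun R _ _ _ _ _ => ?_
  generalize ξ (default : Spec (CommRingCat.of Ω)) = s at *
  haveI : HenselianLocalRing R := Hensel.IsStrictHenselization.henselian (R := (Spec (CommRingCat.of B)).presheaf.stalk s)
  haveI := Hensel.IsStrictHenselization.isSepClosure (R := (Spec (CommRingCat.of B)).presheaf.stalk s) (S := R)
  haveI : IsSepClosed (IsLocalRing.ResidueField R) :=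
    IsSepClosure.sep_closed (IsLocalRing.ResidueField ((Spec (CommRingCat.of B)).presheaf.stalk s))
  let σ := Hens2.specOf (Spec (CommRingCat.of B)) s R
  let hB : B →+* R := (Spec.preimage σ).hom
  have hσ : Spec.map (CommRingCat.ofHom hB) = σ := Spec.map_preimage σ
  have sq : IsPullback (ProjSpace.map 1 hB) (CohB1.ProjSpace.toSpec 1 R) tP σ := hσ ▸ ProjSpace.isPullback_map 1 hB
  let e := sq.isoPullback
  let v := pullback.snd tP σ
  have hev : e.hom ≫ v = CohB1.ProjSpace.toSpec 1 R := sq.isoPullback_hom_snd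
  have hev' : e.inv ≫ CohB1.ProjSpace.toSpec 1 R = v := by rw [← hev, e.inv_hom_id_assoc]
  have hcl : PBC24.ClCompN v := ((PBC24.clCompN_projLine R).of_iso (ProjSpace.overSpecIso 1 R)
    (ProjSpace.overSpecIso_hom_toBase 1 R)).of_iso e.symm hev'
  let c := PBC24.closedIncl v
  haveI : IsClosedImmersion c := inferInstanceAs (IsClosedImmersion (pullback.fst _ _))
  haveI : PreservesFiniteLimits (EtCoh.pull c) := EtStalk.preservesFiniteLimits_pull _
  have hG : EtCoh.IsTorsion ((EtCoh.pull (pullback.fst tP σ)).obj G') := FieldBr3.isTorsion_pull' _ hG'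
  let G₀ := (EtCoh.pull c).obj ((EtCoh.pull (pullback.fst tP σ)).obj G')
  suffices h : Subsingleton (EtCoh.H _ G₀ a) from (hcl.bijective hG a).1.subsingleton
  let P₀ := pullback v (Spec.map (CommRingCat.ofHom (IsLocalRing.residue R)))
  let f₀ : P₀ ⟶ Spec (CommRingCat.of (IsLocalRing.ResidueField R)) := pullback.snd _ _
  haveI : IsProper v := MorphismProperty.pullback_snd _ _ (ProjSpace.isProper_toSpec 1 B)
  haveI : IsProper f₀ := MorphismProperty.pullback_snd _ _ inferInstance
  have hd : topologicalKrullDim P₀ ≤ 1 := by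
    let p : pullback tP σ ⟶ CohB1.ProjSpaceOver 1 (Spec (CommRingCat.of R)) :=
      e.inv ≫ (ProjSpace.overSpecIso 1 R).hom
    have hp : p ≫ CohB1.ProjSpaceOver.toBase 1 (Spec (CommRingCat.of R)) = v := by
      rw [Category.assoc, ProjSpace.overSpecIso_hom_toBase, hev']
    have h := PBC24.dim_closedFibre_le_one p
    rw [hp] at h
    exact h
  rcases Nat.eq_zero_or_pos b with rfl | hb
  · exact PBC24.subsingleton_H_curve_sepClosed f₀ hd G₀ (FieldBr3.isTorsion_pull' _ hG) (by omega)
  -- the points outside the first chart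
  have hpre : ∀ y : CohB1.ProjSpace 1 R,
      ProjSpace.map 1 hB y ∈ Set.range ch₀ ↔ y ∈ Set.range (ProjSpace.chart 1 R 0) := by
    intro y
    show ProjSpace.map 1 hB y ∈ ch₀.opensRange ↔ y ∈ (ProjSpace.chart 1 R 0).opensRange
    rw [ProjSpace.opensRange_chart, ProjSpace.opensRange_chart]
    show y ∈ ProjSpace.map 1 hB ⁻¹ᵁ Proj.basicOpen (CohB1.polyGrading 1 B) (X 0) ↔ _
    erw [Proj.map_preimage_basicOpen, ProjSpace.mapHom_X]
  have hone : ∀ x x' : P₀, pullback.fst tP σ (c x) ∉ Set.range ch₀ →
      pullback.fst tP σ (c x') ∉ Set.range ch₀ → x = x' := by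
    intro x x' hx hx'
    have hfst : ∀ y, pullback.fst tP σ y = ProjSpace.map 1 hB (e.inv y) := fun y => by
      rw [← Scheme.Hom.comp_apply, sq.isoPullback_inv_fst]
    rw [hfst, hpre] at hx hx'
    have hts : ∀ y, CohB1.ProjSpace.toSpec 1 R (e.inv (c y)) = IsLocalRing.closedPoint R := fun y => by
      rw [← Scheme.Hom.comp_apply e.inv, hev']
      exact (PBC24.range_closedIncl v).le ⟨y, rfl⟩
    exact c.isClosedEmbedding.injective (e.inv.homeomorph.injective
      (eq_of_not_mem_range R hx hx' ((hts x).trans (hts x').symm)))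
  have hstalk : ∀ (Ω' : Type u) [Field Ω'] [IsSepClosed Ω'] (η : Spec (CommRingCat.of Ω') ⟶ P₀),
      (pullback.fst tP σ (c (η (default : Spec (CommRingCat.of Ω')))) ∉ Set.range ch₀ → m + 1 < b) →
      Subsingleton ((EtCoh.stalk η).obj G₀) := by
    intro Ω' _ _ η hcase
    let z := pullback.fst tP σ (c (η (default : Spec (CommRingCat.of Ω'))))
    haveI h1 : Subsingleton ((EtCoh.stalk ((η ≫ c) ≫ pullback.fst tP σ)).obj G') := by
      by_cases hz : z ∈ Set.range ch₀
      · exact subsingleton_stalk_Rpush_openImm ch₀ F hF hb _ hz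
      · exact subsingleton_stalk_Rpush_chart K m hm z hz F hF b (hcase hz) _ rfl
    haveI h2 : Subsingleton ((EtCoh.stalk (η ≫ c)).obj ((EtCoh.pull (pullback.fst tP σ)).obj G')) :=
      (ConcreteCategory.bijective_of_isIso (EtStalk.stalkPull (pullback.fst tP σ) (η ≫ c) G')).2.subsingleton
    exact (ConcreteCategory.bijective_of_isIso (EtStalk.stalkPull c η _)).2.subsingleton
  rcases Nat.eq_zero_or_pos a with rfl | ha
  · have hz : IsZero G₀ := isZero_of_stalks fun Ω' _ _ η => hstalk Ω' η fun _ => by omega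
    refine subsingleton_of_forall_eq 0 fun x => ?_
    rw [← Ext.comp_mk₀_id x, hz.eq_of_src (𝟙 G₀) 0, Ext.mk₀_zero, Ext.comp_zero]
  refine FieldBr3.subsingleton_H_suppClosed f₀ G₀ (fun Ω' _ _ η hη => hstalk Ω' η fun hz => ?_) ha
  refine absurd ?_ hη
  have hset : ({η (default : Spec (CommRingCat.of Ω'))} : Set P₀) =
      (fun x => pullback.fst tP σ (c x)) ⁻¹' (Set.range ch₀)ᶜ :=
    Set.ext fun x => ⟨fun h => h ▸ hz, fun h => hone x _ h hz⟩
  rw [hset]
  exact ch₀.opensRange.isOpen.isClosed_compl.preimage ((pullback.fst tP σ).continuous.comp c.continuous)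

end Groth.Agent.CdField3
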