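import Groth.Agent.Lib.CdField3.LefStalk
import Groth.Agent.Lib.ProjSpace.BaseChange
import Groth.Agent.Lib.PBC24.ProjLine
import Groth.Agent.Lib.PBC24.Props
import Groth.Agent.Lib.BcMapQ6.Ingredients

/-!
# Affine Lefschetz: the projective line over a polynomial ring
-/

set_option autoImplicit false
set_option linter.style.haveILetI false
set_option linter.unusedSectionVars false
set_option maxHeartbeats 2000000
set_option synthInstance.maxHeartbeats 200000
set_option backward.isDefEq.respectTransparency false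
set_option backward.isDefEq.respectTransparency.types false

universe u

open CategoryTheory CategoryTheory.Limits AlgebraicGeometry TopologicalSpace Opposite CategoryTheory.Abelian
open MvPolynomial

noncomputable section

namespace Groth.Agent.CdField3

open Groth.Agent

theorem idx_one (i : {j : Fin (1 + 1) // j ≠ 1}) : i = ⟨0, by decide⟩ := by
  obtain ⟨⟨v, hv⟩, hi⟩ := i
  refine Subtype.ext (Fin.ext ?_)
  have h1 : v ≠ 1 := fun h => hi (Fin.ext h)
  show v = 0
  omega

variable (B : Type u) [CommRing B]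

/-- The coordinate at infinity. -/
def sVar : MvPolynomial {j : Fin (1 + 1) // j ≠ 1} B := MvPolynomial.X ⟨0, by decide⟩

theorem preimage_chart_zero :
    (ProjSpace.chart 1 B 1) ⁻¹ᵁ (ProjSpace.chart 1 B 0).opensRange = PrimeSpectrum.basicOpen (sVar B) := by
  rw [ProjSpace.opensRange_chart]
  show (Spec.map (CommRingCat.ofHom (ProjSpace.chartEquiv B 1).symm.toRingHom) ≫
    Proj.awayι (CohB1.polyGrading 1 B) (MvPolynomial.X 1) (ProjSpace.X_mem' 1 B 1) Nat.one_pos) ⁻¹ᵁ _ = _
  rw [Scheme.Hom.comp_preimage, Proj.awayι_preimage_basicOpen (g_deg := ProjSpace.X_mem' 1 B 0) (hm' := Nat.one_pos)]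
  have h : (ProjSpace.chartEquiv B (1 : Fin (1 + 1))).symm.toRingHom
      (HomogeneousLocalization.Away.isLocalizationElem (ProjSpace.X_mem' 1 B 1) (ProjSpace.X_mem' 1 B 0)) = sVar B := by
    show (ProjSpace.chartEquiv B (1 : Fin (1 + 1))).symm _ = _
    rw [RingEquiv.symm_apply_eq, ProjSpace.chartEquiv_apply, sVar, ProjSpace.toAway_X, ProjSpace.coord_eq_mk]
    refine HomogeneousLocalization.val_injective _ ?_
    simp only [HomogeneousLocalization.Away.isLocalizationElem, HomogeneousLocalization.Away.val_mk, pow_one]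
  rw [← h]
  rfl

theorem mem_range_chart_zero (w : Spec (CommRingCat.of (MvPolynomial {j : Fin (1 + 1) // j ≠ 1} B))) :
    ProjSpace.chart 1 B 1 w ∈ Set.range (ProjSpace.chart 1 B 0) ↔ sVar B ∉ w.asIdeal := by
  have h := congrArg (fun O : (Spec (CommRingCat.of (MvPolynomial {j : Fin (1 + 1) // j ≠ 1} B))).Opens => w ∈ O)
    (preimage_chart_zero B)
  exact (iff_of_eq h)

theorem exists_of_not_mem_range {z : CohB1.ProjSpace 1 B} (hz : z ∉ Set.range (ProjSpace.chart 1 B 0)) :
    ∃ w, ProjSpace.chart 1 B 1 w = z ∧ sVar B ∈ w.asIdeal := by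
  obtain ⟨i, hi⟩ := ProjSpace.exists_mem_chart 1 B z
  fin_cases i
  · exact absurd hi hz
  · obtain ⟨w, rfl⟩ := hi
    exact ⟨w, rfl, Classical.not_not.1 fun h => hz ((mem_range_chart_zero B w).2 h)⟩

/-- Outside the first chart each fibre has one point. -/
theorem eq_of_not_mem_range {z z' : CohB1.ProjSpace 1 B} (hz : z ∉ Set.range (ProjSpace.chart 1 B 0))
    (hz' : z' ∉ Set.range (ProjSpace.chart 1 B 0))
    (h : CohB1.ProjSpace.toSpec 1 B z = CohB1.ProjSpace.toSpec 1 B z') : z = z' := by
  obtain ⟨w, rfl, hw⟩ := exists_of_not_mem_range B hz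
  obtain ⟨w', rfl, hw'⟩ := exists_of_not_mem_range B hz'
  rw [← Scheme.Hom.comp_apply, ← Scheme.Hom.comp_apply, ProjSpace.chart_toSpec] at h
  have hc : w.asIdeal.comap C = w'.asIdeal.comap C := congrArg PrimeSpectrum.asIdeal h
  congr 1
  refine PrimeSpectrum.ext ?_
  have key : ∀ (v : Spec (CommRingCat.of (MvPolynomial {j : Fin (1 + 1) // j ≠ 1} B))), sVar B ∈ v.asIdeal →
      ∀ f, f ∈ v.asIdeal ↔ constantCoeff f ∈ v.asIdeal.comap C := by
    intro v hv f
    have hf : f - C (constantCoeff f) ∈ v.asIdeal := by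
      induction f using MvPolynomial.induction_on with
      | C a => simp
      | add p q hp hq =>
        rw [map_add, map_add, show p + q - (C (constantCoeff p) + C (constantCoeff q)) =
          (p - C (constantCoeff p)) + (q - C (constantCoeff q)) by ring]
        exact add_mem hp hq
      | mul_X p i _ =>
        have hi := idx_one i
        rw [map_mul, constantCoeff_X, mul_zero, map_zero, sub_zero, hi]
        exact Ideal.mul_mem_left _ p hv
    rw [Ideal.mem_comap]
    constructor
    · intro h1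
      have := sub_mem h1 hf
      rwa [sub_sub_cancel] at this
    · intro h1
      have := add_mem hf h1
      rwa [sub_add_cancel] at this
  ext f
  rw [key w hw, key w' hw', hc]

section Infinity

variable (K : Type u) [Field K] [IsSepClosed K] (m : ℕ)

instance isAffineHom_chart : IsAffineHom (ProjSpace.chart 1 (MvPolynomial (Fin m) K) 0) := by
  haveI : IsSeparated (CohB1.ProjSpace.toSpec 1 (MvPolynomial (Fin m) K)) := inferInstance
  exact MorphismProperty.of_postcomp (W := @IsAffineHom) (W' := @IsSeparated) _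
    (CohB1.ProjSpace.toSpec 1 (MvPolynomial (Fin m) K)) inferInstance
    (by rw [ProjSpace.chart_toSpec]; infer_instance)

/-- The strictly local fibres at infinity of the affine line. -/
theorem subsingleton_stalk_Rpush_chart (hm : Lef.{u} m) (z : CohB1.ProjSpace 1 (MvPolynomial (Fin m) K))
    (hz : z ∉ Set.range (ProjSpace.chart 1 (MvPolynomial (Fin m) K) 0))
    (F : EtCoh.Ab (Spec (CommRingCat.of (MvPolynomial {j : Fin (1 + 1) // j ≠ 0} (MvPolynomial (Fin m) K)))))
    (hF : EtCoh.IsTorsion F) (b : ℕ) (hb : m + 1 < b)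
    {Ω : Type u} [Field Ω] [IsSepClosed Ω] (ξ : Spec (CommRingCat.of Ω) ⟶ CohB1.ProjSpace 1 (MvPolynomial (Fin m) K))
    (hξ : ξ (default : Spec (CommRingCat.of Ω)) = z) :
    Subsingleton ((EtCoh.stalk ξ).obj ((EtCoh.Rpush (ProjSpace.chart 1 (MvPolynomial (Fin m) K) 0) b).obj F)) := by
  let B := MvPolynomial (Fin m) K
  let A₁ := MvPolynomial {j : Fin (1 + 1) // j ≠ 1} B
  let ch₀ := ProjSpace.chart 1 B 0
  let ch₁ := ProjSpace.chart 1 B 1
  obtain ⟨w, hw, hwS⟩ := exists_of_not_mem_range B hz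
  refine subsingleton_stalk_Rpush ch₀ F b ξ z hξ fun R _ _ _ _ _ => ?_
  let σ := Hens2.specOf (CohB1.ProjSpace 1 B) z R
  let L := FractionRing (Polynomial K)
  let B' := MvPolynomial (Fin m) L
  let ι : B →+* B' := MvPolynomial.map (algebraMap K L)
  let sL : L := algebraMap (Polynomial K) L Polynomial.X
  have hsL : sL ≠ 0 := fun h => Polynomial.X_ne_zero ((injective_iff_map_eq_zero _).1
    (IsFractionRing.injective (Polynomial K) L) _ h)
  let α : A₁ →+* B' := eval₂Hom ι fun _ => C sL
  let π₁ : Spec (CommRingCat.of B') ⟶ CohB1.ProjSpace 1 B := Spec.map (CommRingCat.ofHom α) ≫ ch₁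
  have hπ₁ : Set.range π₁ ⊆ Set.range ch₀ := by
    rintro _ ⟨v, rfl⟩
    rw [Scheme.Hom.comp_apply, mem_range_chart_zero]
    intro h
    have h' : α (sVar B) ∈ v.asIdeal := h
    rw [show α (sVar B) = C sL from eval₂Hom_X' _ _ _] at h'
    exact v.isPrime.ne_top (Ideal.eq_top_of_isUnit_mem _ h' ((isUnit_iff_ne_zero.2 hsL).map C))
  let π' : Spec (CommRingCat.of B') ⟶ _ := IsOpenImmersion.lift ch₀ π₁ hπ₁
  have hπ' : π' ≫ ch₀ = π₁ := IsOpenImmersion.lift_fac _ _ _
  -- the strict localisation factors through the second chart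
  have hσ : Set.range σ ⊆ Set.range ch₁ := by
    refine (BcMapQ6.range_specOf_subset ch₁.opensRange ⟨w, hw⟩).trans ?_
    rintro _ ⟨a, rfl⟩
    exact a.2
  let σ₁ : Spec (CommRingCat.of R) ⟶ Spec (CommRingCat.of A₁) := IsOpenImmersion.lift ch₁ σ hσ
  have hσ₁ : σ₁ ≫ ch₁ = σ := IsOpenImmersion.lift_fac _ _ _
  let β : A₁ →+* R := (Spec.preimage σ₁).hom
  have hβ : Spec.map (CommRingCat.ofHom β) = σ₁ := Spec.map_preimage σ₁
  have hclosed : σ₁ (IsLocalRing.closedPoint R) = w := by
    refine ch₁.isOpenEmbedding.injective ?_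
    rw [← Scheme.Hom.comp_apply, hσ₁, hw]
    exact LocAcyc24.specOf_closedPoint
  have hS : β (sVar B) ∈ IsLocalRing.maximalIdeal R := by
    have h := congrArg PrimeSpectrum.asIdeal hclosed
    rw [← hβ] at h
    rw [← h] at hwS
    exact hwS
  let Z := pullback ch₀ σ
  let g₁ : Z ⟶ Spec (CommRingCat.of A₁) := pullback.snd ch₀ σ ≫ σ₁
  have hg₁ : g₁ ≫ ch₁ = pullback.fst ch₀ σ ≫ ch₀ := by
    rw [Category.assoc, hσ₁, pullback.condition]
  let ψR : R →+* Γ(Z, ⊤) := homToGlobal (pullback.snd ch₀ σ)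
  have hψR : homToGlobal g₁ = ψR.comp β := by
    show homToGlobal (pullback.snd ch₀ σ ≫ σ₁) = _
    rw [← hβ, homToGlobal_comp_SpecMap]
    rfl
  have hunitS : IsUnit (homToGlobal g₁ (sVar B)) := by
    have htop : g₁ ⁻¹ᵁ PrimeSpectrum.basicOpen (sVar B) = ⊤ := by
      refine top_le_iff.1 fun a _ => ?_
      show g₁ a ∈ PrimeSpectrum.basicOpen (sVar B)
      rw [← preimage_chart_zero]
      show ch₁ (g₁ a) ∈ Set.range ch₀
      rw [← Scheme.Hom.comp_apply, hg₁, Scheme.Hom.comp_apply]
      exact ⟨_, rfl⟩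
    have hb : (PrimeSpectrum.basicOpen (sVar B) : (Spec (CommRingCat.of A₁)).Opens) =
        (Spec (CommRingCat.of A₁)).basicOpen ((Scheme.ΓSpecIso (CommRingCat.of A₁)).inv (sVar B)) :=
      (basicOpen_eq_of_affine _).symm
    erw [hb, Scheme.preimage_basicOpen_top] at htop
    exact RingedSpace.isUnit_of_isUnit_germ (X := Z.toRingedSpace) ⊤ _ fun a _ =>
      (RingedSpace.mem_basicOpen (X := Z.toRingedSpace) (U := (⊤ : Z.Opens)) _ a trivial).1 (htop.ge (show a ∈ (⊤ : Z.Opens) from trivial))
  let γ : Polynomial K →+* Γ(Z, ⊤) :=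
    Polynomial.eval₂RingHom ((homToGlobal g₁).comp ((C : B →+* A₁).comp (C : K →+* B))) (homToGlobal g₁ (sVar B))
  have hγ : ∀ p : nonZeroDivisors (Polynomial K), IsUnit (γ p) := by
    rintro ⟨p, hp⟩
    obtain ⟨r, hr, hnd⟩ := Polynomial.exists_eq_pow_rootMultiplicity_mul_and_not_dvd p (nonZeroDivisors.ne_zero hp) 0
    rw [map_zero, sub_zero] at hr hnd
    show IsUnit (γ p)
    rw [hr, map_mul, map_pow]
    refine IsUnit.mul (IsUnit.pow _ ?_) ?_
    · simpa [γ] using hunitS
    · let γR : Polynomial K →+* R :=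
        Polynomial.eval₂RingHom (β.comp ((C : B →+* A₁).comp (C : K →+* B))) (β (sVar B))
      have e : γ = ψR.comp γR := by
        refine Polynomial.ringHom_ext (fun c => ?_) ?_
        · simp [γ, γR, hψR]
        · simp [γ, γR, hψR]
      rw [e]
      refine IsUnit.map ψR ?_
      have hr0 : r.coeff 0 ≠ 0 := fun h => hnd (Polynomial.X_dvd_iff.2 h)
      obtain ⟨r', hr'⟩ : Polynomial.X ∣ r - Polynomial.C (r.coeff 0) := Polynomial.X_dvd_iff.2 (by simp)
      rw [show r = Polynomial.X * r' + Polynomial.C (r.coeff 0) from (sub_eq_iff_eq_add.1 hr'), map_add, map_mul]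
      have hX : γR Polynomial.X * γR r' ∈ IsLocalRing.maximalIdeal R :=
        Ideal.mul_mem_right _ _ (by simpa [γR] using hS)
      have hC : IsUnit (γR (Polynomial.C (r.coeff 0))) :=
        ((isUnit_iff_ne_zero.2 hr0).map (Polynomial.C : K →+* Polynomial K)).map γR
      by_contra hne
      exact (IsLocalRing.mem_maximalIdeal _).1
        (by simpa using sub_mem ((IsLocalRing.mem_maximalIdeal _).2 hne) hX) hC
  let γL : L →+* Γ(Z, ⊤) := IsLocalization.lift hγ
  let ε : B' →+* Γ(Z, ⊤) := eval₂Hom γL fun i => homToGlobal g₁ (C (X i))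
  let l : Z ⟶ Spec (CommRingCat.of B') := toSpecOf Z (A := CommRingCat.of B') ε
  have hl : l ≫ π' = pullback.fst ch₀ σ := by
    rw [← cancel_mono ch₀, Category.assoc, hπ', ← hg₁]
    show l ≫ Spec.map (CommRingCat.ofHom α) ≫ ch₁ = g₁ ≫ ch₁
    rw [← Category.assoc]
    congr 1
    refine eq_of_homToGlobal ?_
    rw [homToGlobal_comp_SpecMap, homToGlobal_toSpecOf]
    show ε.comp α = homToGlobal g₁
    refine MvPolynomial.ringHom_ext (fun p => ?_) fun i => ?_
    · show ε (α (C p)) = homToGlobal g₁ (C p)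
      rw [show α (C p) = ι p from eval₂Hom_C _ _ _]
      show (ε.comp ι) p = ((homToGlobal g₁).comp (C : B →+* A₁)) p
      congr 1
      refine MvPolynomial.ringHom_ext (fun c => ?_) fun j => ?_
      · show ε (ι (C c)) = _
        rw [show ι (C c) = C (algebraMap K L c) from MvPolynomial.map_C _ _, eval₂Hom_C,
          IsScalarTower.algebraMap_apply K (Polynomial K) L, IsLocalization.lift_eq]
        simp [γ]
        rfl
      · show ε (ι (X j)) = _
        rw [show ι (X j) = X j from MvPolynomial.map_X _ _, eval₂Hom_X']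
        rfl
    · have hi := idx_one i
      subst hi
      show ε (α (sVar B)) = homToGlobal g₁ (sVar B)
      rw [show α (sVar B) = C sL from eval₂Hom_X' _ _ _, eval₂Hom_C]
      show γL (algebraMap (Polynomial K) L Polynomial.X) = _
      rw [IsLocalization.lift_eq]
      simp [γ]
  haveI : IsAffineHom π' := inferInstance
  haveI : IsSeparated π' := inferInstance
  refine subsingleton_H_strict ch₀ π' (m + 1) (fun W _ h _ => ?_) z R l hl _ (FieldBr3.isTorsion_pull' _ hF) b hb
  let a : Spec (CommRingCat.of B') ⟶ Spec (CommRingCat.of L) := Spec.map (CommRingCat.ofHom C)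
  haveI : LocallyOfFiniteType a := (HasRingHomProperty.Spec_iff (P := @LocallyOfFiniteType)).2
    (RingHom.finiteType_algebraMap.2 (inferInstanceAs (Algebra.FiniteType L (MvPolynomial (Fin m) L))))
  haveI : LocallyQuasiFinite h := FiniteSplit.locallyQuasiFinite_of_etale h
  refine hm.field (h ≫ a) 1 ((AlgSpDecent.topologicalKrullDim_le_of_lqf h).trans ?_) ?_
  · exact (PrimeSpectrum.topologicalKrullDim_eq_ringKrullDim B').trans_le (VarDim.ringKrullDim_mvPolynomial L m).le
  · refine cdL_univ_iff.1 (cdL_trdeg_le_one Set.univ K L 1 le_rfl ?_)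
    haveI : Algebra.IsAlgebraic (Polynomial K) L := IsLocalization.isAlgebraic L (nonZeroDivisors (Polynomial K))
    haveI : FaithfulSMul (Polynomial K) L :=
      (faithfulSMul_iff_algebraMap_injective _ L).2 (IsFractionRing.injective (Polynomial K) L)
    rw [← trdeg_add_eq K (Polynomial K) (A := L), trdeg_eq_zero (R := Polynomial K) (A := L), add_zero,
      Polynomial.trdeg_of_isDomain]
    simp

end Infinity

end Groth.Agent.CdField3
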