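import Groth.Agent.Lib.CdField3.LefHigh
import Groth.Agent.Lib.CdField3.LefFibre
import Groth.Prelude.Def_PBC

/-!
# The affine Lefschetz theorem
-/

set_option autoImplicit false
set_option linter.style.haveILetI false
set_option linter.unusedSectionVars false
set_option maxHeartbeats 2000000
set_option synthInstance.maxHeartbeats 200000
set_option backward.isDefEq.respectTransparency false
set_option backward.isDefEq.respectTransparency.types false

universe u

open CategoryTheory CategoryTheory.Limits AlgebraicGeometry TopologicalSpace Opposite CategoryTheory.Abelian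
open MvPolynomial

noncomputable section

namespace Groth.Agent.CdField3

open Groth.Agent

variable (K : Type u) [Field K] [IsSepClosed K] (m : ℕ)

/-- The affine line over affine `m`-space has `cd ≤ m + 1`. -/
theorem cohDimLE_line (hm1 : 1 ≤ m) (hm : ∀ k ≤ m, Lef.{u} k) :
    EtCoh.CohDimLE (Spec (CommRingCat.of (MvPolynomial {j : Fin (1 + 1) // j ≠ 0} (MvPolynomial (Fin m) K)))) (m + 1) := by
  intro F hF q hq
  let B := MvPolynomial (Fin m) K
  let π : Spec (CommRingCat.of (MvPolynomial {j : Fin (1 + 1) // j ≠ 0} B)) ⟶ Spec (CommRingCat.of B) :=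
    Spec.map (CommRingCat.ofHom C)
  let bY : Spec (CommRingCat.of B) ⟶ Spec (CommRingCat.of K) := Spec.map (CommRingCat.ofHom C)
  haveI : LocallyOfFiniteType bY := (HasRingHomProperty.Spec_iff (P := @LocallyOfFiniteType)).2
    (RingHom.finiteType_algebraMap.2 (inferInstanceAs (Algebra.FiniteType K (MvPolynomial (Fin m) K))))
  haveI : PreservesFiniteLimits (EtCoh.pull π) := S0101.result _
  refine subsingleton_H_compose π q F fun i p hip => ?_
  have htor : EtCoh.IsTorsion ((EtCoh.Rpush π i).obj F) := EtColim.isTorsion_Rpush π hF i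
  rcases Nat.eq_zero_or_pos i with rfl | hi
  · exact hm m le_rfl K (Spec (CommRingCat.of B)) bY
      ((PrimeSpectrum.topologicalKrullDim_eq_ringKrullDim B).trans_le (VarDim.ringKrullDim_mvPolynomial K m).le)
      _ htor p (by omega)
  rcases Nat.lt_or_ge (m + 1) i with hbig | hsmall
  · have hz : IsZero ((EtCoh.Rpush π i).obj F) := by
      have h := isZero_Rpush_line_high K m hm1 (hm m le_rfl) F hF i hbig
      rwa [ProjSpace.chart_toSpec] at h
    refine subsingleton_of_forall_eq 0 fun x => ?_
    rw [← Ext.comp_mk₀_id x, hz.eq_of_src (𝟙 _) 0, Ext.mk₀_zero, Ext.comp_zero]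
  refine subsingleton_H_supp bY (m + 1 - i) (m + 1 - i)
    (fun Z _ g _ hd => hm (m + 1 - i) (by omega) K Z g hd) _ htor (fun Ω _ _ ξ hξ => ?_) p (by omega)
  exact subsingleton_stalk_Rpush_line_pos K m hm F hF i ξ (VarDim.sdim bY (ξ (default : Spec (CommRingCat.of Ω)))) rfl
    (by omega) (by omega)

omit K in
/-- The affine Lefschetz theorem over separably closed fields. -/
theorem lef_all (n : ℕ) : Lef.{u} n := by
  induction n using Nat.strong_induction_on with
  | _ n ih =>
    rcases n with _ | _ | m
    · exact lef_zero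
    · exact lef_one
    refine lef_of_poly _ fun K _ _ s hs => ?_
    rcases Nat.lt_or_ge s (m + 2) with hlt | hge
    · haveI : LocallyOfFiniteType (Spec.map (CommRingCat.ofHom (C : K →+* MvPolynomial (Fin s) K))) :=
        (HasRingHomProperty.Spec_iff (P := @LocallyOfFiniteType)).2
          (RingHom.finiteType_algebraMap.2 (inferInstanceAs (Algebra.FiniteType K (MvPolynomial (Fin s) K))))
      refine cohDimLE_mono (ih s hlt K (Spec (CommRingCat.of (MvPolynomial (Fin s) K)))
        (Spec.map (CommRingCat.ofHom C)) ?_) hs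
      exact (PrimeSpectrum.topologicalKrullDim_eq_ringKrullDim _).trans_le (VarDim.ringKrullDim_mvPolynomial K s).le
    obtain rfl : s = m + 2 := by omega
    let e₀ : ({j : Fin (1 + 1) // j ≠ 0} ⊕ Fin (m + 1)) ≃ Fin (m + 2) :=
      Fintype.equivOfCardEq (by simp; omega)
    let e : MvPolynomial {j : Fin (1 + 1) // j ≠ 0} (MvPolynomial (Fin (m + 1)) K) ≃+* MvPolynomial (Fin (m + 2)) K :=
      (MvPolynomial.sumRingEquiv K _ _).symm.trans (MvPolynomial.renameEquiv K e₀).toRingEquiv
    haveI : IsIso (CommRingCat.ofHom e.toRingHom) := e.toCommRingCatIso.isIso_hom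
    exact cohDimLE_of_integralHom (Spec.map (CommRingCat.ofHom e.toRingHom))
      (cohDimLE_line K (m + 1) (by omega) fun k hk => ih k (by omega))

/-- The bound of the affine Lefschetz theorem over any field. -/
theorem cohDimLE_affine_field {K : Type u} [Field K] {X : Scheme.{u}} [IsAffine X]
    (f : X ⟶ Spec (CommRingCat.of K)) [LocallyOfFiniteType f] (d e : ℕ) (hd : topologicalKrullDim X ≤ d)
    (hK : EtCoh.CohDimLE (Spec (CommRingCat.of K)) e) : EtCoh.CohDimLE X (d + e) :=
  (lef_all d).field f e hd hK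

theorem sdim_le_of_resTrdegLE {K : Type u} [Field K] {X : Scheme.{u}}
    (f : X ⟶ Spec (CommRingCat.of K)) [LocallyOfFiniteType f] (x : X) (a : ℕ) (h : EtPBC.ResTrdegLE f x a) :
    VarDim.sdim f x ≤ a := by
  obtain ⟨φ, hφ, htr⟩ := h
  have hb : φ = VarDim.baseToRes f x := by
    have h1 : Spec.map (CommRingCat.ofHom (VarDim.baseToRes f x)) = X.fromSpecResidueField x ≫ f := by
      refine eq_of_homToGlobal ?_
      have e1 : (Scheme.ΓSpecIso (CommRingCat.of K)).inv ≫ (X.fromSpecResidueField x ≫ f).appTop =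
          CommRingCat.ofHom (VarDim.baseToRes f x) ≫ (Scheme.ΓSpecIso (X.residueField x)).inv := by
        show _ = ((Scheme.ΓSpecIso (CommRingCat.of K)).inv ≫ f.appTop ≫
          (X.presheaf.germ ⊤ x trivial ≫ X.residue x)) ≫ (Scheme.ΓSpecIso (X.residueField x)).inv
        rw [Scheme.Hom.comp_appTop, Scheme.fromSpecResidueField, Scheme.Hom.comp_appTop, Scheme.fromSpecStalk_appTop,
          show (homOfLE (le_top : (⊤ : (Spec (X.presheaf.stalk x)).Opens) ≤ ⊤)).op = 𝟙 _ from rfl,
          CategoryTheory.Functor.map_id, Category.comp_id]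
        simp only [Category.assoc]
        rw [← Scheme.ΓSpecIso_inv_naturality]
      exact congrArg CommRingCat.Hom.hom ((Scheme.ΓSpecIso_inv_naturality _).symm.trans e1.symm)
    exact congrArg CommRingCat.Hom.hom (Spec.map_injective (hφ.trans h1.symm))
  subst hb
  have h2 := (VarDim.trdeg_residueField f x).ge.trans htr
  exact_mod_cast h2

/-- Vanishing for sheaves with small support. -/
theorem subsingleton_H_supp_trdeg {K : Type u} [Field K] {X : Scheme.{u}} [IsAffine X]
    (f : X ⟶ Spec (CommRingCat.of K)) [LocallyOfFiniteType f] (a e : ℕ)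
    (hK : EtCoh.CohDimLE (Spec (CommRingCat.of K)) e) (F : EtCoh.Ab X) (hF : EtCoh.IsTorsion F)
    (hsupp : ∀ x ∈ EtPBC.supp F, EtPBC.ResTrdegLE f x a) (b : ℕ) (hb : a + e < b) :
    Subsingleton (EtCoh.H X F b) := by
  refine subsingleton_H_supp f a (a + e) (fun Z _ g _ hd => cohDimLE_affine_field g a e hd hK) F hF
    (fun Ω _ _ ξ hξ => ?_) b hb
  by_contra hne
  have hmem : ξ (default : Spec (CommRingCat.of Ω)) ∈ EtPBC.supp F := by
    refine ⟨Ω, inferInstance, inferInstance, ξ, Set.range_eq_singleton_iff.2 fun z =>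
      congrArg ξ (Subsingleton.elim z default), fun hz => hne (AddCommGrpCat.subsingleton_of_isZero hz)⟩
  exact absurd (sdim_le_of_resTrdegLE f _ a (hsupp _ hmem)) (Nat.not_le.2 hξ)

end Groth.Agent.CdField3
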