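import Groth.Agent.Lib.CdField3.LefMain
import Groth.Agent.Lib.BCField24.RpushColimLarge
import Groth.Agent.Lib.RDComp.Basic
import Groth.Agent.Lib.ExtDerived.Natural
import Groth.Agent.Lib.EtStalk.Integral

/-!
# The relative affine Lefschetz theorem
-/

set_option autoImplicit false
set_option linter.style.haveILetI false
set_option linter.unusedSectionVars false
set_option maxHeartbeats 2000000
set_option synthInstance.maxHeartbeats 200000
set_option backward.isDefEq.respectTransparency false
set_option backward.isDefEq.respectTransparency.types false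

universe u

open CategoryTheory CategoryTheory.Limits AlgebraicGeometry TopologicalSpace Opposite CategoryTheory.Abelian

noncomputable section

namespace Groth.Agent.CdField3

open Groth.Agent

/-- Higher direct images along affine morphisms of schemes of finite type vanish above the dimension of the
source. -/
theorem isZero_Rpush_affine_dim {K : Type u} [Field K] {Z Y : Scheme.{u}} (aY : Y ⟶ Spec (CommRingCat.of K))
    (g : Z ⟶ Y) [IsAffineHom g] [LocallyOfFiniteType (g ≫ aY)] (d : ℕ) (hd : topologicalKrullDim Z ≤ d)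
    (F : EtCoh.Ab Z) (hF : EtCoh.IsTorsion F) (q : ℕ) (hq : d < q) :
    IsZero ((EtCoh.Rpush g q).obj F) := by
  refine isZero_of_stalks fun Ω _ _ ξ => subsingleton_stalk_Rpush g F q ξ _ rfl fun R _ _ _ _ _ => ?_
  generalize ξ (default : Spec (CommRingCat.of Ω)) = s at *
  haveI : HenselianLocalRing R := Hensel.IsStrictHenselization.henselian (R := Y.presheaf.stalk s)
  haveI := Hensel.IsStrictHenselization.isSepClosure (R := Y.presheaf.stalk s) (S := R)
  haveI : IsSepClosed (IsLocalRing.ResidueField R) :=
    IsSepClosure.sep_closed (IsLocalRing.ResidueField (Y.presheaf.stalk s))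
  let σ := Hens2.specOf Y s R
  obtain ⟨Ks, _, _, ι, ρ, hι, hρ⟩ := exists_sepClosed_factor (Spec.preimage (σ ≫ aY)).hom
  let e := Spec.map (CommRingCat.ofHom ι)
  haveI : IsIntegralHom e := by rw [IsIntegralHom.SpecMap_iff]; exact hι
  let a' : pullback (g ≫ aY) e ⟶ Spec (CommRingCat.of Ks) := pullback.snd _ _
  let π' : pullback (g ≫ aY) e ⟶ Z := pullback.fst _ _
  haveI : IsIntegralHom π' := MorphismProperty.pullback_fst _ _ inferInstance
  haveI : LocallyOfFiniteType a' := MorphismProperty.pullback_snd _ _ inferInstance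
  have hd' : topologicalKrullDim ↥(pullback (g ≫ aY) e) ≤ d := (GrpdDim19.dim_le_of_isIntegralHom π').trans hd
  let l : pullback g σ ⟶ pullback (g ≫ aY) e :=
    pullback.lift (pullback.fst g σ) (pullback.snd g σ ≫ Spec.map (CommRingCat.ofHom ρ)) (by
      have h1 : Spec.map (CommRingCat.ofHom ρ) ≫ e = σ ≫ aY := by
        rw [← Spec.map_preimage (σ ≫ aY), ← Spec.map_comp, ← CommRingCat.ofHom_comp, hρ]
        rfl
      rw [Category.assoc, h1, ← pullback.condition_assoc])
  refine subsingleton_H_strict g π' d (fun W _ h _ => ?_) s R l (pullback.lift_fst _ _ _) _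
    (FieldBr3.isTorsion_pull' _ hF) q hq
  haveI : LocallyQuasiFinite h := FiniteSplit.locallyQuasiFinite_of_etale h
  exact lef_all d Ks W (h ≫ a') ((AlgSpDecent.topologicalKrullDim_le_of_lqf h).trans hd')

/-- Higher direct images along affine morphisms vanish above the dimension of the support. -/
theorem isZero_Rpush_affine_supp {K : Type u} [Field K] {X Y : Scheme.{u}}
    (aX : X ⟶ Spec (CommRingCat.of K)) (aY : Y ⟶ Spec (CommRingCat.of K)) [LocallyOfFiniteType aX]
    [QuasiCompact aX] (f : X ⟶ Y) (w : f ≫ aY = aX) [IsAffineHom f] (F : EtCoh.Ab X) (hF : EtCoh.IsTorsion F)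
    (d : ℕ) (hsupp : ∀ (Ω : Type u) [Field Ω] [IsSepClosed Ω] (ξ : Spec (CommRingCat.of Ω) ⟶ X),
      d < VarDim.sdim aX (ξ (default : Spec (CommRingCat.of Ω))) → Subsingleton ((EtCoh.stalk ξ).obj F))
    (q : ℕ) (hq : d < q) : IsZero ((EtCoh.Rpush f q).obj F) := by
  haveI : IsLocallyNoetherian X := LocallyOfFiniteType.isLocallyNoetherian aX
  haveI : CompactSpace X := QuasiCompact.compactSpace_of_compactSpace aX
  haveI : IsNoetherian X := ⟨⟩
  let E : Set X := {x | VarDim.sdim aX x ≤ d}
  have hE : StableUnderSpecialization E := fun x y hxy hx => by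
    rcases eq_or_ne x y with rfl | hne
    · exact hx
    · exact le_trans (VarDim.sdim_lt_of_specializes aX hxy hne).le hx
  have hs : DimFn3.SuppIn F E := fun Ω _ _ ξ hξ => hsupp Ω ξ (Nat.lt_of_not_le hξ)
  haveI : IsFiltered (DimFn3.CIdx E) := isFiltered_of_directed_le_nonempty _
  haveI := BCField24.preservesColimitsOfShape_Rpush_large f q (DimFn3.CIdx E)
  haveI := DimFn3.isIso_sDesc F hE hs
  let D := DimFn3.sDiag (E := E) F
  have hz : ∀ m, IsZero ((EtCoh.Rpush f q).obj (D.obj m)) := by
    intro m
    let I : X.IdealSheafData := Scheme.IdealSheafData.vanishingIdeal m.val.down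
    let i := I.subschemeι
    have hrange : Set.range i = (m.val.down : Set X) := by
      rw [Scheme.IdealSheafData.range_subschemeι, Scheme.IdealSheafData.coe_support_vanishingIdeal]
    let G := kernel (DimFn3.cplMap F m)
    have hsub : EtPBC.supp G ⊆ Set.range i := by
      rintro x ⟨Ω, _, _, ξ, hξ, hne⟩
      rw [hrange]
      by_contra hx
      refine hne (@AddCommGrpCat.isZero_of_subsingleton _ (DimFn3.suppIn_kernel F m Ω ξ ?_))
      rwa [show ξ (default : Spec (CommRingCat.of Ω)) = x from Set.eq_of_mem_singleton (hξ ▸ ⟨_, rfl⟩)]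
    haveI := EtStalk.isIso_unit_integral i G hsub
    have hG : EtCoh.IsTorsion G := isTorsion_of_mono (kernel.ι _) hF
    haveI : LocallyOfFiniteType ((i ≫ f) ≫ aY) := by rw [Category.assoc, w]; infer_instance
    have hdim : topologicalKrullDim I.subscheme ≤ d := by
      rw [VarDim.dim_eq_iSup_sdim (i ≫ aX)]
      refine iSup_le fun z => ?_
      have h1 : VarDim.sdim (i ≫ aX) z = VarDim.sdim aX (i z) :=
        FibRank28.sdim_comp_of_quasiFiniteAt aX i (i.quasiFiniteAt z)
      rw [h1]
      exact_mod_cast (m.le (show i z ∈ (m.val.down : Set X) from hrange ▸ ⟨z, rfl⟩) : VarDim.sdim aX (i z) ≤ d)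
    have h0 := isZero_Rpush_affine_dim aY (i ≫ f) d hdim ((EtCoh.pull i).obj G) (FieldBr3.isTorsion_pull' i hG) q hq
    haveI := EtStalk.preservesFiniteColimits_push_integral i
    haveI := (EtCoh.pullPushAdj i).isRightAdjoint
    haveI : (EtCoh.push i).Additive := (EtCoh.pullPushAdj i).right_adjoint_additive
    haveI : (EtCoh.push f).Additive := (EtCoh.pullPushAdj f).right_adjoint_additive
    haveI : (EtCoh.push (i ≫ f)).Additive := (EtCoh.pullPushAdj (i ≫ f)).right_adjoint_additive
    haveI : PreservesFiniteLimits (EtCoh.push i) := inferInstance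
    haveI : (EtCoh.push i).PreservesHomology :=
      ((Functor.exact_tfae (EtCoh.push i)).out 2 3 rfl rfl).2 ⟨inferInstance, inferInstance⟩
    haveI : PreservesFiniteLimits (EtCoh.pull i) := EtStalk.preservesFiniteLimits_pull _
    haveI : (EtCoh.push i).PreservesInjectiveObjects := ⟨fun {J} _ => EtStalk.injective_push i J⟩
    refine h0.of_iso ((EtCoh.Rpush f q).mapIso (asIso ((EtCoh.pullPushAdj i).unit.app G)) ≪≫ ?_)
    exact (RDComp.rightDerivedCompIso (EtCoh.push i) (EtCoh.push f) q).symm.app _ ≪≫
      (ExtDerived.rightDerivedMapIso q (EtCoh.pushComp f i)).app _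
  let hc := isColimitOfPreserves (EtCoh.Rpush f q) (colimit.isColimit D)
  have hcol : IsZero ((EtCoh.Rpush f q).obj (colimit D)) :=
    (IsZero.iff_id_eq_zero _).2 (hc.hom_ext fun m => (hz m).eq_of_src _ _)
  exact hcol.of_iso ((EtCoh.Rpush f q).mapIso (asIso (colimit.desc D (DimFn3.sCocone F))).symm)

end Groth.Agent.CdField3
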