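import Groth.Agent.Lib.CdField3.LefSupp
import Groth.Prelude.Def_PBC

/-!
# Transcendence degree bounds of residue fields
-/

set_option autoImplicit false
set_option linter.style.haveILetI false
set_option backward.isDefEq.respectTransparency false
set_option backward.isDefEq.respectTransparency.types false

universe u

open CategoryTheory CategoryTheory.Limits AlgebraicGeometry Opposite

namespace Groth.Agent.CdField3

theorem resTrdegLE_of_sdim_le {K : Type u} [Field K] {X : Scheme.{u}}
    (f : X ⟶ Spec (CommRingCat.of K)) [LocallyOfFiniteType f] (x : X) (a : ℕ) (h : VarDim.sdim f x ≤ a) :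
    EtPBC.ResTrdegLE f x a := by
  refine ⟨VarDim.baseToRes f x, ?_, ?_⟩
  · refine eq_of_homToGlobal ?_
    have e1 : (Scheme.ΓSpecIso (CommRingCat.of K)).inv ≫ (X.fromSpecResidueField x ≫ f).appTop =
        CommRingCat.ofHom (VarDim.baseToRes f x) ≫ (Scheme.ΓSpecIso (X.residueField x)).inv := by
      show _ = ((Scheme.ΓSpecIso (CommRingCat.of K)).inv ≫ f.appTop ≫
        (X.presheaf.germ ⊤ x trivial ≫ X.residue x)) ≫ (Scheme.ΓSpecIso (X.residueField x)).inv
      rw [Scheme.Hom.comp_appTop, Scheme.fromSpecResidueField, Scheme.Hom.comp_appTop, Scheme.fromSpecStalk_appTop,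
        show (homOfLE (le_top : (⊤ : (Spec (X.presheaf.stalk x)).Opens) ≤ ⊤)).op = 𝟙 _ from rfl,
        CategoryTheory.Functor.map_id, Category.comp_id]
      simp only [Category.assoc]
      rw [← Scheme.ΓSpecIso_inv_naturality]
    exact congrArg CommRingCat.Hom.hom ((Scheme.ΓSpecIso_inv_naturality _).symm.trans e1.symm)
  · letI := VarDim.resAlg f x
    refine (VarDim.trdeg_residueField f x).le.trans ?_
    exact_mod_cast h

end Groth.Agent.CdField3
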