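import Groth.Agent.Lib.CdField3.LefMain
import Groth.Agent.Lib.CdField3.LefStrict
import Groth.Agent.Lib.AlgSpDecent.DimMor
import Groth.Prelude.Def_VanCyc

/-!
# Cohomological dimension of nearby cycles
-/

set_option autoImplicit false
set_option linter.style.haveILetI false
set_option maxHeartbeats 1000000
set_option backward.isDefEq.respectTransparency false
set_option backward.isDefEq.respectTransparency.types false

universe u

open CategoryTheory CategoryTheory.Limits AlgebraicGeometry Opposite

namespace Groth.Agent.CdField3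

open Groth.Agent

/-- A separably closed field has cohomological dimension zero. -/
theorem cohDimLE_zero_sepClosed (Ω : Type u) [Field Ω] [IsSepClosed Ω] :
    EtCoh.CohDimLE (Spec (CommRingCat.of Ω)) 0 :=
  fun F _ _ hq => EtPic3.subsingleton_H_sepClosed Ω F hq

/-- Direct images from the geometric generic fibre vanish above its dimension. -/
theorem isZero_Rpush_geomFibre {X S : Scheme.{u}} (f : X ⟶ S) [LocallyOfFiniteType f]
    {K Ω : Type u} [Field K] [Field Ω] [IsSepClosed Ω] (ι : K →+* Ω) (hι : ι.IsIntegral)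
    (a : Spec (CommRingCat.of K) ⟶ S) (b : Spec (CommRingCat.of Ω) ⟶ S) [IsAffineHom b]
    (hab : Spec.map (CommRingCat.ofHom ι) ≫ a = b) (d : ℕ) (hd : topologicalKrullDim ↥(pullback f a) ≤ d)
    (G : EtCoh.Ab (pullback f b)) (hG : EtCoh.IsTorsion G) (q : ℕ) (hq : d < q) :
    IsZero ((EtCoh.Rpush (pullback.fst f b) q).obj G) := by
  subst hab
  let b := Spec.map (CommRingCat.ofHom ι) ≫ a
  haveI : IsAffineHom (pullback.fst f b) := MorphismProperty.pullback_fst _ _ inferInstance
  haveI : IsIntegralHom (Spec.map (CommRingCat.ofHom ι)) := by rw [IsIntegralHom.SpecMap_iff]; exact hι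
  let e : pullback f b ≅ pullback (pullback.snd f a) (Spec.map (CommRingCat.ofHom ι)) :=
    (pullbackLeftPullbackSndIso f a (Spec.map (CommRingCat.ofHom ι))).symm
  let m : pullback f b ⟶ pullback f a := e.hom ≫ pullback.fst (pullback.snd f a) (Spec.map (CommRingCat.ofHom ι))
  haveI : IsIntegralHom m := by
    haveI : IsIntegralHom (pullback.fst (pullback.snd f a) (Spec.map (CommRingCat.ofHom ι))) :=
      MorphismProperty.pullback_fst _ _ inferInstance
    infer_instance
  haveI : LocallyOfFiniteType (pullback.snd f b) := MorphismProperty.pullback_snd _ _ inferInstance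
  refine isZero_Rpush_of_strict (pullback.fst f b) G q fun s R _ _ _ _ _ => ?_
  refine subsingleton_H_strict (pullback.fst f b) (𝟙 _) d (fun W _ h _ => ?_) s R
    (pullback.fst (pullback.fst f b) (Hens2.specOf X s R)) (Category.comp_id _) _ (FieldBr3.isTorsion_pull' _ hG) q hq
  haveI := AlgSpDecent.locallyQuasiFinite_of_etale h
  have hW : topologicalKrullDim W ≤ d :=
    (AlgSpDecent.topologicalKrullDim_le_of_lqf h).trans ((GrpdDim19.dim_le_of_isIntegralHom m).trans hd)
  have := cohDimLE_affine_field (h ≫ pullback.snd f b) d 0 hW (cohDimLE_zero_sepClosed Ω)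
  simpa using this

/-- The strictly local geometric generic fibres. -/
theorem cohDimLE_strict_geomFibre {X S : Scheme.{u}} (f : X ⟶ S) [LocallyOfFiniteType f]
    {K Ω : Type u} [Field K] [Field Ω] [IsSepClosed Ω] (ι : K →+* Ω) (hι : ι.IsIntegral)
    (a : Spec (CommRingCat.of K) ⟶ S) (b : Spec (CommRingCat.of Ω) ⟶ S) [IsAffineHom b]
    (hab : Spec.map (CommRingCat.ofHom ι) ≫ a = b) (d : ℕ) (hd : topologicalKrullDim ↥(pullback f a) ≤ d)
    (x : X) (R : Type u) [CommRing R] [IsLocalRing R] [Algebra (X.presheaf.stalk x) R]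
    [IsLocalHom (algebraMap (X.presheaf.stalk x) R)] [Hensel.IsStrictHenselization (X.presheaf.stalk x) R] :
    EtCoh.CohDimLE (pullback (Hens2.specOf X x R ≫ f) b) d := by
  subst hab
  let b := Spec.map (CommRingCat.ofHom ι) ≫ a
  haveI : IsAffineHom (pullback.fst f b) := MorphismProperty.pullback_fst _ _ inferInstance
  haveI : IsIntegralHom (Spec.map (CommRingCat.ofHom ι)) := by rw [IsIntegralHom.SpecMap_iff]; exact hι
  let e : pullback f b ≅ pullback (pullback.snd f a) (Spec.map (CommRingCat.ofHom ι)) :=
    (pullbackLeftPullbackSndIso f a (Spec.map (CommRingCat.ofHom ι))).symm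
  let m : pullback f b ⟶ pullback f a := e.hom ≫ pullback.fst (pullback.snd f a) (Spec.map (CommRingCat.ofHom ι))
  haveI : IsIntegralHom m := by
    haveI : IsIntegralHom (pullback.fst (pullback.snd f a) (Spec.map (CommRingCat.ofHom ι))) :=
      MorphismProperty.pullback_fst _ _ inferInstance
    infer_instance
  haveI : LocallyOfFiniteType (pullback.snd f b) := MorphismProperty.pullback_snd _ _ inferInstance
  let e' : pullback (pullback.fst f b) (Hens2.specOf X x R) ≅ pullback (Hens2.specOf X x R ≫ f) b :=
    pullbackSymmetry _ _ ≪≫ pullbackRightPullbackFstIso f b (Hens2.specOf X x R)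
  refine cohDimLE_of_integralHom e'.inv fun G hG q hq => ?_
  refine subsingleton_H_strict (pullback.fst f b) (𝟙 _) d (fun W _ h _ => ?_) x R
    (pullback.fst (pullback.fst f b) (Hens2.specOf X x R)) (Category.comp_id _) _ hG q hq
  haveI := AlgSpDecent.locallyQuasiFinite_of_etale h
  have hW : topologicalKrullDim W ≤ d :=
    (AlgSpDecent.topologicalKrullDim_le_of_lqf h).trans ((GrpdDim19.dim_le_of_isIntegralHom m).trans hd)
  have := cohDimLE_affine_field (h ≫ pullback.snd f b) d 0 hW (cohDimLE_zero_sepClosed Ω)
  simpa using this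

end Groth.Agent.CdField3
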