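import Groth.Agent.Lib.CdField3.PicDiv

/-!
# Picard groups of normal curves on which points are divisors of functions modulo `n`
-/

set_option autoImplicit false
set_option linter.style.haveILetI false
set_option linter.unusedSectionVars false
set_option maxHeartbeats 2000000
set_option backward.isDefEq.respectTransparency.types false

universe u

open CategoryTheory AlgebraicGeometry TopologicalSpace

noncomputable section

namespace Groth.Agent.CdField3

open Groth.Agent FunFldRH25

noncomputable local instance instLawPicAffine (Y : Scheme.{u}) : PicGrp.Law Y := M2.law Y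

variable {U : Scheme.{u}} [IsIntegral U] [IsNoetherian U]

/-- If every point is, modulo `n`, the divisor of a function, then the Picard group is `n`-divisible. -/
theorem exists_pow_eq_pic (hX : Pi1.IsNormalScheme U) (hd : topologicalKrullDim U = 1) {n : ℕ} (hn : 0 < n)
    (h : ∀ x : U, x ≠ genericPoint U → ∃ g : U.functionField, g ≠ 0 ∧ ∀ y : U, y ≠ genericPoint U →
      (n : ℤ) ∣ Scheme.ord g y - (open scoped Classical in if y = x then (1 : ℤ) else 0))
    (c : PicLoc.PicSet U) : ∃ b : PicLoc.PicSet U, b ^ n = c := by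
  classical
  obtain ⟨L, hL, rfl⟩ := PicGrp.exists_eq_cls c
  have hr := r1_of_invertible hd hX hL
  obtain ⟨a, ha⟩ := hr.exists_ne_zero
  obtain ⟨E, -, hE⟩ := hr.exists_cycle ha
  have hfin : (Function.support fun y : U => E y).Finite :=
    (E.locallyFiniteSupport.finite_inter_support_of_isCompact isCompact_univ).subset fun y hy => ⟨trivial, hy⟩
  have hone : ∀ y : U, y ≠ genericPoint U → Scheme.ord (1 : U.functionField) y = 0 := fun y hy => by
    have h1 := Scheme.ord_mul (x := y) (one_ne_zero (α := U.functionField)) (one_ne_zero (α := U.functionField))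
    rw [mul_one] at h1
    omega
  have hz : ∀ (x : U), x ≠ genericPoint U → ∀ m : ℤ, ∃ g : U.functionField, g ≠ 0 ∧ ∀ y : U, y ≠ genericPoint U →
      (n : ℤ) ∣ Scheme.ord g y - (if y = x then m else 0) := by
    intro x hx m
    obtain ⟨g, hg, hgd⟩ := h x hx
    induction m using Int.induction_on with
    | zero => exact ⟨1, one_ne_zero, fun y hy => by simp [hone y hy]⟩
    | succ i ih =>
      obtain ⟨g', hg', hg'd⟩ := ih
      refine ⟨g' * g, mul_ne_zero hg' hg, fun y hy => ?_⟩
      obtain ⟨c₁, hc₁⟩ := hg'd y hy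
      obtain ⟨c₂, hc₂⟩ := hgd y hy
      refine ⟨c₁ + c₂, ?_⟩
      rw [Scheme.ord_mul hg' hg]
      split_ifs at hc₁ hc₂ ⊢ <;> linarith
    | pred i ih =>
      obtain ⟨g', hg', hg'd⟩ := ih
      refine ⟨g' * g⁻¹, mul_ne_zero hg' (inv_ne_zero hg), fun y hy => ?_⟩
      obtain ⟨c₁, hc₁⟩ := hg'd y hy
      obtain ⟨c₂, hc₂⟩ := hgd y hy
      refine ⟨c₁ - c₂, ?_⟩
      rw [Scheme.ord_mul hg' (inv_ne_zero hg), RH26.ord_inv hg]
      split_ifs at hc₁ hc₂ ⊢ <;> linarith
  have hs : ∀ s : Finset U, (∀ x ∈ s, x ≠ genericPoint U) → ∃ g : U.functionField, g ≠ 0 ∧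
      ∀ y : U, y ≠ genericPoint U → (n : ℤ) ∣ Scheme.ord g y - (if y ∈ s then E y else 0) := by
    intro s
    induction s using Finset.induction with
    | empty => exact fun _ => ⟨1, one_ne_zero, fun y hy => by simp [hone y hy]⟩
    | insert x s hxs ih =>
      intro hne
      obtain ⟨g, hg, hgd⟩ := ih fun z hz => hne z (Finset.mem_insert_of_mem hz)
      obtain ⟨g', hg', hg'd⟩ := hz x (hne x (Finset.mem_insert_self _ _)) (E x)
      refine ⟨g * g', mul_ne_zero hg hg', fun y hy => ?_⟩
      obtain ⟨c₁, hc₁⟩ := hgd y hy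
      obtain ⟨c₂, hc₂⟩ := hg'd y hy
      refine ⟨c₁ + c₂, ?_⟩
      rw [Scheme.ord_mul hg hg']
      by_cases hyx : y = x
      · subst hyx
        rw [if_neg hxs] at hc₁
        rw [if_pos rfl] at hc₂
        rw [if_pos (Finset.mem_insert_self _ _)]
        linarith
      · rw [if_neg hyx] at hc₂
        by_cases hys : y ∈ s
        · rw [if_pos hys] at hc₁
          rw [if_pos (Finset.mem_insert_of_mem hys)]
          linarith
        · rw [if_neg hys] at hc₁
          rw [if_neg (by simp [hyx, hys])]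
          linarith
  obtain ⟨g, hg, hgd⟩ := hs (hfin.toFinset.filter fun y => y ≠ genericPoint U)
    fun x hx => (Finset.mem_filter.1 hx).2
  have ha' := hr.smul_ne_zero (inv_ne_zero hg) ha
  obtain ⟨E', -, hE'⟩ := hr.exists_cycle ha'
  have hdvd : ∀ y : U, Order.coheight y = 1 → (n : ℤ) ∣ RH26.ordv L y (g⁻¹ • a) := fun y hy => by
    have hne := ne_of_coheight_one hy
    rw [hr.ordv_smul hy (inv_ne_zero hg) ha, RH26.ord_inv hg, ← hE y hy]
    have h1 := hgd y hne
    have h2 : (if y ∈ hfin.toFinset.filter (fun y => y ≠ genericPoint U) then E y else 0) = E y := by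
      by_cases hEy : E y = 0
      · simp [hEy]
      · rw [if_pos]; simp [hne, hEy]
    rw [h2] at h1
    have := dvd_neg.2 h1
    rwa [show -(Scheme.ord g y - E y) = -Scheme.ord g y + E y by ring] at this
  let D : AlgebraicCycle U ℤ :=
    { toFun := fun y => E' y / n
      supportWithinDomain' := Set.subset_univ _
      supportLocallyFiniteWithinDomain' := fun _ _ => ⟨Set.univ, Filter.univ_mem,
        (E'.locallyFiniteSupport.finite_inter_support_of_isCompact isCompact_univ).subset fun y hy =>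
          ⟨trivial, fun h0 => hy.2 (show E' y / (n : ℤ) = 0 by rw [show E' y = 0 from h0, Int.zero_ediv])⟩⟩ }
  have hD : RH26.R1 (RH26.od hX D) := RH26.r1_od
  have hDi : PicF.IsInvertible (RH26.od hX D) := RH26.isInvertible_of_gen hD.coh fun y => by
    by_cases hy : y = genericPoint U
    · subst hy; exact hD.gen
    · obtain ⟨t, ht, -⟩ := hD.gen_one (coheight_one_of_ne hd hy)
      exact ⟨t, ht⟩
  refine ⟨PicGrp.cls (RH26.od hX D) hDi, ?_⟩
  have hP : ∀ m : ℕ, ∃ (M : U.Modules) (hM : PicF.IsInvertible M),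
      PicGrp.cls M hM = PicGrp.cls (RH26.od hX D) hDi ^ (m + 1) ∧
      ∃ w : M.presheaf.stalk (genericPoint U), w ≠ 0 ∧
        ∀ y, Order.coheight y = 1 → RH26.ordv M y w = (m + 1 : ℤ) * D y := by
    intro m
    induction m with
    | zero => exact ⟨_, hDi, (pow_one _).symm, _, RH26.oneη_ne_zero, fun y hy => by
        rw [RH26.ordv_oneη hy]; simp⟩
    | succ m ih =>
      obtain ⟨M, hM, hcl, w, hw, hwo⟩ := ih
      have hfz : ∀ {F : U.Modules} {v : F.presheaf.stalk (genericPoint U)}, v ≠ 0 → Cyc26.fmk F _ v ≠ 0 :=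
        fun hv h0 => hv (RH26.fmk_injective (h0.trans rfl))
      obtain ⟨v, hv, hvo⟩ := S16092.result U _ _ hM hDi _ (hfz hw) _ (hfz (RH26.oneη_ne_zero (hX := hX) (D := D)))
      obtain ⟨v, rfl⟩ := RH26.exists_fmk v
      refine ⟨_, M2.isInvertible_tensor hM hDi, ?_, v, fun h0 => hv (by rw [h0]; rfl), fun y hy => ?_⟩
      · rw [pow_succ, ← hcl, AlgEquiv22.cls_tensor]
      · refine (hvo y ((RH26.dim_eq_one_iff y).2 hy)).trans ?_
        rw [show ((m + 1 : ℕ) + 1 : ℤ) * D y = (m + 1 : ℤ) * D y + D y by push_cast; ring, ← hwo y hy,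
          ← RH26.ordv_oneη (hX := hX) (D := D) hy]
        rfl
  obtain ⟨m, rfl⟩ : ∃ m, n = m + 1 := ⟨n - 1, by omega⟩
  obtain ⟨M, hM, hcl, w, hw, hwo⟩ := hP m
  rw [← hcl]
  refine Subtype.ext ((PicGrp.cl_eq_cl_iff _ _).2 ?_)
  refine (r1_of_invertible hd hX hM).nonempty_iso hr hw ha' fun y hy => ?_
  rw [hwo y hy, ← hE' y hy]
  show (m + 1 : ℤ) * (E' y / ((m + 1 : ℕ) : ℤ)) = E' y
  rw [← Nat.cast_succ]
  exact Int.mul_ediv_cancel' (by rw [hE' y hy]; exact hdvd y hy)

end Groth.Agent.CdField3
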