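import Groth.Agent.Lib.FunFldRH25.CurvePic
import Groth.Agent.Lib.PicRep20.Jacobian
import Groth.Agent.Lib.AVPRank22.PRank
import Groth.Agent.Lib.SchImage.ReducedKer
import Groth.Agent.Lib.PicSep22.Smooth
import Groth.Agent.Lib.PicPn.TrivialLocus
import Groth.Agent.Lib.GeomIrr18.Scheme
import Mathlib.AlgebraicGeometry.AlgClosed.Basic

/-!
# Divisibility of degree zero divisor classes on a curve over an algebraically closed field
-/

set_option autoImplicit false
set_option linter.style.haveILetI false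
set_option linter.unusedSectionVars false
set_option maxHeartbeats 2000000
set_option synthInstance.maxHeartbeats 200000
set_option backward.isDefEq.respectTransparency false
set_option backward.isDefEq.respectTransparency.types false

universe u

open CategoryTheory CategoryTheory.Limits AlgebraicGeometry TopologicalSpace MonoidalCategory CartesianMonoidalCategory MonObj
open scoped GrpObj

noncomputable section

namespace Groth.Agent.CdField3

open Groth.Agent Groth.Agent.Abel10 FunFld Cyc26 Curve17 FunField GeomFF26 FunFldRH25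

noncomputable local instance instLawPicDiv (Y : Scheme.{u}) : PicGrp.Law Y := M2.law Y

variable {k : Type u} [Field k] [IsAlgClosed k] {X : Scheme.{u}} [IsIntegral X]
  [X.Over (Spec (CommRingCat.of k))] [IsProper (X ↘ Spec (CommRingCat.of k))]
  [Smooth (X ↘ Spec (CommRingCat.of k))] (hd : topologicalKrullDim X = 1)

include hd in
/-- Classes of degree zero are `n`th powers. -/
theorem exists_pow_eq_of_degree_zero (σ : Spec (CommRingCat.of k) ⟶ X)
    (hσ : σ ≫ (X ↘ Spec (CommRingCat.of k)) = 𝟙 _) (c : PicLoc.PicSet X)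
    (hc : ∀ t, PicTan20.degCl (X ↘ Spec (CommRingCat.of k)) (𝟙_ (Over (Spec (CommRingCat.of k)))) t
      (pc (pullback.fst (X ↘ Spec (CommRingCat.of k)) (𝟙_ (Over (Spec (CommRingCat.of k)))).hom) c).1 = 0)
    {n : ℕ} (hn : 0 < n) : ∃ b : PicLoc.PicSet X, b ^ n = c := by
  let f := X ↘ Spec (CommRingCat.of k)
  haveI : IsSepClosed k := inferInstance
  haveI : GeometricallyIrreducible f := GeomIrr.geometricallyIrreducible_of_isSepClosed f
  haveI : GeometricallyConnected f := GeomIrr.geometricallyConnected_of_isSepClosed f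
  obtain ⟨P, u, hP, hu⟩ := PicRep20.exists_rep f hd σ hσ (g := _) rfl
  haveI := hP
  obtain ⟨h1, h2, h3⟩ := PicRep20.zeroPart_props hu hd
  let Z := PicRep20.zeroPart u hd
  letI : GrpObj Z := PicRep20.zeroGrpObj hu hd
  haveI := h1
  haveI := h2
  haveI := h3
  let e := fun T => PicRep20.ptsEquiv (σ := σ) (hσ := hσ) hu hd T
  have hmul : ∀ (T : Over (Spec (CommRingCat.of k))) (a b : T ⟶ Z), (e T (a * b)).1 = (e T a).1 * (e T b).1 := by
    intro T a b
    show (e T (lift a b ≫ MonObj.mul)).1 = _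
    have hμ : (e (Z ⊗ Z) MonObj.mul).1 = (e (Z ⊗ Z) (fst Z Z)).1 * (e (Z ⊗ Z) (snd Z Z)).1 :=
      congrArg Subtype.val ((e (Z ⊗ Z)).apply_symm_apply (e (Z ⊗ Z) (fst Z Z) * e (Z ⊗ Z) (snd Z Z)))
    rw [PicRep20.ptsEquiv_comp hu hd, hμ, map_mul, ← PicRep20.ptsEquiv_comp hu hd,
      ← PicRep20.ptsEquiv_comp hu hd, lift_fst, lift_snd]
  haveI : GeometricallyConnected Z.hom := PicPn.geometricallyConnected_of_irreducible Z.hom
  haveI : GeometricallyIntegral Z.hom := PicSep22.geometricallyIntegral_of_smooth Z.hom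
  haveI : IsCommMonObj Z := AlgebraicGeometry.isCommMonObj_of_isProper_of_geometricallyIntegral Z
  let T₀ : Over (Spec (CommRingCat.of k)) := 𝟙_ (Over (Spec (CommRingCat.of k)))
  let π := pullback.fst f T₀.hom
  haveI : IsIso T₀.hom := inferInstanceAs (IsIso (𝟙 (Spec (CommRingCat.of k))))
  haveI : IsIso π := inferInstance
  let a : T₀ ⟶ Z := (e T₀).symm ⟨pc π c, AlgEquiv22.point_eq_one _, hc⟩
  obtain ⟨b, hb⟩ := AVPRank22.exists_pow_eq (A := Z) hn a
  refine ⟨pc (inv π) (e T₀ b).1, ?_⟩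
  have hpow : ∀ m : ℕ, (e T₀ (b ^ (m + 1))).1 = (e T₀ b).1 ^ (m + 1) := by
    intro m
    induction m with
    | zero => rw [pow_one, pow_one]
    | succ m ih => rw [pow_succ, hmul, ih, ← pow_succ]
  obtain ⟨m, rfl⟩ : ∃ m, n = m + 1 := ⟨n - 1, by omega⟩
  rw [← map_pow, ← hpow m, hb, Equiv.apply_symm_apply]
  show pc (inv π) (pc π c) = c
  rw [pc_comp (inv π) π (IsIso.inv_hom_id π), pc_id]

include hd in
/-- For two closed points `x`, `x₀` there is a rational function whose divisor is `x - x₀` modulo `n`. -/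
theorem exists_function_divisor_mod {n : ℕ} (hn : 0 < n) (x x₀ : X) (hx : x ≠ genericPoint X)
    (hx₀ : x₀ ≠ genericPoint X) :
    haveI := VB17.isNoetherian_of_over (k := k) (X := X)
    ∃ g : X.functionField, g ≠ 0 ∧ ∀ y : X, y ≠ genericPoint X →
      (n : ℤ) ∣ Scheme.ord g y -
        ((open scoped Classical in if y = x then (1 : ℤ) else 0) - (open scoped Classical in if y = x₀ then (1 : ℤ) else 0)) := by
  classical
  haveI := VB17.isNoetherian_of_over (k := k) (X := X)
  let f := X ↘ Spec (CommRingCat.of k)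
  haveI : IsSepClosed k := inferInstance
  haveI : GeometricallyIrreducible f := GeomIrr.geometricallyIrreducible_of_isSepClosed f
  haveI : GeometricallyConnected f := GeomIrr.geometricallyConnected_of_isSepClosed f
  haveI : ConnectedSpace X := inferInstance
  letI := funAlg f
  have hF := ff_functionField f hd
  obtain ⟨e, -, ho⟩ := exists_placeEquiv f hd fun y => ((normal_curve k hd) y).2
  let Φ : Divisor k X.functionField → PicLoc.PicSet X := fun D =>
    PicGrp.cls (lineB e hd D) (lineB_spec e hd D).1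
  have hΦ : ∀ D E, Φ (D + E) = Φ D * Φ E := fun D E => by
    obtain ⟨i⟩ := lineB_add e hd D E
    rw [AlgEquiv22.cls_tensor]
    exact Subtype.ext ((PicGrp.cl_eq_cl_iff _ _).2 ⟨i.symm⟩)
  have hΦ0 : Φ 0 = 1 := by
    have h := hΦ 0 0
    rw [add_zero] at h
    exact left_eq_mul.1 h
  have hΦn : ∀ (D : Divisor k X.functionField) (m : ℕ), Φ (m • D) = Φ D ^ m := fun D m => by
    induction m with
    | zero => rw [zero_smul, pow_zero, hΦ0]
    | succ m ih => rw [succ_nsmul, hΦ, ih, pow_succ]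
  have hpt : ∀ (z : X) (hz : z ≠ genericPoint X), ∃ (σ : Spec (CommRingCat.of k) ⟶ X)
      (hσ : σ ≫ f = 𝟙 _), ptCls hd σ hσ = Φ (-Finsupp.single (e ⟨z, hz⟩) 1) := by
    intro z hz
    have hzc := Curve17.isClosed_singleton hd.le hz
    refine ⟨pointOfClosedPoint f z hzc, pointOfClosedPoint_comp f z hzc, ?_⟩
    have hker : (pointOfClosedPoint f z hzc).ker = Scheme.IdealSheafData.vanishingIdeal (⟨{z}, hzc⟩ : Closeds X) := by
      rw [SchImage.ker_eq_vanishingIdeal]
      congr 1
      refine Closeds.ext ?_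
      show closure (Set.range (pointOfClosedPoint f z hzc)) = {z}
      rw [show Set.range (pointOfClosedPoint f z hzc) = {z} from
        Set.eq_singleton_iff_unique_mem.2 ⟨⟨default, pointOfClosedPoint_apply f z hzc _⟩, by
          rintro _ ⟨a, rfl⟩; exact pointOfClosedPoint_apply f z hzc a⟩]
      exact hzc.closure_eq
    obtain ⟨a, ha, hoa⟩ := exists_pointIdeal_section (k := k) hd hzc
    obtain ⟨-, hD, b, hb, hob⟩ := lineB_spec e hd (-Finsupp.single (e ⟨z, hz⟩) 1)
    have hI := r1_of_invertible hd (normal_curve k hd) (CurveCoh17.isInvertible_pointIdeal hd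
      (fun y => haveI := VB17.pid_stalk (k := k) (X := X) hd.le y; inferInstance) hzc)
    obtain ⟨i⟩ := hI.nonempty_iso hD ha hb fun y hy => by
      rw [hoa y hy, hob y (ne_of_coheight_one hy), Finsupp.neg_apply, Finsupp.single_apply]
      by_cases hyz : y = z
      · subst hyz; rw [if_pos rfl, if_pos rfl]
      · rw [if_neg hyz, if_neg (fun he' => hyz (congrArg Subtype.val (e.injective he')).symm), neg_zero]
    refine Subtype.ext ?_
    show PicF.cl (ClSub.idealMod (pointOfClosedPoint f z hzc).ker) = PicF.cl _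
    rw [hker]
    exact (PicGrp.cl_eq_cl_iff _ _).2 ⟨i⟩
  obtain ⟨σ, hσ, hσe⟩ := hpt x hx
  obtain ⟨σ₀, hσ₀, hσ₀e⟩ := hpt x₀ hx₀
  let c := ptCls hd σ₀ hσ₀ * (ptCls hd σ hσ)⁻¹
  obtain ⟨b, hb⟩ := exists_pow_eq_of_degree_zero hd σ hσ c (fun t => by
    rw [map_mul, map_inv, PicTan20.degCl_mul f (PicRep20.fiber_dim f hd), PicRep20.degCl_inv f hd,
      PicRep20.degCl_ptCls f hd, PicRep20.degCl_ptCls f hd]
    rfl) hn
  obtain ⟨M, hM, rfl⟩ := PicGrp.exists_eq_cls b
  obtain ⟨E, ⟨i⟩⟩ := exists_lineB_iso e hd hM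
  have hME : PicGrp.cls M hM = Φ E := Subtype.ext ((PicGrp.cl_eq_cl_iff _ _).2 ⟨i⟩)
  let D : Divisor k X.functionField := Finsupp.single (e ⟨x, hx⟩) 1 - Finsupp.single (e ⟨x₀, hx₀⟩) 1
  have hD : Φ D = c := by
    have h1 : Φ (Finsupp.single (e ⟨x, hx⟩) 1) = (ptCls hd σ hσ)⁻¹ := by
      rw [eq_inv_iff_mul_eq_one, hσe, ← hΦ, add_neg_cancel, hΦ0]
    show Φ (Finsupp.single (e ⟨x, hx⟩) 1 - Finsupp.single (e ⟨x₀, hx₀⟩) 1) = _
    rw [sub_eq_add_neg, hΦ, h1, ← hσ₀e, mul_comm]
  have hiso : Nonempty (lineB e hd (n • E) ≅ lineB e hd D) := by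
    refine (PicGrp.cl_eq_cl_iff _ _).1 (congrArg Subtype.val (show Φ (n • E) = Φ D from ?_))
    rw [hΦn, ← hME, hb, hD]
  obtain ⟨g, hg, hge⟩ := (lineB_iso_iff e hd ho _ _).1 hiso
  refine ⟨g, hg, fun y hy => ⟨-(E (e ⟨y, hy⟩)), ?_⟩⟩
  have h1 := DFunLike.congr_fun hge (e ⟨y, hy⟩)
  rw [Finsupp.add_apply, div_apply hF, Finsupp.sub_apply, Finsupp.smul_apply, nsmul_eq_mul,
    Finsupp.single_apply, Finsupp.single_apply] at h1
  rw [ord_eq_place e hd ho hy]
  simp only [EmbeddingLike.apply_eq_iff_eq, Subtype.mk.injEq, eq_comm (a := x), eq_comm (a := x₀)] at h1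
  push_cast at h1 ⊢
  linarith

end Groth.Agent.CdField3
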