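import Groth.Agent.Lib.FieldBr3.CohDimP
import Groth.Agent.Lib.ExtShriek24.TraceFinEt
import Groth.Agent.Lib.CdField3.HensSurf
import Groth.Agent.Lib.Constr24.Agree
import Groth.Agent.Lib.CdField3.CurveConst
import Groth.Agent.Lib.EtStalk.Push
import Groth.Agent.Lib.EtAcyc24.Comp
import Groth.Agent.Lib.LocAcycBC6.ConnConst
import Groth.Prelude.Def_EtCore

/-!
# The top degree of the cohomology of a field
-/

set_option autoImplicit false
set_option linter.style.haveILetI false
set_option backward.isDefEq.respectTransparency false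
set_option backward.isDefEq.respectTransparency.types false
set_option maxHeartbeats 1000000

universe u

open CategoryTheory CategoryTheory.Limits AlgebraicGeometry Opposite CategoryTheory.Abelian

namespace Groth.Agent.CdField3

open Groth.Agent.FieldH25 Groth.Agent.EtStalk Groth.Agent.EtPic3

theorem isPrimaryTorsion_of_mono {X : Scheme.{u}} {p : ℕ} {A B : EtCoh.Ab X} (φ : A ⟶ B) [Mono φ]
    (hB : Dix.IsPrimaryTorsion p B) : Dix.IsPrimaryTorsion p A := fun U s x => by
  obtain ⟨V, g, hv, k, hk⟩ := hB U (φ.hom.app (op U) s) x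
  refine ⟨V, g, hv, k, ?_⟩
  haveI : Mono φ.hom := inferInstanceAs (Mono ((sheafToPresheaf _ _).map φ))
  have hinj : Function.Injective (φ.hom.app (op V)) := (AddCommGrpCat.mono_iff_injective _).1 inferInstance
  refine hinj ?_
  rw [map_zero, map_nsmul, NatTrans.naturality_apply φ.hom g.op s]
  exact hk

/-- Right exactness in the top degree. -/
theorem subsingleton_H_right {X : Scheme.{u}} {p n : ℕ} (hcd : Dix.CohDimLEAt X p n) {A B : EtCoh.Ab X}
    (f : A ⟶ B) [Epi f] (hA : Dix.IsPrimaryTorsion p A) (h : Subsingleton (EtCoh.H X A n)) :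
    Subsingleton (EtCoh.H X B n) := by
  let S : ShortComplex (EtCoh.Ab X) := ShortComplex.mk (kernel.ι f) f (kernel.condition f)
  have hS : S.ShortExact := { exact := ShortComplex.exact_kernel f }
  haveI h1 : Subsingleton (EtCoh.H X S.X₁ (n + 1)) :=
    hcd _ (isPrimaryTorsion_of_mono (kernel.ι f) hA) (n + 1) (lt_add_one n)
  haveI h2 : Subsingleton (EtCoh.H X S.X₂ n) := h
  refine subsingleton_of_forall_eq 0 fun x => ?_
  obtain ⟨y, hy⟩ := Ext.covariant_sequence_exact₃ _ hS x rfl (Subsingleton.elim (α := EtCoh.H X S.X₁ (n + 1)) _ 0)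
  rw [← hy, show y = 0 from Subsingleton.elim (α := EtCoh.H X S.X₂ n) _ 0, Ext.zero_comp]

theorem nsmul_id_functor_obj {C D : Type*} [Category C] [Preadditive C] [Category D] [Preadditive D]
    (G : C ⥤ D) [G.Additive] {A : C} {p : ℕ} (h : p • 𝟙 A = 0) : p • 𝟙 (G.obj A) = 0 := by
  rw [show p • 𝟙 (G.obj A) = G.map (p • 𝟙 A) by rw [Functor.map_nsmul, CategoryTheory.Functor.map_id], h,
    Functor.map_zero]

theorem cohDimLEAt_finite_ext {K : Type u} [Field K] (L : Type u) [Field L] [Algebra K L] [FiniteDimensional K L] [Algebra.IsSeparable K L]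
    {p n : ℕ} (h : Dix.CohDimLEAt (Spec (CommRingCat.of K)) p n) : Dix.CohDimLEAt (Spec (CommRingCat.of L)) p n :=
  fun G hG q hq => by
    haveI := isFinite_specExt K L
    haveI := h _ (DimFn3.isPrimaryTorsion_push (specExt K L) hG) q hq
    exact (FieldH25.bijective_HofPush_integral (specExt K L) G q).2.subsingleton

/-- The top degree descends along finite separable extensions for constant sheaves. -/
theorem subsingleton_H_const_descend {K : Type u} [Field K] (L : Type u) [Field L] [Algebra K L]
    [FiniteDimensional K L] [Algebra.IsSeparable K L] {p n : ℕ}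
    (hcd : Dix.CohDimLEAt (Spec (CommRingCat.of K)) p n)
    (h : Subsingleton (EtCoh.H (Spec (CommRingCat.of L)) (EtCoh.const _ (ZMod p)) n)) :
    Subsingleton (EtCoh.H (Spec (CommRingCat.of K)) (EtCoh.const _ (ZMod p)) n) := by
  let π := specExt K L
  haveI := isFinite_specExt K L
  haveI : Etale π := etale_spec K L
  obtain ⟨adj, -⟩ := ExtShriek24.exists_adj_trace π _ (finrank_specExt K L)
  let F : EtCoh.Ab (Spec (CommRingCat.of K)) := EtCoh.const _ (ZMod p)
  haveI : Epi (adj.counit.app F) := by
    refine (EtStalk.epi_iff_stalk _).2 fun Ω _ _ ξ => ?_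
    obtain ⟨φ, hφ⟩ : ∃ φ : CommRingCat.of K ⟶ CommRingCat.of Ω, Spec.map φ = ξ := ⟨_, Spec.map_preimage ξ⟩
    subst hφ
    letI : Algebra K Ω := φ.hom.toAlgebra
    let l : L →ₐ[K] Ω := IsSepClosed.lift
    let a : Spec (CommRingCat.of Ω) ⟶ Spec (CommRingCat.of L) := Spec.map (CommRingCat.ofHom l.toRingHom)
    have hξ : Spec.map φ = a ≫ π := by
      show _ = Spec.map (CommRingCat.ofHom l.toRingHom) ≫ Spec.map (CommRingCat.ofHom (algebraMap K L))
      rw [← Spec.map_comp]
      refine congrArg Spec.map (CommRingCat.hom_ext (RingHom.ext fun x => ?_))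
      exact (l.commutes x).symm
    rw [hξ]
    haveI : Epi ((EtCoh.pull π).map (adj.counit.app F)) := by
      have := adj.right_triangle_components F
      exact @epi_of_epi_fac _ _ _ _ _ _ _ _ (inferInstanceAs (Epi (𝟙 _))) this
    have hs : Function.Surjective ((EtCoh.stalk a).map ((EtCoh.pull π).map (adj.counit.app F))) :=
      (EtStalk.epi_iff_stalk _).1 inferInstance Ω a
    intro y
    have hb := ConcreteCategory.bijective_of_isIso (stalkPull π a F)
    obtain ⟨z, hz⟩ := hs (stalkPull π a F y)
    obtain ⟨w, rfl⟩ := (ConcreteCategory.bijective_of_isIso (stalkPull π a _)).2 z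
    refine ⟨w, hb.1 ?_⟩
    rw [← hz]
    exact (ConcreteCategory.congr_hom (EtStalk.stalkPull_nat π a (adj.counit.app F)) w).symm
  haveI : (EtCoh.push π).Additive := by
    haveI : (EtCoh.push π).IsRightAdjoint := (EtCoh.pullPushAdj _).isRightAdjoint
    exact Functor.additive_of_preserves_binary_products _
  have hP : Dix.IsPrimaryTorsion p ((EtCoh.push π).obj ((EtCoh.pull π).obj F)) :=
    isPrimaryTorsion_of_nsmul_id (nsmul_id_functor_obj _ (nsmul_id_functor_obj _ (nsmul_id_const_zmod _ p)))
  haveI : Subsingleton (EtCoh.H (Spec (CommRingCat.of L)) ((EtCoh.pull π).obj F) n) :=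
    subsingleton_H_of_iso (EtCore.pullConst π (ZMod p)).symm n h
  exact subsingleton_H_right hcd (adj.counit.app F) hP
    (FieldH25.bijective_HofPush_integral π ((EtCoh.pull π).obj F) n).1.subsingleton

/-- A split sheaf with vanishing top cohomology forces that of `ℤ/p` to vanish. -/
theorem subsingleton_H_const_of_split {k : Type u} [Field k] (Ω : Type u) [Field Ω] [Algebra k Ω] [IsSepClosed Ω]
    [IsGalois k Ω] {p n : ℕ} [Fact p.Prime] (hcd : Dix.CohDimLEAt (Spec (CommRingCat.of k)) p n) :
    ∀ (N : ℕ) (G : EtCoh.Ab (Spec (CommRingCat.of k))) [Finite ((EtCoh.stalk (sepPt k Ω)).obj G)]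
      [Nontrivial ((EtCoh.stalk (sepPt k Ω)).obj G)], Nat.card ((EtCoh.stalk (sepPt k Ω)).obj G) ≤ N →
      p • 𝟙 G = 0 → Function.Surjective (germ (sepPt k Ω) G (extPt k Ω k)) →
      Subsingleton (EtCoh.H (Spec (CommRingCat.of k)) G n) →
      Subsingleton (EtCoh.H (Spec (CommRingCat.of k)) (EtCoh.const _ (ZMod p)) n) := by
  intro N
  induction N with
  | zero => exact fun G _ _ hN => absurd hN (Nat.not_le.2 Nat.card_pos)
  | succ N ih =>
    intro G _ _ hN hG hsplit hH
    obtain ⟨κ, hκ, hfin, hlt⟩ := exists_const_mono Ω G p hG k hsplit 0 (by rw [Module.finrank_self, pow_zero])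
    haveI := hfin
    rcases subsingleton_or_nontrivial ((EtCoh.stalk (sepPt k Ω)).obj (cokernel κ)) with h | h
    · have hz : 𝟙 (cokernel κ) = 0 := Sheaf.hom_ext (NatTrans.ext (funext fun U => AddCommGrpCat.ext fun s =>
        FieldH25.sect_ext Ω (cokernel κ) (U := U.unop) _ _ fun φ => h.elim _ _))
      haveI : Epi κ := Preadditive.epi_of_isZero_cokernel κ ((IsZero.iff_id_eq_zero _).2 hz)
      haveI : IsIso κ := isIso_of_mono_of_epi κ
      exact subsingleton_H_of_iso (asIso κ).symm n hH
    · have hC : p • 𝟙 (cokernel κ) = 0 := by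
        rw [← cancel_epi (cokernel.π κ), Preadditive.comp_nsmul, Category.comp_id, comp_zero]
        rw [show p • cokernel.π κ = (p • 𝟙 G) ≫ cokernel.π κ by rw [Preadditive.nsmul_comp, Category.id_comp],
          hG, zero_comp]
      refine ih (cokernel κ) (by omega) hC (fun q => ?_)
        (subsingleton_H_right hcd (cokernel.π κ) (isPrimaryTorsion_of_nsmul_id hG) hH)
      have hπ : Function.Surjective ((EtCoh.stalk (sepPt k Ω)).map (cokernel.π κ)) :=
        (EtStalk.epi_iff_stalk (cokernel.π κ)).1 inferInstance Ω (sepPt k Ω)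
      obtain ⟨q', rfl⟩ := hπ q
      obtain ⟨s, rfl⟩ := hsplit q'
      exact ⟨(cokernel.π κ).hom.app (op (ext k k)) s, (germ_nat _ _ _ _).symm⟩

/-- The top cohomology of `ℤ/p` vanishes over all finite separable extensions. -/
def TopVanish (K : Type u) [Field K] (p n : ℕ) : Prop :=
  ∀ (L : Type u) [Field L] [Algebra K L] [FiniteDimensional K L] [Algebra.IsSeparable K L],
    Subsingleton (EtCoh.H (Spec (CommRingCat.of L)) (EtCoh.const _ (ZMod p)) n)

theorem TopVanish.trans {K : Type u} [Field K] {p n : ℕ} (h : TopVanish K p n) (L : Type u) [Field L] [Algebra K L]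
    [FiniteDimensional K L] [Algebra.IsSeparable K L] : TopVanish L p n := by
  intro K' _ _ _ _
  letI : Algebra K K' := Algebra.compHom K' (algebraMap K L)
  haveI : IsScalarTower K L K' := IsScalarTower.of_algebraMap_eq fun _ => rfl
  haveI : FiniteDimensional K K' := Module.Finite.trans L K'
  haveI : Algebra.IsSeparable K K' := Algebra.IsSeparable.trans K L K'
  exact h K'

/-- Then so does that of all finite sheaves killed by `p`. -/
theorem subsingleton_H_finite_top {p n : ℕ} [Fact p.Prime] : ∀ (N : ℕ) (k : Type u) [Field k] (_ : TopVanish k p n)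
    (Ω : Type u) [Field Ω] [Algebra k Ω] [IsSepClosed Ω] [IsGalois k Ω] (G : EtCoh.Ab (Spec (CommRingCat.of k)))
    [Finite ((EtCoh.stalk (sepPt k Ω)).obj G)], Nat.card ((EtCoh.stalk (sepPt k Ω)).obj G) ≤ N → p • 𝟙 G = 0 →
    Subsingleton (EtCoh.H (Spec (CommRingCat.of k)) G n) := by
  intro N
  induction N with
  | zero =>
    intro k _ _ Ω _ _ _ _ G _ hN
    exact absurd hN (Nat.not_le.2 Nat.card_pos)
  | succ N ih =>
    intro k _ hk Ω _ _ _ _ G _ hN hG
    rcases subsingleton_or_nontrivial ((EtCoh.stalk (sepPt k Ω)).obj G) with h | h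
    · refine subsingleton_of_forall_eq 0 fun x => ?_
      have hid : 𝟙 G = 0 := Sheaf.hom_ext (NatTrans.ext (funext fun U => AddCommGrpCat.ext fun s =>
        FieldH25.sect_ext Ω G (U := U.unop) _ _ fun φ => h.elim _ _))
      rw [← Sheaf.H.map_id_apply x, hid]
      exact (congrArg (fun t => Ext.comp x t (add_zero n)) (Ext.mk₀_zero _ _)).trans (Ext.comp_zero _ _ _ _ _)
    obtain ⟨M, _, _, hM⟩ := exists_split Ω G
    let P : Sylow p (M ≃ₐ[k] M) := default
    let k' := IntermediateField.fixedField P.toSubgroup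
    obtain ⟨a, ha⟩ := P.isPGroup'.exists_card_eq
    have hfin : Module.finrank k' M = p ^ a := (IntermediateField.finrank_fixedField_eq_card _).trans ha
    have hndvd : ¬ p ∣ Module.finrank k k' := by
      have h : Module.finrank k k' = P.toSubgroup.index := by
        refine Nat.eq_of_mul_eq_mul_right (Nat.pow_pos (Fact.out : p.Prime).pos (n := a)) ?_
        rw [← hfin, Module.finrank_mul_finrank, ← IsGalois.card_aut_eq_finrank, hfin,
          ← Subgroup.index_mul_card P.toSubgroup, ha]
      rw [h]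
      exact P.not_dvd_index
    haveI : IsScalarTower k' M Ω := IsScalarTower.of_algebraMap_eq fun _ => rfl
    haveI : IsScalarTower k k' Ω := IsScalarTower.of_algebraMap_eq fun _ => rfl
    haveI : IsGalois k' Ω := IsGalois.tower_top_of_isGalois k k' Ω
    haveI : IsGalois k' M := IsGalois.tower_top_of_isGalois k k' M
    obtain ⟨hM', hcard⟩ := surjective_germ_baseChange Ω G M k' hM
    let g := specExt k k'
    let G' := (EtCoh.pull g).obj G
    haveI : Finite ((EtCoh.stalk (sepPt k' Ω)).obj G') := Nat.finite_of_card_ne_zero (by rw [hcard]; exact Nat.card_pos.ne')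
    haveI : Nontrivial ((EtCoh.stalk (sepPt k' Ω)).obj G') := Finite.one_lt_card_iff_nontrivial.1
      (by rw [hcard]; exact Finite.one_lt_card)
    have hG' : p • 𝟙 G' = 0 := nsmul_id_functor_obj (EtCoh.pull g) hG
    obtain ⟨κ, hκ, hfinC, hlt⟩ := exists_const_mono Ω G' p hG' M hM' a hfin
    have hC : p • 𝟙 (cokernel κ) = 0 := by
      rw [← cancel_epi (cokernel.π κ), Preadditive.comp_nsmul, Category.comp_id, comp_zero]
      rw [show p • cokernel.π κ = (p • 𝟙 G') ≫ cokernel.π κ by rw [Preadditive.nsmul_comp, Category.id_comp],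
        hG', zero_comp]
    haveI := hfinC
    have h9 : Nat.card ((EtCoh.stalk (sepPt k' Ω)).obj G') = Nat.card ((EtCoh.stalk (sepPt k Ω)).obj G) := hcard
    have h2 := ih k' (hk.trans k') Ω (cokernel κ) (by omega) hC
    have h3 := hk k'
    let S := ShortComplex.mk κ (cokernel.π κ) (cokernel.condition _)
    have hS : S.ShortExact := { exact := ShortComplex.exact_cokernel _ }
    refine subsingleton_of_forall_eq 0 fun x => ?_
    have hx' : EtCore.Hpull g G n x = 0 := by
      obtain ⟨w, hw⟩ := Ext.covariant_sequence_exact₂ _ hS (EtCore.Hpull g G n x) (h2.elim _ _)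
      rw [← hw, show w = 0 from h3.elim _ _]
      simp
    have h4 := finrank_nsmul_eq_zero k k' G n x hx'
    have h5 : p • x = 0 := by
      rw [← H_map_nsmul_id G p n x, hG]
      have h := H_map_nsmul_id G 0 n x
      rwa [zero_nsmul, zero_nsmul] at h
    exact AddMonoid.addOrderOf_eq_one_iff.1 (Nat.eq_one_of_dvd_coprimes
      ((Nat.Prime.coprime_iff_not_dvd Fact.out).2 hndvd)
      (addOrderOf_dvd_of_nsmul_eq_zero h5) (addOrderOf_dvd_of_nsmul_eq_zero h4))

/-- If the top cohomology of a nonzero finite `p`-torsion sheaf vanishes over all finite separable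
extensions, the cohomological dimension drops. -/
theorem cohDimLEAt_pred {K : Type u} [Field K] {p n : ℕ} [Fact p.Prime]
    (hcd : Dix.CohDimLEAt (Spec (CommRingCat.of K)) p (n + 1)) (hT : TopVanish K p (n + 1)) :
    Dix.CohDimLEAt (Spec (CommRingCat.of K)) p n := fun F hF q hq => by
  rcases eq_or_lt_of_le (Nat.succ_le_of_lt hq) with rfl | hq'
  · exact subsingleton_of_forall_eq 0 fun x => FieldH25.primary_vanishes_of_finite K p _
      (fun G _ hG => subsingleton_H_finite_top _ K hT (SeparableClosure K) G le_rfl hG) F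
      (isTorsion_of_isPrimaryTorsion (Fact.out : p.Prime).pos hF) x (exists_pow_nsmul_eq_zero hF _ x)
  · exact hcd F hF q hq'

/-- The criterion: some finite separable extension sees the top degree. -/
theorem topVanish_of_sheaf {K : Type u} [Field K] {p n : ℕ} [Fact p.Prime]
    (hcd : Dix.CohDimLEAt (Spec (CommRingCat.of K)) p n) (F : EtCoh.Ab (Spec (CommRingCat.of K)))
    (hF : ∀ (Ω : Type u) [Field Ω] [IsSepClosed Ω] (ξ : Spec (CommRingCat.of Ω) ⟶ Spec (CommRingCat.of K)),
      Finite ((EtCoh.stalk ξ).obj F)) (hpF : p • 𝟙 F = 0) (hF0 : ¬ IsZero F)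
    (h : ∀ (L : Type u) [Field L] [Algebra K L] [FiniteDimensional K L] [Algebra.IsSeparable K L],
      Subsingleton (EtCoh.H (Spec (CommRingCat.of L)) ((EtCoh.pull (specExt K L)).obj F) n)) :
    TopVanish K p n := by
  intro L _ _ _ _
  let Ω := SeparableClosure L
  let G := (EtCoh.pull (specExt K L)).obj F
  haveI : Finite ((EtCoh.stalk (sepPt L Ω)).obj G) := by
    haveI := hF Ω (sepPt L Ω ≫ specExt K L)
    exact Finite.of_surjective _ (ConcreteCategory.bijective_of_isIso (stalkPull (specExt K L) (sepPt L Ω) F)).2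
  haveI : Nontrivial ((EtCoh.stalk (sepPt L Ω)).obj G) := by
    by_contra hnt
    rw [not_nontrivial_iff_subsingleton] at hnt
    refine hF0 ((IsZero.iff_id_eq_zero _).2 (Sheaf.hom_ext (NatTrans.ext (funext fun U => AddCommGrpCat.ext fun s => ?_))))
    letI : Algebra K Ω := ((algebraMap L Ω).comp (algebraMap K L)).toAlgebra
    haveI : IsScalarTower K L Ω := IsScalarTower.of_algebraMap_eq fun _ => rfl
    haveI : Algebra.IsSeparable K Ω := Algebra.IsSeparable.trans K L Ω
    refine FieldH25.sect_ext Ω F (U := U.unop) _ _ fun φ => ?_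
    haveI : Subsingleton ((EtCoh.stalk (sepPt K Ω)).obj F) := by
      rw [show sepPt K Ω = sepPt L Ω ≫ specExt K L from (specExt_comp K L Ω).symm]
      exact (ConcreteCategory.bijective_of_isIso (stalkPull (specExt K L) (sepPt L Ω) F)).1.subsingleton
    exact Subsingleton.elim _ _
  obtain ⟨M, _, _, hM⟩ := exists_split Ω G
  haveI : FiniteDimensional K M := Module.Finite.trans L M
  haveI : Algebra.IsSeparable K M := Algebra.IsSeparable.trans K L M
  obtain ⟨hM', hcard⟩ := surjective_germ_baseChange Ω G M M hM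
  let G' := (EtCoh.pull (specExt L M)).obj G
  haveI : Finite ((EtCoh.stalk (sepPt M Ω)).obj G') := Nat.finite_of_card_ne_zero (by rw [hcard]; exact Nat.card_pos.ne')
  haveI : Nontrivial ((EtCoh.stalk (sepPt M Ω)).obj G') := Finite.one_lt_card_iff_nontrivial.1
    (by rw [hcard]; exact Finite.one_lt_card)
  haveI : IsGalois M Ω := IsGalois.tower_top_of_isGalois L M Ω
  have hH : Subsingleton (EtCoh.H (Spec (CommRingCat.of M)) G' n) :=
    subsingleton_H_of_iso (((EtCore.pullCongr (specExt_comp K L M)).app F).symm ≪≫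
      (EtCore.pullComp (specExt L M) (specExt K L)).app F) n (h M)
  exact subsingleton_H_const_descend M (cohDimLEAt_finite_ext L hcd)
    (subsingleton_H_const_of_split Ω (cohDimLEAt_finite_ext M hcd) _ G' le_rfl
      (nsmul_id_functor_obj _ (nsmul_id_functor_obj _ hpF)) hM' hH)

/-- A nonzero constructible primary sheaf sees the top degree. -/
theorem exists_nontrivial_H_top {K : Type u} [Field K] {p n : ℕ} [Fact p.Prime]
    (hcd : Dix.CohDimLEAt (Spec (CommRingCat.of K)) p n)
    (hcd' : ∀ d : ℕ, d < n → ¬ Dix.CohDimLEAt (Spec (CommRingCat.of K)) p d)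
    (F : EtCoh.Ab (Spec (CommRingCat.of K))) (hF : Dix.IsPrimaryTorsion p F) (hFc : EtPBC.IsConstructible F)
    (hF0 : ¬ IsZero F) :
    ∃ (L : Type u) (_ : Field L) (_ : Algebra K L) (_ : Module.Finite K L) (_ : Algebra.IsSeparable K L),
      Nontrivial (EtCoh.H (Spec (CommRingCat.of L)) ((EtCoh.pull (specExt K L)).obj F) n) := by
  by_contra hcon
  push_neg at hcon
  let f : F ⟶ F := p • 𝟙 F
  let F1 := cokernel f
  have hp1 : p • 𝟙 F1 = 0 := by
    rw [← cancel_epi (cokernel.π f), Preadditive.comp_nsmul, Category.comp_id, comp_zero]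
    rw [show p • cokernel.π f = f ≫ cokernel.π f by
      rw [Preadditive.nsmul_comp, Category.id_comp], cokernel.condition]
  have hsurj : ∀ (Ω : Type u) [Field Ω] [IsSepClosed Ω] (ξ : Spec (CommRingCat.of Ω) ⟶ Spec (CommRingCat.of K)),
      Function.Surjective ((EtCoh.stalk ξ).map (cokernel.π f)) := fun Ω _ _ ξ =>
    (EtStalk.epi_iff_stalk (cokernel.π f)).1 inferInstance Ω ξ
  have hfin : ∀ (Ω : Type u) [Field Ω] [IsSepClosed Ω] (ξ : Spec (CommRingCat.of Ω) ⟶ Spec (CommRingCat.of K)),
      Finite ((EtCoh.stalk ξ).obj F1) := fun Ω _ _ ξ => by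
    haveI := Constr24.finite_stalk hFc ξ
    exact Finite.of_surjective _ (hsurj Ω ξ)
  have h10 : ¬ IsZero F1 := fun hz => by
    have hepi : Epi f := Preadditive.epi_of_isZero_cokernel f hz
    refine hF0 ((EtStalk.isZero_iff_stalk _).2 fun Ω _ _ ξ => ?_)
    haveI := Constr24.finite_stalk hFc ξ
    haveI : (EtCoh.stalk ξ).Additive := by
      haveI : (EtCoh.stalk ξ).IsLeftAdjoint := (Scheme.pointSmallEtale ξ).skyscraperSheafAdjunction.isLeftAdjoint
      exact Functor.additive_of_preserves_binary_products _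
    have hf : ∀ y, (EtCoh.stalk ξ).map f y = p • y := fun y => by
      show (EtCoh.stalk ξ).map (p • 𝟙 F) y = p • y
      rw [Functor.map_nsmul, CategoryTheory.Functor.map_id]
      rfl
    have hinj : Function.Injective ((EtCoh.stalk ξ).map f) :=
      Finite.injective_iff_surjective.2 ((EtStalk.epi_iff_stalk f).1 hepi Ω ξ)
    haveI : Subsingleton ((EtCoh.stalk ξ).obj F) := subsingleton_of_forall_eq 0 fun y => by
      obtain ⟨U, φ, s, rfl⟩ := germ_surjective _ _ y
      obtain ⟨V, g, ⟨v, hv⟩, k, hk⟩ := hF U s (fibPt φ)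
      have h := (mem_agree_iff_germ F φ (p ^ k • s) 0).1 ⟨V, g, ⟨v, hv⟩, by rw [map_nsmul, map_zero]; exact hk⟩
      rw [map_nsmul, map_zero] at h
      have key : ∀ (j : ℕ) (z : (EtCoh.stalk ξ).obj F), p ^ j • z = 0 → z = 0 := by
        intro j
        induction j with
        | zero => intro z hz; rwa [pow_zero, one_nsmul] at hz
        | succ j ih =>
          intro z hz
          refine hinj ?_
          rw [map_zero, hf]
          refine ih (p • z) ?_
          rw [smul_smul, ← pow_succ]
          exact hz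
      exact key k _ h
    exact AddCommGrpCat.isZero_of_subsingleton _
  have hT : TopVanish K p n := topVanish_of_sheaf hcd F1 hfin hp1 h10 fun L _ _ _ _ => by
    haveI : (EtCoh.pull (specExt K L)).IsLeftAdjoint := (EtCoh.pullPushAdj _).isLeftAdjoint
    exact subsingleton_H_right (cohDimLEAt_finite_ext L hcd) ((EtCoh.pull (specExt K L)).map (cokernel.π f))
      (isPrimaryTorsion_singleton (EtAcyc24.isLTorsion_pull (specExt K L) {p} (isLTorsion_singleton (Fact.out : p.Prime) hF))) (hcon L inferInstance inferInstance inferInstance inferInstance)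
  rcases n with _ | m
  · haveI := hT K
    obtain ⟨e⟩ := LocAcycBC6.nonempty_H0_const_addEquiv (Spec (CommRingCat.of K)) (ZMod p)
    haveI : Subsingleton (ZMod p) := e.symm.injective.subsingleton
    exact absurd (Subsingleton.elim (1 : ZMod p) 0) one_ne_zero
  · exact hcd' m (lt_add_one m) (cohDimLEAt_pred hcd hT)

end Groth.Agent.CdField3
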