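import Groth.Agent.Lib.GaCoh3.ZarAcyc
import Groth.Agent.Lib.CdField3.Nearby

/-!
# Direct images to the Zariski site above the affine cohomological dimension
-/

set_option autoImplicit false
set_option linter.style.haveILetI false
set_option maxHeartbeats 1000000
set_option backward.isDefEq.respectTransparency false
set_option backward.isDefEq.respectTransparency.types false

universe u

open CategoryTheory CategoryTheory.Limits AlgebraicGeometry Opposite Abelian

namespace Groth.Agent.CdField3

open Groth.Agent Groth.Agent.GaCoh3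

variable {X : Scheme.{u}}

theorem shortExact_resZar_aff {T : ShortComplex (EtCoh.Ab X)} (hT : T.ShortExact) (h1 : AffAcyclic T.X₁) :
    (T.map (EtZar.resZar X)).ShortExact := by
  haveI := hT.mono_f
  haveI := ((EtZar.zarToEt X).sheafAdjunctionContinuous AddCommGrpCat.{u + 1}
    (Opens.grothendieckTopology X) X.smallEtaleTopology).isRightAdjoint
  have hm : Mono ((EtZar.resZar X).map T.f) := inferInstance
  refine ShortComplex.ShortExact.mk' (hT.exact.map_of_mono_of_preservesKernel _ inferInstance inferInstance) hm ?_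
  haveI : Sheaf.IsLocallySurjective ((EtZar.resZar X).map T.g) := by
    refine ⟨fun {U} s x hx => ?_⟩
    obtain ⟨_, ⟨V, hV, rfl⟩, hxV, hle⟩ := X.isBasis_affineOpens.exists_subset_of_mem_open hx U.2
    refine ⟨V, homOfLE hle, ?_, hxV⟩
    exact surjective_of_affAcyclic hT h1 ((EtZar.zarToEt X).obj V) hV _
  exact Sheaf.epi_of_isLocallySurjective ((EtZar.resZar X).map T.g)

/-- Direct images to the Zariski site of sheaves acyclic on affine étale schemes vanish. -/
theorem isZero_rightDerived_resZar_aff [(EtZar.resZar X).Additive] :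
    ∀ (n : ℕ) (F : EtCoh.Ab X), AffAcyclic F → IsZero (((EtZar.resZar X).rightDerived (n + 1)).obj F) := by
  let G := EtZar.resZar X
  haveI := ((EtZar.zarToEt X).sheafAdjunctionContinuous AddCommGrpCat.{u + 1}
    (Opens.grothendieckTopology X) X.smallEtaleTopology).isRightAdjoint
  haveI : PreservesFiniteLimits G := inferInstance
  obtain ⟨L⟩ := RDerLES.nonempty_derivedLES G
  have hstep : ∀ (n : ℕ) (F : EtCoh.Ab X), L.δ (injSeq F) (injSeq_shortExact F) n (n + 1) rfl = 0 →
      IsZero ((G.rightDerived (n + 1)).obj F) := fun n F h => by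
    have hI : IsZero ((G.rightDerived (n + 1)).obj (injSeq F).X₂) :=
      Functor.isZero_rightDerived_obj_injective_succ _ _ _
    exact (L.exact₁ (injSeq F) (injSeq_shortExact F) n (n + 1) rfl).isZero_X₂ h (hI.eq_of_tgt _ _)
  intro n
  induction n with
  | zero =>
    intro F hF
    refine hstep 0 F ?_
    have hg : Epi ((G.rightDerived 0).map (injSeq F).g) := by
      have := (shortExact_resZar_aff (injSeq_shortExact F) hF).epi_g
      rw [← NatIso.naturality_2 G.rightDerivedZeroIsoSelf (injSeq F).g]
      have : Epi (G.map (injSeq F).g) := ‹_›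
      infer_instance
    exact (cancel_epi ((G.rightDerived 0).map (injSeq F).g)).1 (by rw [L.comp_δ, comp_zero])
  | succ n ih =>
    intro F hF
    haveI : Injective (injSeq F).X₂ := inferInstanceAs (Injective (Injective.under F))
    refine hstep (n + 1) F ((ih _ (affAcyclic_X₃ (injSeq_shortExact F) hF)).eq_of_src _ _)

/-- The dimension shift. -/
theorem affAcyclic_injSeq₃ {F : EtCoh.Ab X} (h1 : ∀ T : X.Etale, IsAffine T.left → ∀ i : ℕ, 2 ≤ i →
      Subsingleton (EtCoh.H T.left ((EtCoh.pull T.hom).obj F) i)) : AffAcyclic (injSeq F).X₃ := by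
  intro T hT i hi
  haveI : AlgebraicGeometry.Etale T.hom := T.prop
  have hS' := shortExact_restr T (injSeq_shortExact F)
  haveI : Injective (injSeq F).X₂ := inferInstanceAs (Injective (Injective.under F))
  haveI : Injective ((injSeq F).map (EtShriek.restrAlong T.hom)).X₂ := EtStalk.injective_restrAlong T.hom (injSeq F).X₂
  obtain ⟨m, rfl⟩ : ∃ m, i = m + 1 := ⟨i - 1, by omega⟩
  haveI : Subsingleton (EtCoh.H T.left ((EtShriek.restrAlong T.hom).obj F) (m + 2)) :=
    @GaCoh3.subsingleton_H_of_iso _ _ _ ((EtStalk.restrPullIso T.hom).app F).symm (m + 2) (h1 T hT (m + 2) (by omega))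
  haveI h3 : Subsingleton (EtCoh.H T.left ((EtShriek.restrAlong T.hom).obj (injSeq F).X₃) (m + 1)) :=
    ⟨fun a b => (postcomp_extClass_bijective hS' m).1
      (Subsingleton.elim (α := EtCoh.H T.left ((EtShriek.restrAlong T.hom).obj F) (m + 2)) _ _)⟩
  exact @GaCoh3.subsingleton_H_of_iso _ _ _ ((EtStalk.restrPullIso T.hom).app (injSeq F).X₃) (m + 1) h3

/-- On curves over separably closed fields `R^i` to the Zariski site vanishes for `i ≥ 2`. -/
theorem isZero_rightDerived_resZar_curve {k : Type u} [Field k] [IsSepClosed k]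
    (f : X ⟶ Spec (CommRingCat.of k)) [LocallyOfFiniteType f] (hdim : topologicalKrullDim X ≤ 1)
    [(EtZar.resZar X).Additive] (F : EtCoh.Ab X) (hF : EtCoh.IsTorsion F) (n : ℕ) :
    IsZero (((EtZar.resZar X).rightDerived (n + 2)).obj F) := by
  let G := EtZar.resZar X
  haveI := ((EtZar.zarToEt X).sheafAdjunctionContinuous AddCommGrpCat.{u + 1}
    (Opens.grothendieckTopology X) X.smallEtaleTopology).isRightAdjoint
  haveI : PreservesFiniteLimits G := inferInstance
  obtain ⟨L⟩ := RDerLES.nonempty_derivedLES G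
  have hI : IsZero ((G.rightDerived (n + 2)).obj (injSeq F).X₂) :=
    Functor.isZero_rightDerived_obj_injective_succ _ _ _
  have hQ : IsZero ((G.rightDerived (n + 1)).obj (injSeq F).X₃) := by
    refine isZero_rightDerived_resZar_aff n _ (affAcyclic_injSeq₃ fun T hT i hi => ?_)
    haveI : AlgebraicGeometry.Etale T.hom := T.prop
    haveI := AlgSpDecent.locallyQuasiFinite_of_etale T.hom
    haveI : IsAffine ((𝟭 Scheme).obj T.left) := hT
    have hd : topologicalKrullDim T.left ≤ (1 : ℕ) := by
      exact_mod_cast (AlgSpDecent.topologicalKrullDim_le_of_lqf T.hom).trans hdim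
    exact cohDimLE_affine_field (T.hom ≫ f) 1 0 hd (cohDimLE_zero_sepClosed k) _
      (FieldBr3.isTorsion_pull' _ hF) i (by omega)
  exact (L.exact₁ (injSeq F) (injSeq_shortExact F) (n + 1) (n + 2) rfl).isZero_X₂
    (hQ.eq_of_src _ _) (hI.eq_of_tgt _ _)

end Groth.Agent.CdField3
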